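import Mathlib.GroupTheory.SpecificGroups.Alternating
import Mathlib.Tactic

/-!
Carmichael's presentation of the alternating group: generators `(a b i)` with the relations
`x³ = 1` and `(x y)² = 1`.
-/

set_option autoImplicit false
set_option linter.style.haveILetI false

namespace CfsgLib.BPres

open Equiv Equiv.Perm

universe u v

section Bound

variable {G : Type v} [Group G] {α : Type u} [DecidableEq α]

theorem carmichael_bound (z : α → G) (J : Finset α) (h3 : ∀ i ∈ J, z i ^ 3 = 1)
    (h2 : ∀ i ∈ J, ∀ j ∈ J, i ≠ j → (z i * z j) ^ 2 = 1) :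
    Finite (Subgroup.closure (z '' (J : Set α))) ∧
      2 * Nat.card (Subgroup.closure (z '' (J : Set α))) ≤ (J.card + 2).factorial := by
  induction J using Finset.induction_on with
  | empty =>
    have hbot : Subgroup.closure (z '' ((∅ : Finset α) : Set α)) = ⊥ := by simp
    rw [hbot]
    exact ⟨inferInstance, by simp [Nat.factorial]⟩
  | @insert n J hn ih =>
    obtain ⟨hfin, hle⟩ := ih (fun i hi => h3 i (Finset.mem_insert_of_mem hi))
      (fun i hi j hj => h2 i (Finset.mem_insert_of_mem hi) j (Finset.mem_insert_of_mem hj))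
    set H := Subgroup.closure (z '' (J : Set α))
    set t := z n
    have ht3 : t * t = t⁻¹ := by
      rw [← mul_eq_one_iff_eq_inv, ← pow_two, ← pow_succ]; exact h3 n (Finset.mem_insert_self n J)
    have hzH : ∀ i ∈ J, z i ∈ H := fun i hi => Subgroup.subset_closure ⟨i, hi, rfl⟩
    -- consequences of `(x y)² = 1`
    have hflip : ∀ i ∈ insert n J, ∀ k ∈ insert n J, i ≠ k → z i * z k = (z k)⁻¹ * (z i)⁻¹ := by
      intro i hi k hk hik
      have := h2 i hi k hk hik
      rw [pow_two, mul_eq_one_iff_eq_inv, mul_inv_rev] at this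
      exact this
    have hne : ∀ i ∈ J, i ≠ n := fun i hi e => hn (e ▸ hi)
    have hA : ∀ k ∈ J, z k * t = t⁻¹ * (z k)⁻¹ := fun k hk =>
      hflip k (Finset.mem_insert_of_mem hk) n (Finset.mem_insert_self n J) (hne k hk)
    have hC : ∀ k ∈ J, (z k)⁻¹ * t⁻¹ = t * z k := fun k hk =>
      (hflip n (Finset.mem_insert_self n J) k (Finset.mem_insert_of_mem hk) (hne k hk).symm).symm
    have hD : ∀ k ∈ J, (z k)⁻¹ * t = z k * t⁻¹ * (z k)⁻¹ := fun k hk => by
      have hk3 : z k * z k = (z k)⁻¹ := by
        rw [← mul_eq_one_iff_eq_inv, ← pow_two, ← pow_succ]; exact h3 k (Finset.mem_insert_of_mem hk)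
      calc (z k)⁻¹ * t = z k * (z k * t) := by rw [← mul_assoc, hk3]
        _ = z k * t⁻¹ * (z k)⁻¹ := by rw [hA k hk, mul_assoc]
    set rep : Option (Option (Option J)) → G := fun o => o.elim 1
      (fun o' => o'.elim t (fun o'' => o''.elim t⁻¹ (fun i => z i * t⁻¹))) with hrep
    let U : Set G := {g | ∃ o, ∃ e ∈ H, g = rep o * e}
    have hone : ∀ e ∈ H, e ∈ U := fun e he => ⟨none, e, he, (one_mul e).symm⟩
    have hT : ∀ e ∈ H, t * e ∈ U := fun e he => ⟨some none, e, he, rfl⟩
    have hTi : ∀ e ∈ H, t⁻¹ * e ∈ U := fun e he => ⟨some (some none), e, he, rfl⟩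
    have hzT : ∀ i ∈ J, ∀ e ∈ H, z i * t⁻¹ * e ∈ U := fun i hi e he =>
      ⟨some (some (some ⟨i, hi⟩)), e, he, rfl⟩
    have step : ∀ k ∈ insert n J, ∀ x ∈ U, z k * x ∈ U := by
      intro k hk x hx
      obtain ⟨o, e, he, rfl⟩ := hx
      rcases Finset.mem_insert.1 hk with rfl | hkJ
      · rcases o with _ | _ | _ | ⟨i, hi⟩
        · show t * (1 * e) ∈ U
          rw [one_mul]; exact hT e he
        · show t * (t * e) ∈ U
          rw [← mul_assoc, ht3]; exact hTi e he
        · show t * (t⁻¹ * e) ∈ U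
          rw [mul_inv_cancel_left]; exact hone e he
        · show t * (z i * t⁻¹ * e) ∈ U
          have e1 : t * z i * t⁻¹ = z i * t⁻¹ * (z i)⁻¹ := by
            rw [← hC i hi, mul_assoc, ← mul_inv_rev, ht3, inv_inv, hD i hi]
          rw [← mul_assoc, ← mul_assoc, e1, mul_assoc]
          exact hzT i hi _ (H.mul_mem (H.inv_mem (hzH i hi)) he)
      · rcases o with _ | _ | _ | ⟨i, hi⟩
        · show z k * (1 * e) ∈ U
          rw [one_mul]; exact hone _ (H.mul_mem (hzH k hkJ) he)
        · show z k * (t * e) ∈ U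
          rw [← mul_assoc, hA k hkJ, mul_assoc]
          exact hTi _ (H.mul_mem (H.inv_mem (hzH k hkJ)) he)
        · show z k * (t⁻¹ * e) ∈ U
          rw [← mul_assoc]; exact hzT k hkJ e he
        · show z k * (z i * t⁻¹ * e) ∈ U
          by_cases hki : k = i
          · subst hki
            have hk3 : z k * z k = (z k)⁻¹ := by
              rw [← mul_eq_one_iff_eq_inv, ← pow_two, ← pow_succ]
              exact h3 k (Finset.mem_insert_of_mem hi)
            rw [← mul_assoc, ← mul_assoc, hk3, hC k hi, mul_assoc]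
            exact hT _ (H.mul_mem (hzH k hi) he)
          · have e1 : z k * z i * t⁻¹ = z i * t⁻¹ * (z i)⁻¹ * z k := by
              rw [hflip k (Finset.mem_insert_of_mem hkJ) i (Finset.mem_insert_of_mem hi) hki, mul_assoc,
                hC k hkJ, ← mul_assoc, hD i hi]
            rw [← mul_assoc, ← mul_assoc, e1, mul_assoc, mul_assoc]
            exact hzT i hi _ (H.mul_mem (H.inv_mem (hzH i hi)) (H.mul_mem (hzH k hkJ) he))
    have hsub : (Subgroup.closure (z '' ((insert n J : Finset α) : Set α)) : Set G) ⊆ U := by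
      intro g hg
      suffices ∀ x ∈ U, g * x ∈ U ∧ g⁻¹ * x ∈ U by simpa using (this 1 (hone 1 H.one_mem)).1
      induction hg using Subgroup.closure_induction with
      | mem y hy =>
        obtain ⟨i, hi, rfl⟩ := hy
        intro x hx
        refine ⟨step i hi x hx, ?_⟩
        have hi3 : z i * z i = (z i)⁻¹ := by
          rw [← mul_eq_one_iff_eq_inv, ← pow_two, ← pow_succ]; exact h3 i hi
        rw [← hi3, mul_assoc]; exact step i hi _ (step i hi x hx)
      | one => intro x hx; simpa using hx
      | mul a b _ _ ha hb =>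
        intro x hx
        exact ⟨by rw [mul_assoc]; exact (ha _ (hb x hx).1).1,
          by rw [mul_inv_rev, mul_assoc]; exact (hb _ (ha x hx).2).2⟩
      | inv a _ ha =>
        intro x hx
        exact ⟨(ha x hx).2, by rw [inv_inv]; exact (ha x hx).1⟩
    let F : Option (Option (Option J)) × H → G := fun p => rep p.1 * p.2
    have hsub' : (Subgroup.closure (z '' ((insert n J : Finset α) : Set α)) : Set G) ⊆ Set.range F :=
      fun g hg => by
        obtain ⟨o, e, he, rfl⟩ := hsub hg
        exact ⟨(o, ⟨e, he⟩), rfl⟩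
    have hfinr : (Set.range F).Finite := Set.finite_range F
    refine ⟨(hfinr.subset hsub').to_subtype, ?_⟩
    rw [Finset.card_insert_of_notMem hn]
    have hcount : Nat.card (Subgroup.closure (z '' ((insert n J : Finset α) : Set α))) ≤
        (J.card + 3) * Nat.card H := by
      refine le_trans (Nat.card_mono hfinr hsub') ?_
      refine le_trans (Finite.card_range_le F) ?_
      rw [Nat.card_prod, Nat.card_eq_fintype_card, Fintype.card_option, Fintype.card_option,
        Fintype.card_option, Fintype.card_coe]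
    calc 2 * _ ≤ 2 * ((J.card + 3) * Nat.card H) := Nat.mul_le_mul_left 2 hcount
      _ = (J.card + 3) * (2 * Nat.card H) := by ring
      _ ≤ (J.card + 3) * (J.card + 2).factorial := Nat.mul_le_mul_left _ hle
      _ = (J.card + 1 + 2).factorial := (Nat.factorial_succ (J.card + 2)).symm

end Bound

variable {α : Type u} [Fintype α] [DecidableEq α]

/-- The cycle `(a b i)`. -/
def cyc (a b i : α) : alternatingGroup α :=
  if h : a ≠ b ∧ a ≠ i then ⟨swap a i * swap a b, by
    rw [mem_alternatingGroup, map_mul, sign_swap h.2, sign_swap h.1]; rfl⟩ else 1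

theorem cyc_val {a b i : α} (hab : a ≠ b) (hai : a ≠ i) :
    (cyc a b i : Perm α) = swap a i * swap a b := by
  rw [cyc, dif_pos ⟨hab, hai⟩]

theorem cyc_apply_a {a b i : α} (hab : a ≠ b) (hai : a ≠ i) (hbi : b ≠ i) :
    (cyc a b i : Perm α) a = b := by
  rw [cyc_val hab hai]; simp [swap_apply_of_ne_of_ne hab.symm hbi]

theorem cyc_apply_b {a b i : α} (hab : a ≠ b) (hai : a ≠ i) :
    (cyc a b i : Perm α) b = i := by
  rw [cyc_val hab hai]; simp

theorem cyc_apply_i {a b i : α} (hab : a ≠ b) (hai : a ≠ i) (hbi : b ≠ i) :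
    (cyc a b i : Perm α) i = a := by
  rw [cyc_val hab hai]; simp [swap_apply_of_ne_of_ne hai.symm hbi.symm]

theorem cyc_apply_of_ne {a b i x : α} (hab : a ≠ b) (hai : a ≠ i) (h1 : x ≠ a) (h2 : x ≠ b)
    (h3 : x ≠ i) : (cyc a b i : Perm α) x = x := by
  rw [cyc_val hab hai]; simp [swap_apply_of_ne_of_ne h1 h2, swap_apply_of_ne_of_ne h1 h3]

theorem cyc_conj (σ : alternatingGroup α) {a b i : α} (hab : a ≠ b) (hai : a ≠ i) :
    σ * cyc a b i * σ⁻¹ = cyc ((σ : Perm α) a) ((σ : Perm α) b) ((σ : Perm α) i) := by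
  refine Subtype.ext ?_
  rw [Subgroup.coe_mul, Subgroup.coe_mul, Subgroup.coe_inv, cyc_val hab hai,
    cyc_val ((σ : Perm α).injective.ne hab) ((σ : Perm α).injective.ne hai), Equiv.swap_apply_apply,
    Equiv.swap_apply_apply]
  group

theorem cyc_cube {a b i : α} (hab : a ≠ b) (hai : a ≠ i) (hbi : b ≠ i) : cyc a b i ^ 3 = 1 := by
  refine Subtype.ext ?_
  push_cast
  rw [cyc_val hab hai]
  have h3 := (isThreeCycle_swap_mul_swap_same hai hab hbi.symm).orderOf
  have := pow_orderOf_eq_one (swap a i * swap a b)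
  rwa [h3] at this

theorem cyc_sq {a b i j : α} (hab : a ≠ b) (hai : a ≠ i) (hbi : b ≠ i) (haj : a ≠ j) (hbj : b ≠ j)
    (hij : i ≠ j) : (cyc a b i * cyc a b j) ^ 2 = 1 := by
  refine Subtype.ext ?_
  push_cast
  rw [cyc_val hab hai, cyc_val hab haj]
  have e : swap a b * (swap a j * swap a b) = swap b j := by
    have := Equiv.swap_apply_apply (swap a b) a j
    rw [swap_apply_left, swap_apply_of_ne_of_ne haj.symm hbj.symm, swap_inv] at this
    rw [← mul_assoc]; exact this.symm
  rw [mul_assoc, e]
  have hc : Commute (swap a i) (swap b j) := by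
    refine Equiv.Perm.Disjoint.commute fun x => ?_
    by_cases h1 : x = a ∨ x = i
    · right
      rcases h1 with rfl | rfl
      · exact swap_apply_of_ne_of_ne hab haj
      · exact swap_apply_of_ne_of_ne hbi.symm hij
    · exact Or.inl (swap_apply_of_ne_of_ne (fun h => h1 (Or.inl h)) (fun h => h1 (Or.inr h)))
  rw [hc.mul_pow, pow_two, pow_two, swap_mul_self, swap_mul_self, one_mul]

/-- The cycles through two points generate. -/
theorem closure_cyc {a b : α} (hab : a ≠ b) :
    Subgroup.closure {g | ∃ i, i ≠ a ∧ i ≠ b ∧ g = cyc a b i} = (⊤ : Subgroup (alternatingGroup α)) := by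
  set R := (Subgroup.closure {g | ∃ i, i ≠ a ∧ i ≠ b ∧ g = cyc a b i}).map (alternatingGroup α).subtype
  set s := swap a b
  have hgen : ∀ i, i ≠ a → i ≠ b → swap a i * s ∈ R := fun i h1 h2 =>
    ⟨cyc a b i, Subgroup.subset_closure ⟨i, h1, h2, rfl⟩, cyc_val hab h1.symm⟩
  have hs : ∀ x ∈ R, s * x * s ∈ R := by
    rintro _ ⟨y, hy, rfl⟩
    induction hy using Subgroup.closure_induction with
    | mem y hy =>
      obtain ⟨i, h1, h2, rfl⟩ := hy
      show s * (cyc a b i : Perm α) * s ∈ R
      rw [cyc_val hab h1.symm]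
      have := R.inv_mem (hgen i h1 h2)
      rw [mul_inv_rev, swap_inv, swap_inv] at this
      rw [show s * (swap a i * s) * s = s * swap a i * (s * s) by simp only [mul_assoc],
        swap_mul_self, mul_one]
      exact this
    | one => simp [s, R.one_mem]
    | mul x y _ _ hx hy =>
      have := R.mul_mem hx hy
      rw [map_mul]
      rwa [show s * (alternatingGroup α).subtype x * s * (s * (alternatingGroup α).subtype y * s) =
        s * ((alternatingGroup α).subtype x * (s * s) * (alternatingGroup α).subtype y) * s by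
          simp only [mul_assoc], swap_mul_self, mul_one] at this
    | inv x _ hx =>
      have := R.inv_mem hx
      rw [map_inv]
      simpa [s, mul_assoc] using this
  let P : Subgroup (Perm α) :=
    { carrier := {x | x ∈ R ∨ x * s ∈ R}
      one_mem' := Or.inl R.one_mem
      mul_mem' := by
        rintro x y (hx | hx) (hy | hy)
        · exact Or.inl (R.mul_mem hx hy)
        · exact Or.inr (by rw [mul_assoc]; exact R.mul_mem hx hy)
        · refine Or.inr ?_
          have := R.mul_mem hx (hs y hy)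
          rwa [show x * s * (s * y * s) = x * (s * s) * y * s by simp only [mul_assoc], swap_mul_self,
            mul_one] at this
        · refine Or.inl ?_
          have := R.mul_mem hx (hs _ hy)
          rwa [show x * s * (s * (y * s) * s) = x * (s * s) * y * (s * s) by simp only [mul_assoc],
            swap_mul_self, mul_one, mul_one] at this
      inv_mem' := by
        rintro x (hx | hx)
        · exact Or.inl (R.inv_mem hx)
        · refine Or.inr ?_
          have := hs _ (R.inv_mem hx)
          rwa [mul_inv_rev, swap_inv, show s * (s * x⁻¹) * s = s * s * (x⁻¹ * s) by simp only [mul_assoc],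
            swap_mul_self, one_mul] at this }
  have hsP : ∀ i, i ≠ a → swap a i ∈ P := by
    intro i hi
    rcases eq_or_ne i b with rfl | hib
    · exact Or.inr (by rw [swap_mul_self]; exact R.one_mem)
    · exact Or.inr (hgen i hi hib)
  have hall : ∀ σ : Perm α, σ ∈ P := by
    intro σ
    induction σ using Equiv.Perm.swap_induction_on with
    | one => exact P.one_mem
    | swap_mul f x y hxy ih =>
      refine P.mul_mem ?_ ih
      rcases eq_or_ne x a with rfl | hxa
      · exact hsP y hxy.symm
      rcases eq_or_ne y a with rfl | hya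
      · rw [swap_comm]; exact hsP x hxy
      have : swap x y = swap a x * swap a y * swap a x := by
        have := Equiv.swap_apply_apply (swap a x) a y
        rw [swap_apply_left, swap_apply_of_ne_of_ne hya hxy.symm, swap_inv] at this
        exact this
      rw [this]
      exact P.mul_mem (P.mul_mem (hsP x hxa) (hsP y hya)) (hsP x hxa)
  rw [eq_top_iff]
  rintro ⟨σ, hσ⟩ -
  rcases hall σ with h | h
  · obtain ⟨τ, hτ, rfl⟩ := h
    exact hτ
  · obtain ⟨τ, hτ, he⟩ := h
    have hsgn := congrArg Perm.sign he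
    rw [map_mul, sign_swap hab, show Perm.sign σ = 1 from hσ, one_mul] at hsgn
    rw [show Perm.sign ((alternatingGroup α).subtype τ) = 1 from τ.2] at hsgn
    exact absurd hsgn (by decide)

theorem hom_ext_cyc {G : Type*} [Group G] {a b : α} (hab : a ≠ b) {φ ψ : alternatingGroup α →* G}
    (h : ∀ i, i ≠ a → i ≠ b → φ (cyc a b i) = ψ (cyc a b i)) : φ = ψ := by
  refine MonoidHom.eq_of_eqOn_dense (closure_cyc hab) ?_
  rintro _ ⟨i, h1, h2, rfl⟩
  exact h i h1 h2

/-- **Carmichael.** -/
theorem carmichael {G : Type v} [Group G] {a b : α} (hab : a ≠ b) (z : α → G)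
    (h3 : ∀ i, i ≠ a → i ≠ b → z i ^ 3 = 1)
    (h2 : ∀ i j, i ≠ a → i ≠ b → j ≠ a → j ≠ b → i ≠ j → (z i * z j) ^ 2 = 1) :
    ∃ φ : alternatingGroup α →* G, ∀ i, i ≠ a → i ≠ b → φ (cyc a b i) = z i := by
  classical
  set J := (Finset.univ.erase a).erase b
  have hJ : ∀ i, i ∈ J ↔ i ≠ a ∧ i ≠ b := fun i => by simp [J, and_comm]
  let z' : α → G × alternatingGroup α := fun i => (z i, cyc a b i)
  set P := Subgroup.closure (z' '' (J : Set α))
  obtain ⟨hfin, hle⟩ := carmichael_bound z' J
    (fun i hi => Prod.ext (h3 i ((hJ i).1 hi).1 ((hJ i).1 hi).2)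
      (cyc_cube hab ((hJ i).1 hi).1.symm ((hJ i).1 hi).2.symm))
    (fun i hi j hj hij => Prod.ext
      (h2 i j ((hJ i).1 hi).1 ((hJ i).1 hi).2 ((hJ j).1 hj).1 ((hJ j).1 hj).2 hij)
      (cyc_sq hab ((hJ i).1 hi).1.symm ((hJ i).1 hi).2.symm ((hJ j).1 hj).1.symm ((hJ j).1 hj).2.symm hij))
  haveI := hfin
  let π : P →* alternatingGroup α := (MonoidHom.snd _ _).comp P.subtype
  have hsurj : Function.Surjective π := by
    rw [← MonoidHom.range_eq_top, eq_top_iff, ← closure_cyc hab, Subgroup.closure_le]
    rintro _ ⟨i, h1, h2', rfl⟩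
    exact ⟨⟨z' i, Subgroup.subset_closure ⟨i, (hJ i).2 ⟨h1, h2'⟩, rfl⟩⟩, rfl⟩
  haveI : Nontrivial α := ⟨⟨a, b, hab⟩⟩
  have hcard : J.card + 2 = Fintype.card α := by
    have hb : b ∈ Finset.univ.erase a := by simp [hab.symm]
    rw [Finset.card_erase_of_mem hb, Finset.card_erase_of_mem (Finset.mem_univ a), Finset.card_univ]
    have : 1 < Fintype.card α := Fintype.one_lt_card
    omega
  have hbij : Function.Bijective π := by
    refine hsurj.bijective_of_nat_card_le ?_
    rw [hcard] at hle
    change 2 * Nat.card P ≤ _ at hle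
    have h4 := two_mul_nat_card_alternatingGroup (α := α)
    rw [Nat.card_perm, Nat.card_eq_fintype_card (α := α)] at h4
    omega
  let e := MulEquiv.ofBijective π hbij
  refine ⟨((MonoidHom.fst _ _).comp P.subtype).comp e.symm.toMonoidHom, fun i h1 h2' => ?_⟩
  have he : e ⟨z' i, Subgroup.subset_closure ⟨i, (hJ i).2 ⟨h1, h2'⟩, rfl⟩⟩ = cyc a b i := rfl
  show (e.symm (cyc a b i)).1.1 = z i
  rw [← he, e.symm_apply_apply]

end CfsgLib.BPres
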