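import Cfsg.Agent.BPres.AltGlue

/-!
Every alternating group of degree at least four has a presentation with at most four generators and
twenty-one relations.
-/

set_option autoImplicit false

namespace CfsgLib.BPres

open Equiv Equiv.Perm

universe u

theorem hasPresN_alt_four : HasPresN (alternatingGroup (Fin 4)) 2 3 := by
  let X : FreeGroup (Fin 2) := FreeGroup.of 0
  let Y : FreeGroup (Fin 2) := FreeGroup.of 1
  let f : Fin 2 → alternatingGroup (Fin 4) := ![cyc 0 1 2, cyc 0 1 3]
  refine ⟨[X ^ 3, Y ^ 3, (X * Y) ^ 2], f, le_rfl, fun r hr => ?_, ?_, ?_⟩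
  · simp only [List.mem_cons, List.not_mem_nil, or_false] at hr
    rcases hr with rfl | rfl | rfl <;>
      simp only [map_pow, map_mul, X, Y, FreeGroup.lift_apply_of, f]
    · exact cyc_cube (a := (0 : Fin 4)) (b := 1) (i := 2) (by decide) (by decide) (by decide)
    · exact cyc_cube (a := (0 : Fin 4)) (b := 1) (i := 3) (by decide) (by decide) (by decide)
    · exact cyc_sq (a := (0 : Fin 4)) (b := 1) (i := 2) (j := 3) (by decide) (by decide) (by decide)
        (by decide) (by decide) (by decide)
  · rw [eq_top_iff, ← closure_cyc (show (0 : Fin 4) ≠ 1 by decide), Subgroup.closure_le]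
    rintro _ ⟨i, h1, h2, rfl⟩
    refine Subgroup.subset_closure ?_
    fin_cases i
    · exact absurd rfl h1
    · exact absurd rfl h2
    · exact ⟨0, rfl⟩
    · exact ⟨1, rfl⟩
  intro G _ f' hf'
  simp only [List.forall_mem_cons, List.not_mem_nil, false_imp_iff, implies_true, and_true, map_pow,
    map_mul, X, Y, FreeGroup.lift_apply_of] at hf'
  obtain ⟨r1, r2, r3⟩ := hf'
  have r3' : (f' 1 * f' 0) ^ 2 = 1 := by
    rw [show f' 1 * f' 0 = (f' 0)⁻¹ * (f' 0 * f' 1) * (f' 0)⁻¹⁻¹ by group, conj_pow, r3, mul_one,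
      mul_inv_cancel]
  obtain ⟨φ, hφ⟩ := carmichael (show (0 : Fin 4) ≠ 1 by decide) ![1, 1, f' 0, f' 1]
    (fun i h1 h2 => by fin_cases i <;> first | exact absurd rfl h1 | exact absurd rfl h2 | assumption)
    (fun i j hi1 hi2 hj1 hj2 hij => by
      fin_cases i <;> fin_cases j <;>
        first | exact absurd rfl hi1 | exact absurd rfl hi2 | exact absurd rfl hj1 |
          exact absurd rfl hj2 | exact absurd rfl hij | assumption)
  refine ⟨φ, fun i => ?_⟩
  fin_cases i
  · exact hφ 2 (by decide) (by decide)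
  · exact hφ 3 (by decide) (by decide)

/-- Four generators and at most twenty-one relations. -/
theorem hasPresN_alt {α : Type u} [Fintype α] [DecidableEq α] (hα : 6 ≤ Fintype.card α) :
    HasPresN (alternatingGroup α) 4 21 := by
  classical
  set n := Fintype.card α with hn
  suffices HasPresN (alternatingGroup (Fin n)) 4 21 from
    this.congr (Equiv.altCongrHom (Fintype.equivFin α).symm)
  obtain ⟨p, hp, hp1, hp2⟩ := Nat.exists_prime_lt_and_le_two_mul ((n - 2) / 2) (by omega)
  let g1 : Fin (p + 2) → Fin n := fun i => ⟨i.val, by omega⟩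
  let g2 : Fin (p + 2) → Fin n := fun i =>
    ⟨if i.val < 2 then i.val else i.val + (n - (p + 2)), by split_ifs <;> omega⟩
  have hg1 : Function.Injective g1 := fun i j e => Fin.ext (congrArg Fin.val e : _)
  have hg2 : Function.Injective g2 := fun i j e => by
    have := congrArg Fin.val e
    simp only [g2] at this
    split_ifs at this <;> exact Fin.ext (by omega)
  set I1 := Finset.univ.image g1
  set I2 := Finset.univ.image g2
  have hc1 : I1.card = p + 2 := by simp [I1, Finset.card_image_of_injective _ hg1]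
  have hc2 : I2.card = p + 2 := by simp [I2, Finset.card_image_of_injective _ hg2]
  have hm1 : ∀ i : Fin n, i.val < p + 2 → i ∈ I1 := fun i hi =>
    Finset.mem_image.2 ⟨⟨i.val, hi⟩, Finset.mem_univ _, rfl⟩
  have hun : I1 ∪ I2 = Finset.univ := by
    refine Finset.eq_univ_of_forall fun i => Finset.mem_union.2 ?_
    rcases Nat.lt_or_ge i.val (p + 2) with hi | hi
    · exact Or.inl (hm1 i hi)
    · refine Or.inr (Finset.mem_image.2 ⟨⟨i.val - (n - (p + 2)), by omega⟩, Finset.mem_univ _, Fin.ext ?_⟩)
      simp only [g2]; split_ifs <;> omega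
  have hsmall : ∀ k : Fin n, k.val < 2 → k ∈ I2 := fun k hk =>
    Finset.mem_image.2 ⟨⟨k.val, by omega⟩, Finset.mem_univ _, Fin.ext (by simp [g2, hk])⟩
  have hD : (I1 \ I2).card = (I2 \ I1).card := by
    rw [Finset.card_sdiff, Finset.card_sdiff, hc1, hc2, Finset.inter_comm]
  have hne2 : p ≠ 2 := by omega
  refine (glue (a := (⟨0, by omega⟩ : Fin n)) (b := ⟨1, by omega⟩) (by simp) I1 I2 (hm1 _ (by simp))
    (hsmall _ (by simp)) (hm1 _ (by simp)) (hsmall _ (by simp)) hun hD
    (hasPresN_alt_prime hp hne2 (by simp [hc1]))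
    (hasPresN_alt_prime hp hne2 (by simp [hc2]))).mono (by norm_num)

theorem hasPresN_alt_five {α : Type u} [Fintype α] [DecidableEq α] (hα : Fintype.card α = 5) :
    HasPresN (alternatingGroup α) 2 6 :=
  hasPresN_alt_prime Nat.prime_three (by norm_num) hα

/-- At most twenty-one relations. -/
theorem hasPres_alt {α : Type u} [Fintype α] [DecidableEq α] (hα : 4 ≤ Fintype.card α) :
    HasPres (alternatingGroup α) 21 := by
  classical
  rcases eq_or_lt_of_le hα with h4 | h5
  · exact ((hasPresN_alt_four.congr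
      (Equiv.altCongrHom (Fintype.equivFinOfCardEq h4.symm).symm)).hasPres).mono (by norm_num)
  rcases eq_or_lt_of_le (show 5 ≤ Fintype.card α by omega) with h5' | h6
  · exact (hasPresN_alt_five h5'.symm).hasPres.mono (by norm_num)
  · exact (hasPresN_alt h6).hasPres

end CfsgLib.BPres
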