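import Cfsg.Agent.BPres.Gens
import Cfsg.Agent.BPres.Carmichael
import Mathlib.RingTheory.IntegralDomain
import Mathlib.Data.ZMod.Basic

/-!
A presentation of the alternating group of degree `p + 2` with seven relations.
-/

set_option autoImplicit false
set_option linter.style.haveILetI false

namespace CfsgLib.BPres

open Equiv Equiv.Perm

universe u

theorem cyc_inv {α : Type u} [Fintype α] [DecidableEq α] {a b i : α} (hab : a ≠ b) (hai : a ≠ i)
    (hbi : b ≠ i) : (cyc a b i)⁻¹ = cyc b a i := by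
  refine Subtype.ext ?_
  rw [Subgroup.coe_inv, cyc_val hab hai, cyc_val hab.symm hbi, mul_inv_rev, swap_inv, swap_inv]
  have e : swap b i = swap a b * swap a i * swap a b := by
    have := Equiv.swap_apply_apply (swap a b) a i
    rw [swap_apply_left, swap_apply_of_ne_of_ne hai.symm hbi.symm, swap_inv] at this
    exact this
  rw [e, swap_comm b a, mul_assoc _ (swap a b) (swap a b), swap_mul_self, mul_one]

section Base

variable (p : ℕ) [Fact p.Prime]

/-- two points and a line -/
abbrev Pts := Bool ⊕ ZMod p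

local notation "α₀" => Pts p

/-- the cycle on the two points and `i` -/
abbrev zc (i : ZMod p) : alternatingGroup (Pts p) := cyc (Sum.inl false) (Sum.inl true) (Sum.inr i)

/-- the translation -/
def shift (hp : p ≠ 2) : alternatingGroup (Pts p) :=
  ⟨Equiv.sumCongr (Equiv.refl Bool) (Equiv.addLeft (1 : ZMod p)), by
    rw [mem_alternatingGroup, Equiv.Perm.sign_sumCongr, Equiv.Perm.sign_refl, one_mul]
    have hpow : ∀ k : ℕ, (Equiv.addLeft (1 : ZMod p) : Perm (ZMod p)) ^ k = Equiv.addLeft (k : ZMod p) := by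
      intro k
      induction k with
      | zero => ext x; simp
      | succ k ih => rw [pow_succ', ih]; ext x; simp; ring
    have h1 : (Equiv.addLeft (1 : ZMod p) : Perm (ZMod p)) ^ p = 1 := by
      rw [hpow, ZMod.natCast_self]; ext x; simp
    have h2 := congrArg Perm.sign h1
    rw [map_pow, map_one] at h2
    rcases Int.units_eq_one_or (Perm.sign (Equiv.addLeft (1 : ZMod p) : Perm (ZMod p))) with h | h
    · exact h
    · rw [h, ((Fact.out : p.Prime).odd_of_ne_two hp).neg_one_pow] at h2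
      exact absurd h2 (by decide)⟩

theorem shift_pow_apply (hp : p ≠ 2) (k : ℕ) :
    ((shift p hp ^ k : alternatingGroup (Pts p)) : Perm α₀) =
      Equiv.sumCongr (Equiv.refl Bool) (Equiv.addLeft (k : ZMod p)) := by
  induction k with
  | zero => ext x; cases x <;> simp
  | succ k ih =>
    rw [pow_succ', Subgroup.coe_mul, ih]
    ext x
    cases x <;> simp [shift]
    ring

/-- Six relations on the translation and one cycle. -/
theorem hasPresN_base (hp : p ≠ 2) : HasPresN (alternatingGroup (Pts p)) 2 6 := by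
  classical
  obtain ⟨g, hg⟩ := IsCyclic.exists_generator (α := (ZMod p)ˣ)
  -- the multiplication
  let μ : Perm (ZMod p) := Equiv.mulLeft₀ (g : ZMod p) g.ne_zero
  obtain ⟨h0, e, hh0, he⟩ : ∃ (h0 : alternatingGroup (Pts p)) (e : ℕ),
      (∀ i, (h0 : Perm α₀) (Sum.inr i) = Sum.inr ((g : ZMod p) * i)) ∧
      ((e = 1 ∧ ∀ c, (h0 : Perm α₀) (Sum.inl c) = Sum.inl c) ∨
        (e = 2 ∧ ∀ c, (h0 : Perm α₀) (Sum.inl c) = Sum.inl (!c))) := by
    rcases Int.units_eq_one_or (Perm.sign μ) with h | h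
    · exact ⟨⟨Equiv.sumCongr (Equiv.refl Bool) μ, by
        rw [mem_alternatingGroup, Equiv.Perm.sign_sumCongr, Equiv.Perm.sign_refl, one_mul, h]⟩, 1,
        fun i => rfl, Or.inl ⟨rfl, fun c => rfl⟩⟩
    · refine ⟨⟨Equiv.sumCongr (swap false true) μ, by
        rw [mem_alternatingGroup, Equiv.Perm.sign_sumCongr, sign_swap (by decide), h]; decide⟩, 2,
        fun i => rfl, Or.inr ⟨rfl, fun c => ?_⟩⟩
      cases c <;> simp
  set x0 := zc p 0
  set c0 := shift p hp
  have hne : ∀ i : ZMod p, (Sum.inl false : α₀) ≠ Sum.inr i := fun i => Sum.inl_ne_inr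
  have hne' : ∀ i : ZMod p, (Sum.inl true : α₀) ≠ Sum.inr i := fun i => Sum.inl_ne_inr
  have hft : (Sum.inl false : α₀) ≠ Sum.inl true := by simp
  have hc0 : ∀ k : ℕ, ∀ i, c0 ^ k * zc p i * (c0 ^ k)⁻¹ = zc p (k + i) := fun k i => by
    rw [cyc_conj _ hft (hne i), shift_pow_apply]; simp
  have hh0z : ∀ i, h0 * zc p i * h0⁻¹ = zc p ((g : ZMod p) * i) ^ e := fun i => by
    rw [cyc_conj _ hft (hne i), hh0]
    rcases he with ⟨rfl, hl⟩ | ⟨rfl, hl⟩
    · rw [hl, hl, pow_one]
    · rw [hl, hl]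
      have h3 := cyc_cube hft (hne ((g : ZMod p) * i)) (hne' _)
      rw [pow_succ, mul_eq_one_iff_eq_inv, cyc_inv hft (hne _) (hne' _)] at h3
      exact (h3.trans rfl).symm
  have hgen : Subgroup.closure (Set.range (zc p)) = ⊤ := by
    rw [eq_top_iff, ← closure_cyc hft]
    refine Subgroup.closure_mono ?_
    rintro _ ⟨i, h1, h2, rfl⟩
    rcases i with (_ | _) | i
    · exact absurd rfl h1
    · exact absurd rfl h2
    · exact ⟨i, rfl⟩
  obtain ⟨Wc, hWc⟩ := exists_word hgen c0
  obtain ⟨Wh, hWh⟩ := exists_word hgen h0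
  let C : FreeGroup (Fin 2) := FreeGroup.of 0
  let X : FreeGroup (Fin 2) := FreeGroup.of 1
  let S : ZMod p → FreeGroup (Fin 2) := fun i => C ^ i.val * X * (C ^ i.val)⁻¹
  let H : FreeGroup (Fin 2) := FreeGroup.lift S Wh
  let R : List (FreeGroup (Fin 2)) := [C ^ p, H * C * H⁻¹ * (C ^ (g : ZMod p).val)⁻¹, X ^ 3,
    H * X * H⁻¹ * (X ^ e)⁻¹, (X * (C * X * C⁻¹)) ^ 2, C * (FreeGroup.lift S Wc)⁻¹]
  let f : Fin 2 → alternatingGroup (Pts p) := ![c0, x0]
  have hfC : FreeGroup.lift f C = c0 := FreeGroup.lift_apply_of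
  have hfX : FreeGroup.lift f X = x0 := FreeGroup.lift_apply_of
  have hfS : (fun i => FreeGroup.lift f (S i)) = zc p := funext fun i => by
    simp only [S, map_mul, map_inv, map_pow, hfC, hfX]
    rw [hc0, ZMod.natCast_zmod_val, add_zero]
  have hfH : FreeGroup.lift f H = h0 := by simp only [H]; rw [lift_lift, hfS, hWh]
  refine ⟨R, f, le_rfl, fun r hr => ?_, ?_, ?_⟩
  · simp only [R, List.mem_cons, List.not_mem_nil, or_false] at hr
    rcases hr with rfl | rfl | rfl | rfl | rfl | rfl
    · rw [map_pow, hfC]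
      refine Subtype.ext ?_
      rw [shift_pow_apply, ZMod.natCast_self]
      ext y; cases y <;> simp
    · simp only [map_mul, map_inv, map_pow, hfC, hfH, mul_inv_eq_one]
      rw [mul_inv_eq_iff_eq_mul]
      refine Subtype.ext (Equiv.ext fun y => ?_)
      rw [Subgroup.coe_mul, Subgroup.coe_mul, shift_pow_apply, ZMod.natCast_zmod_val]
      rcases y with c | i
      · rcases he with ⟨-, hl⟩ | ⟨-, hl⟩ <;> simp [Equiv.Perm.mul_apply, hl, c0, shift]
      · simp only [Equiv.Perm.mul_apply, hh0, c0, shift, Equiv.sumCongr_apply, Sum.map_inr,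
          Equiv.coe_addLeft]
        congr 1; ring
    · rw [map_pow, hfX]; exact cyc_cube hft (hne 0) (hne' 0)
    · simp only [map_mul, map_inv, map_pow, hfX, hfH, mul_inv_eq_one]
      rw [hh0z, mul_zero]
    · simp only [map_pow, map_mul, map_inv, hfX, hfC]
      have := hc0 1 0
      rw [pow_one] at this
      rw [this]
      refine cyc_sq hft (hne _) (hne' _) (hne _) (hne' _) ?_
      simp
    · rw [map_mul, map_inv, lift_lift, hfC, hfS, hWc, mul_inv_cancel]
  · rw [eq_top_iff, ← hgen, Subgroup.closure_le]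
    rintro _ ⟨i, rfl⟩
    rw [← congrFun hfS i, SetLike.mem_coe, ← FreeGroup.range_lift_eq_closure]
    exact ⟨_, rfl⟩
  intro G _ f' hf'
  simp only [R, List.forall_mem_cons, List.not_mem_nil, false_imp_iff, implies_true, and_true] at hf'
  obtain ⟨r1, r2, r3, r4, r5, r6⟩ := hf'
  set c := f' 0
  set h := FreeGroup.lift f' H
  set x := f' 1
  have hC : FreeGroup.lift f' C = c := FreeGroup.lift_apply_of
  have hH : FreeGroup.lift f' H = h := rfl
  have hX : FreeGroup.lift f' X = x := FreeGroup.lift_apply_of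
  rw [map_pow, hC] at r1
  simp only [map_mul, map_inv, map_pow, hC, hH, hX, mul_inv_eq_one] at r2 r3 r4 r5
  let z : ℕ → G := fun k => c ^ k * x * (c ^ k)⁻¹
  have hmod : ∀ k : ℕ, c ^ k = c ^ ((k : ZMod p)).val := fun k => by
    conv_lhs => rw [← Nat.mod_add_div k p, pow_add, pow_mul, r1, one_pow, mul_one]
    rw [ZMod.val_natCast]
  have zmod : ∀ k l : ℕ, (k : ZMod p) = l → z k = z l := fun k l hkl => by
    show c ^ k * x * (c ^ k)⁻¹ = c ^ l * x * (c ^ l)⁻¹
    rw [hmod k, hmod l, hkl]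
  have z3 : ∀ k, z k ^ 3 = 1 := fun k => by rw [conj_pow, r3, mul_one, mul_inv_cancel]
  have hzk : ∀ k l, c ^ k * z l * (c ^ k)⁻¹ = z (k + l) := fun k l => by
    simp only [z, pow_add]; group
  have hconjh : ∀ k, h * z k * h⁻¹ = z ((g : ZMod p).val * k) ^ e := fun k => by
    have hck : h * c ^ k * h⁻¹ = c ^ ((g : ZMod p).val * k) := by
      rw [← conj_pow, r2, ← pow_mul]
    calc h * z k * h⁻¹ = (h * c ^ k * h⁻¹) * (h * x * h⁻¹) * (h * c ^ k * h⁻¹)⁻¹ := by
          simp only [z]; group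
      _ = _ := by rw [hck, r4, ← conj_pow]
  -- the pair relations from the first one
  have hpair : ∀ j : ℕ, (z 0 * z ((g : ZMod p).val ^ j)) ^ 2 = 1 := by
    intro j
    induction j with
    | zero => simpa [z] using r5
    | succ j ih =>
      have h1 : (h * z 0 * h⁻¹ * (h * z ((g : ZMod p).val ^ j) * h⁻¹)) ^ 2 = 1 := by
        rw [show h * z 0 * h⁻¹ * (h * z ((g : ZMod p).val ^ j) * h⁻¹) =
          h * (z 0 * z ((g : ZMod p).val ^ j)) * h⁻¹ by group, conj_pow, ih, mul_one, mul_inv_cancel]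
      rw [hconjh, hconjh, mul_zero, ← pow_succ'] at h1
      rcases he with ⟨he1, -⟩ | ⟨he1, -⟩
      · rwa [he1, pow_one, pow_one] at h1
      · rw [he1] at h1
        set A := z 0
        set B := z ((g : ZMod p).val ^ (j + 1))
        have hA : A ^ 2 = A⁻¹ := by rw [← mul_eq_one_iff_eq_inv, ← pow_succ]; exact z3 _
        have hB : B ^ 2 = B⁻¹ := by rw [← mul_eq_one_iff_eq_inv, ← pow_succ]; exact z3 _
        rw [hA, hB, ← mul_inv_rev, inv_pow, inv_eq_one] at h1
        rw [show A * B = B⁻¹ * (B * A) * B by group,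
          show B⁻¹ * (B * A) * B = B⁻¹ * (B * A) * (B⁻¹)⁻¹ by group, conj_pow, h1, mul_one,
          mul_inv_cancel]
  have hall : ∀ d : ℕ, (d : ZMod p) ≠ 0 → (z 0 * z d) ^ 2 = 1 := by
    intro d hd
    obtain ⟨j', hj'⟩ : ∃ j' : ℕ, g ^ j' = Units.mk0 _ hd := by
      have hmem : Units.mk0 _ hd ∈ Submonoid.powers g := by
        rw [mem_powers_iff_mem_zpowers]; exact hg _
      exact hmem
    rw [zmod d ((g : ZMod p).val ^ j') (by
      rw [Nat.cast_pow, ZMod.natCast_zmod_val, ← Units.val_pow_eq_pow_val, hj', Units.val_mk0])]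
    exact hpair j'
  have hsq : ∀ i j : ZMod p, i ≠ j → (z i.val * z j.val) ^ 2 = 1 := by
    intro i j hij
    have := hall (j - i).val (by rw [ZMod.natCast_zmod_val]; exact sub_ne_zero.2 hij.symm)
    rw [zmod j.val (i.val + (j - i).val) (by simp), ← hzk, show z i.val = c ^ i.val * z 0 * (c ^ i.val)⁻¹ by
      rw [hzk, add_zero]]
    rw [show c ^ i.val * z 0 * (c ^ i.val)⁻¹ * (c ^ i.val * z (j - i).val * (c ^ i.val)⁻¹) =
      c ^ i.val * (z 0 * z (j - i).val) * (c ^ i.val)⁻¹ by group, conj_pow, this, mul_one, mul_inv_cancel]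
  let z' : α₀ → G := fun y => y.elim (fun _ => 1) (fun i => z i.val)
  obtain ⟨φ, hφ⟩ := carmichael hft z'
    (fun i h1 h2 => by rcases i with _ | i <;> [exact one_pow 3; exact z3 _])
    (fun i j hi1 hi2 hj1 hj2 hij => by
      rcases i with (_ | _) | i
      · exact absurd rfl hi1
      · exact absurd rfl hi2
      rcases j with (_ | _) | j
      · exact absurd rfl hj1
      · exact absurd rfl hj2
      exact hsq i j fun hh => hij (congrArg Sum.inr hh))
  have hφz : ∀ i : ZMod p, φ (zc p i) = z i.val := fun i => hφ _ (hne i).symm (hne' i).symm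
  have hφS : (fun i => φ (zc p i)) = fun i => FreeGroup.lift f' (S i) := funext fun i => by
    rw [hφz]; simp only [S, z, map_mul, map_inv, map_pow, hC, hX]
  have hWc' : φ c0 = c := by
    rw [← hWc, lift_comp, hφS, ← lift_lift]
    have := r6
    rw [map_mul, map_inv, hC, mul_inv_eq_one] at this
    exact this.symm
  have hWh' : φ h0 = h := by
    rw [← hWh, lift_comp, hφS, ← lift_lift]
  refine ⟨φ, fun i => ?_⟩
  fin_cases i
  · exact hWc'
  · show φ x0 = x
    rw [hφz, ZMod.val_zero]; simp [z]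

end Base

/-- The alternating group of degree `p + 2`. -/
theorem hasPresN_alt_prime {α : Type u} [Fintype α] [DecidableEq α] {p : ℕ} (hp : p.Prime) (hp2 : p ≠ 2)
    (hα : Fintype.card α = p + 2) : HasPresN (alternatingGroup α) 2 6 := by
  haveI : Fact p.Prime := ⟨hp⟩
  have hc : Fintype.card (Pts p) = Fintype.card α := by
    rw [Fintype.card_sum, Fintype.card_bool, ZMod.card, hα, add_comm]
  exact (hasPresN_base p hp2).congr (Equiv.altCongrHom (Fintype.equivOfCardEq hc))

end CfsgLib.BPres
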