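import Cfsg.Agent.BPres.Carmichael
import Mathlib.GroupTheory.Perm.Fin

/-!
Alternating groups are generated by two elements.
-/

set_option autoImplicit false
set_option linter.style.haveILetI false

namespace CfsgLib.BPres

open Equiv Equiv.Perm

universe u

variable {n : ℕ}

/-- The rotation of the first `2 k + 1` points. -/
def rot (n k : ℕ) (h : 2 * k + 1 ≤ n) : alternatingGroup (Fin n) :=
  ⟨(finRotate (2 * k + 1)).extendDomain (p := fun i : Fin n => i.val < 2 * k + 1)
    { toFun := fun i => ⟨⟨i.val, by omega⟩, i.isLt⟩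
      invFun := fun i => ⟨i.1.val, i.2⟩
      left_inv := fun i => rfl
      right_inv := fun i => rfl }, by
    rw [mem_alternatingGroup, sign_extendDomain, sign_finRotate]
    exact Even.neg_one_pow ⟨k, by omega⟩⟩

theorem cyc_inv' {α : Type u} [Fintype α] [DecidableEq α] {a b i : α} (hab : a ≠ b) (hai : a ≠ i)
    (hbi : b ≠ i) : (cyc b a i)⁻¹ = cyc a b i := by
  refine Subtype.ext ?_
  rw [Subgroup.coe_inv, cyc_val hab.symm hbi, cyc_val hab hai, mul_inv_rev, swap_inv, swap_inv]
  have e : swap b i = swap a b * swap a i * swap a b := by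
    have := Equiv.swap_apply_apply (swap a b) a i
    rw [swap_apply_left, swap_apply_of_ne_of_ne hai.symm hbi.symm, swap_inv] at this
    exact this
  rw [e, swap_comm b a, ← mul_assoc, ← mul_assoc, swap_mul_self, one_mul]

theorem rot_apply {k : ℕ} (h : 2 * k + 1 ≤ n) {i : ℕ} (hi : i + 1 < 2 * k + 1) :
    (rot n k h : Perm (Fin n)) ⟨i, by omega⟩ = ⟨i + 1, by omega⟩ := by
  show (finRotate (2 * k + 1)).extendDomain _ _ = _
  rw [extendDomain_apply_subtype (p := fun i : Fin n => i.val < 2 * k + 1) _ _
    (show (fun i : Fin n => i.val < 2 * k + 1) ⟨i, by omega⟩ by simp only; omega)]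
  apply Fin.ext
  show (finRotate (2 * k + 1) ⟨i, _⟩).val = i + 1
  rw [finRotate_succ_apply, Fin.val_add_one_of_lt]
  rw [Fin.lt_def]
  simp; omega

theorem closure_odd {k : ℕ} (hn : 3 ≤ n) (hk : 2 * k + 1 ≤ n) (hk' : n ≤ 2 * k + 1) :
    ∃ S : Finset (alternatingGroup (Fin n)), S.card ≤ 2 ∧
    Subgroup.closure (S : Set (alternatingGroup (Fin n))) = ⊤ := by
  classical
  let P : ℕ → Fin n := fun i => if h : i < n then ⟨i, h⟩ else ⟨0, by omega⟩
  have hP : ∀ i, i < n → (P i).val = i := fun i h => by simp [P, h]
  have hne : ∀ i j, i < n → j < n → i ≠ j → P i ≠ P j := fun i j hi hj hij e =>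
    hij (by rw [← hP i hi, ← hP j hj, e])
  set x := cyc (P 0) (P 1) (P 2)
  set r := rot n k hk
  refine ⟨{x, r}, Finset.card_le_two, ?_⟩
  set K := Subgroup.closure (({x, r} : Finset _) :
    Set (alternatingGroup (Fin n)))
  have hx : x ∈ K := Subgroup.subset_closure (by simp)
  have hr : r ∈ K := Subgroup.subset_closure (by simp)
  have hcons : ∀ i, i + 2 < 2 * k + 1 → cyc (P i) (P (i + 1)) (P (i + 2)) ∈ K := by
    intro i
    induction i with
    | zero => exact fun _ => hx
    | succ i ih =>
      intro hi
      have e := cyc_conj r (hne i (i + 1) (by omega) (by omega) (by omega))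
        (hne i (i + 2) (by omega) (by omega) (by omega))
      have hstep : ∀ j, j + 1 < 2 * k + 1 → (r : Perm (Fin n)) (P j) = P (j + 1) := fun j hj => by
        simp only [P, dif_pos (show j < n by omega), dif_pos (show j + 1 < n by omega)]
        exact rot_apply hk hj
      rw [hstep i (by omega), hstep (i + 1) (by omega), hstep (i + 2) (by omega)] at e
      rw [← e]
      exact K.mul_mem (K.mul_mem hr (ih (by omega))) (K.inv_mem hr)
  have hall : ∀ i, 2 ≤ i → i < 2 * k + 1 → cyc (P 0) (P 1) (P i) ∈ K := by
    intro i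
    induction i using Nat.strong_induction_on with
    | _ i ih =>
      intro h2 hi
      rcases eq_or_lt_of_le h2 with rfl | h3
      · exact hx
      obtain ⟨j, rfl⟩ : ∃ j, i = j + 2 := ⟨i - 2, by omega⟩
      have hz1 := ih (j + 1) (by omega) (by omega) (by omega)
      have h01 : P 0 ≠ P 1 := hne 0 1 (by omega) (by omega) (by omega)
      have hbase := hcons j (by omega)
      rcases eq_or_lt_of_le (show 1 ≤ j by omega) with rfl | hj2
      · -- the first step
        have e1 := cyc_conj x (hne 1 2 (by omega) (by omega) (by omega))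
          (hne 1 3 (by omega) (by omega) (by omega))
        rw [cyc_apply_b h01 (hne 0 2 (by omega) (by omega) (by omega)),
          cyc_apply_i h01 (hne 0 2 (by omega) (by omega) (by omega)) (hne 1 2 (by omega) (by omega) (by omega)),
          cyc_apply_of_ne h01 (hne 0 2 (by omega) (by omega) (by omega)) (hne 3 0 (by omega) (by omega) (by omega))
            (hne 3 1 (by omega) (by omega) (by omega)) (hne 3 2 (by omega) (by omega) (by omega))] at e1
        have e2 := cyc_conj x (hne 2 0 (by omega) (by omega) (by omega))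
          (hne 2 3 (by omega) (by omega) (by omega))
        rw [cyc_apply_i h01 (hne 0 2 (by omega) (by omega) (by omega)) (hne 1 2 (by omega) (by omega) (by omega)),
          cyc_apply_a h01 (hne 0 2 (by omega) (by omega) (by omega)) (hne 1 2 (by omega) (by omega) (by omega)),
          cyc_apply_of_ne h01 (hne 0 2 (by omega) (by omega) (by omega)) (hne 3 0 (by omega) (by omega) (by omega))
            (hne 3 1 (by omega) (by omega) (by omega)) (hne 3 2 (by omega) (by omega) (by omega))] at e2
        rw [← e2, ← e1]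
        exact K.mul_mem (K.mul_mem hx (K.mul_mem (K.mul_mem hx hbase) (K.inv_mem hx))) (K.inv_mem hx)
      have hz0 := ih j (by omega) (by omega) (by omega)
      set x1 := cyc (P 0) (P 1) (P (j + 1))
      set x0 := cyc (P 0) (P 1) (P j)
      have e1 := cyc_conj x1 (hne j (j + 1) (by omega) (by omega) (by omega))
        (hne j (j + 2) (by omega) (by omega) (by omega))
      rw [cyc_apply_of_ne h01 (hne 0 (j + 1) (by omega) (by omega) (by omega))
          (hne j 0 (by omega) (by omega) (by omega)) (hne j 1 (by omega) (by omega) (by omega))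
          (hne j (j + 1) (by omega) (by omega) (by omega)),
        cyc_apply_i h01 (hne 0 (j + 1) (by omega) (by omega) (by omega))
          (hne 1 (j + 1) (by omega) (by omega) (by omega)),
        cyc_apply_of_ne h01 (hne 0 (j + 1) (by omega) (by omega) (by omega))
          (hne (j + 2) 0 (by omega) (by omega) (by omega)) (hne (j + 2) 1 (by omega) (by omega) (by omega))
          (hne (j + 2) (j + 1) (by omega) (by omega) (by omega))] at e1
      have e2 := cyc_conj x0 (hne j 0 (by omega) (by omega) (by omega))
        (hne j (j + 2) (by omega) (by omega) (by omega))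
      rw [cyc_apply_i h01 (hne 0 j (by omega) (by omega) (by omega)) (hne 1 j (by omega) (by omega) (by omega)),
        cyc_apply_a h01 (hne 0 j (by omega) (by omega) (by omega)) (hne 1 j (by omega) (by omega) (by omega)),
        cyc_apply_of_ne h01 (hne 0 j (by omega) (by omega) (by omega))
          (hne (j + 2) 0 (by omega) (by omega) (by omega)) (hne (j + 2) 1 (by omega) (by omega) (by omega))
          (hne (j + 2) j (by omega) (by omega) (by omega))] at e2
      rw [← e2, ← e1]
      exact K.mul_mem (K.mul_mem hz0 (K.mul_mem (K.mul_mem hz1 hbase) (K.inv_mem hz1))) (K.inv_mem hz0)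
  rw [eq_top_iff, ← closure_cyc (hne 0 1 (by omega) (by omega) (by omega)), Subgroup.closure_le]
  rintro _ ⟨i, h1, h2, rfl⟩
  have hi : i = P i.val := Fin.ext (hP _ i.isLt).symm
  have hi2 : 2 ≤ i.val := by
    by_contra hlt
    rcases Nat.lt_or_ge i.val 1 with h | h
    · exact h1 (hi.trans (congrArg P (by omega)))
    · exact h2 (hi.trans (congrArg P (by omega)))
  rw [hi]
  exact hall _ hi2 (by omega)

theorem closure_even {k : ℕ} (hk : 1 ≤ k) :
    ∃ S : Finset (alternatingGroup (Fin (2 * k + 1 + 1))), S.card ≤ 2 ∧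
    Subgroup.closure (S : Set (alternatingGroup (Fin (2 * k + 1 + 1)))) = ⊤ := by
  classical
  set m := 2 * k + 1 with hm
  let e : Fin m ↪ Fin (m + 1) := Fin.succEmb m
  let r : alternatingGroup (Fin (m + 1)) := ⟨(rot m k le_rfl : Perm (Fin m)).viaFintypeEmbedding e, by
    rw [mem_alternatingGroup, viaFintypeEmbedding_sign]; exact (rot m k le_rfl).2⟩
  let P : ℕ → Fin (m + 1) := fun i => if h : i < m + 1 then ⟨i, h⟩ else 0
  have hP : ∀ i, i < m + 1 → (P i).val = i := fun i h => by simp only [P, dif_pos h]
  have hne : ∀ i j, i < m + 1 → j < m + 1 → i ≠ j → P i ≠ P j := fun i j hi hj hij e =>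
    hij (by rw [← hP i hi, ← hP j hj, e])
  set x := cyc (P 0) (P 1) (P 2)
  refine ⟨{x, r}, Finset.card_le_two, ?_⟩
  set K := Subgroup.closure (({x, r} : Finset _) : Set (alternatingGroup (Fin (m + 1))))
  have hx : x ∈ K := Subgroup.subset_closure (by simp)
  have hr : r ∈ K := Subgroup.subset_closure (by simp)
  have r0 : (r : Perm (Fin (m + 1))) (P 0) = P 0 :=
    viaFintypeEmbedding_apply_notMem_range _ _ fun ⟨y, hy⟩ => by
      have := congrArg Fin.val hy
      rw [hP 0 (by omega)] at this
      exact Nat.succ_ne_zero _ this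
  have rs : ∀ i, i + 1 < m → (r : Perm (Fin (m + 1))) (P (i + 1)) = P (i + 2) := fun i hi => by
    have e1 : P (i + 1) = e ⟨i, by omega⟩ := Fin.ext ((hP _ (by omega)).trans rfl)
    have e2 : P (i + 2) = e ⟨i + 1, hi⟩ := Fin.ext ((hP _ (by omega)).trans rfl)
    rw [e1, e2]
    exact (viaFintypeEmbedding_apply_image _ _ _).trans (congrArg e (rot_apply le_rfl hi))
  have hcons : ∀ i, i + 2 < m + 1 → cyc (P 0) (P (i + 1)) (P (i + 2)) ∈ K := by
    intro i
    induction i with
    | zero => exact fun _ => hx
    | succ i ih =>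
      intro hi
      have e := cyc_conj r (hne 0 (i + 1) (by omega) (by omega) (by omega))
        (hne 0 (i + 2) (by omega) (by omega) (by omega))
      rw [r0, rs i (by omega), rs (i + 1) (by omega)] at e
      rw [← e]
      exact K.mul_mem (K.mul_mem hr (ih (by omega))) (K.inv_mem hr)
  have h01 : P 0 ≠ P 1 := hne 0 1 (by omega) (by omega) (by omega)
  have hall : ∀ i, i + 2 < m + 1 → cyc (P 0) (P 1) (P (i + 2)) ∈ K := by
    intro i
    induction i with
    | zero => exact fun _ => hx
    | succ i ih =>
      intro hi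
      have h0i : P 0 ≠ P (i + 2) := hne 0 (i + 2) (by omega) (by omega) (by omega)
      have h1i : P 1 ≠ P (i + 2) := hne 1 (i + 2) (by omega) (by omega) (by omega)
      set xi := cyc (P 0) (P 1) (P (i + 2))
      have e1 := cyc_conj xi h0i (hne 0 (i + 3) (by omega) (by omega) (by omega))
      rw [cyc_apply_a h01 h0i h1i, cyc_apply_i h01 h0i h1i,
        cyc_apply_of_ne h01 h0i (hne (i + 3) 0 (by omega) (by omega) (by omega))
          (hne (i + 3) 1 (by omega) (by omega) (by omega))
          (hne (i + 3) (i + 2) (by omega) (by omega) (by omega))] at e1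
      rw [show i + 1 + 2 = i + 3 by omega,
        ← cyc_inv' h01 (hne 0 (i + 3) (by omega) (by omega) (by omega))
          (hne 1 (i + 3) (by omega) (by omega) (by omega)), ← e1]
      exact K.inv_mem (K.mul_mem (K.mul_mem (ih (by omega)) (hcons (i + 1) hi)) (K.inv_mem (ih (by omega))))
  rw [eq_top_iff, ← closure_cyc h01, Subgroup.closure_le]
  rintro _ ⟨i, h1, h2, rfl⟩
  have hi : i = P i.val := Fin.ext (hP _ i.isLt).symm
  have hi2 : 2 ≤ i.val := by
    by_contra hlt
    rcases Nat.lt_or_ge i.val 1 with h | h
    · exact h1 (hi.trans (congrArg P (by omega)))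
    · exact h2 (hi.trans (congrArg P (by omega)))
  rw [hi, show i.val = (i.val - 2) + 2 by omega]
  exact hall _ (by omega)

theorem closure_two (hn : 3 ≤ n) : ∃ S : Finset (alternatingGroup (Fin n)), S.card ≤ 2 ∧
    Subgroup.closure (S : Set (alternatingGroup (Fin n))) = ⊤ := by
  rcases Nat.even_or_odd n with ⟨j, hj⟩ | ⟨j, hj⟩
  · obtain ⟨k, rfl⟩ : ∃ k, n = 2 * k + 1 + 1 := ⟨j - 1, by omega⟩
    exact closure_even (by omega)
  · exact closure_odd (k := j) hn (by omega) (by omega)

/-- Two generators of an alternating group. -/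
theorem exists_gens (α : Type u) [Fintype α] [DecidableEq α] :
    ∃ S : Finset (alternatingGroup α), S.card ≤ 2 ∧
      Subgroup.closure (S : Set (alternatingGroup α)) = ⊤ := by
  classical
  rcases Nat.lt_or_ge (Fintype.card α) 3 with h | h
  · haveI : Subsingleton (alternatingGroup α) := by
      rw [← Fintype.card_le_one_iff_subsingleton, ← Nat.card_eq_fintype_card]
      rcases subsingleton_or_nontrivial α with hs | hs
      · exact (Finite.card_le_one_iff_subsingleton).2 inferInstance
      have h4 := two_mul_nat_card_alternatingGroup (α := α)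
      rw [Nat.card_perm, Nat.card_eq_fintype_card (α := α)] at h4
      have := Fintype.one_lt_card (α := α)
      rw [show Fintype.card α = 2 by omega, Nat.factorial_two] at h4
      omega
    exact ⟨∅, by simp, Subsingleton.elim _ _⟩
  obtain ⟨S, hS, hgen⟩ := closure_two h
  let e := Equiv.altCongrHom (Fintype.equivFin α).symm
  refine ⟨S.image e, Finset.card_image_le.trans hS, ?_⟩
  rw [Finset.coe_image, show (⇑e '' ↑S) = e.toMonoidHom '' ↑S from rfl, ← MonoidHom.map_closure, hgen,
    ← MonoidHom.range_eq_map, MonoidHom.range_eq_top]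
  exact e.surjective

end CfsgLib.BPres
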