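import Cfsg.Agent.BPres.AltBase
import Cfsg.Agent.BPres.AltGen
import Mathlib.NumberTheory.Bertrand

/-!
Gluing two alternating groups: every alternating group of degree at least four has a presentation
with at most thirty relations.
-/

set_option autoImplicit false
set_option linter.style.haveILetI false
set_option linter.unusedSectionVars false

namespace CfsgLib.BPres

open Equiv Equiv.Perm

universe u v

section Emb

variable {β : Type u} {γ : Type v} [Fintype β] [DecidableEq β] [Fintype γ] [DecidableEq γ]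

/-- An injection gives a map of alternating groups. -/
def altEmb (e : β ↪ γ) : alternatingGroup β →* alternatingGroup γ where
  toFun σ := ⟨(σ : Perm β).viaFintypeEmbedding e, by
    rw [mem_alternatingGroup, viaFintypeEmbedding_sign]; exact σ.2⟩
  map_one' := Subtype.ext (Equiv.Perm.extendDomain_one _)
  map_mul' σ τ := Subtype.ext (Equiv.Perm.extendDomain_mul _ _ _).symm

theorem altEmb_apply (e : β ↪ γ) (σ : alternatingGroup β) (x : β) :
    (altEmb e σ : Perm γ) (e x) = e ((σ : Perm β) x) :=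
  viaFintypeEmbedding_apply_image _ _ x

theorem altEmb_apply_outside (e : β ↪ γ) (σ : alternatingGroup β) {y : γ} (hy : y ∉ Set.range e) :
    (altEmb e σ : Perm γ) y = y :=
  viaFintypeEmbedding_apply_notMem_range _ _ hy

theorem altEmb_cyc (e : β ↪ γ) {a b i : β} (hab : a ≠ b) (hai : a ≠ i) :
    altEmb e (cyc a b i) = cyc (e a) (e b) (e i) := by
  refine Subtype.ext (Equiv.ext fun y => ?_)
  rw [cyc_val (e.injective.ne hab) (e.injective.ne hai), Perm.mul_apply]
  by_cases hy : y ∈ Set.range e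
  · obtain ⟨x, rfl⟩ := hy
    rw [altEmb_apply, cyc_val hab hai, Perm.mul_apply, e.injective.swap_apply, e.injective.swap_apply]
  · have h : ∀ x, y ≠ e x := fun x hx => hy ⟨x, hx.symm⟩
    rw [altEmb_apply_outside e _ hy, swap_apply_of_ne_of_ne (h a) (h b),
      swap_apply_of_ne_of_ne (h a) (h i)]

theorem altEmb_disjoint {δ : Type u} [Fintype δ] [DecidableEq δ] (e : β ↪ γ) (e' : δ ↪ γ)
    (h : ∀ x y, e x ≠ e' y) (σ : alternatingGroup β) (τ : alternatingGroup δ) :
    Commute (altEmb e σ) (altEmb e' τ) := by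
  refine Subtype.ext (Perm.Disjoint.commute (fun y => ?_)).eq
  by_cases hy : y ∈ Set.range e
  · obtain ⟨x, rfl⟩ := hy
    exact Or.inr (altEmb_apply_outside e' τ fun ⟨z, hz⟩ => h x z hz.symm)
  · exact Or.inl (altEmb_apply_outside e σ hy)

/-- An even permutation moving one point to another. -/
theorem exists_move (h : 3 ≤ Fintype.card β) (i j : β) :
    ∃ σ : alternatingGroup β, (σ : Perm β) i = j := by
  classical
  rcases eq_or_ne i j with rfl | hij
  · exact ⟨1, rfl⟩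
  obtain ⟨k, hk⟩ : ∃ k, k ∉ ({i, j} : Finset β) := by
    have h2 : ({i, j} : Finset β).card < (Finset.univ : Finset β).card := by
      rw [Finset.card_univ]
      have := Finset.card_le_two (a := i) (b := j)
      omega
    obtain ⟨k, -, hk⟩ := Finset.exists_mem_notMem_of_card_lt_card h2
    exact ⟨k, hk⟩
  simp only [Finset.mem_insert, Finset.mem_singleton, not_or] at hk
  exact ⟨cyc i j k, cyc_apply_a hij (Ne.symm hk.1) (Ne.symm hk.2)⟩

end Emb

section Glue

variable {α : Type u} [Fintype α] [DecidableEq α]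

/-- the inclusion of a smaller set -/
def subEmb {s t : Finset α} (h : s ⊆ t) : s ↪ t :=
  ⟨fun x => ⟨x.1, h x.2⟩, fun _ _ e => Subtype.ext (Subtype.mk.inj e)⟩

/-- the inclusion of a set -/
def valEmb (s : Finset α) : s ↪ α := Function.Embedding.subtype _

theorem altEmb_sub {s t : Finset α} (h : s ⊆ t) (σ : alternatingGroup s) :
    altEmb (valEmb t) (altEmb (subEmb h) σ) = altEmb (valEmb s) σ := by
  refine Subtype.ext (Equiv.ext fun y => ?_)
  by_cases hy : y ∈ t
  · rw [show y = valEmb t ⟨y, hy⟩ from rfl, altEmb_apply]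
    by_cases hys : y ∈ s
    · rw [show (⟨y, hy⟩ : t) = subEmb h ⟨y, hys⟩ from rfl, altEmb_apply]
      show _ = (altEmb (valEmb s) σ : Perm α) (valEmb s ⟨y, hys⟩)
      rw [altEmb_apply]; rfl
    · rw [altEmb_apply_outside (subEmb h) σ (y := ⟨y, hy⟩)
        (fun ⟨z, hz⟩ => hys (by rw [show y = z.1 from (congrArg Subtype.val hz).symm]; exact z.2)),
        altEmb_apply_outside (valEmb s) σ (y := valEmb t ⟨y, hy⟩) fun ⟨z, hz⟩ => hys (by
          rw [show y = valEmb t ⟨y, hy⟩ from rfl, ← hz]; exact z.2)]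
  · rw [altEmb_apply_outside _ _ (fun ⟨z, hz⟩ => hy (hz ▸ z.2)),
      altEmb_apply_outside _ _ (fun ⟨z, hz⟩ => hy (hz ▸ h z.2))]

/-- Two alternating groups with overlapping sets. -/
theorem glue {a b : α} (hab : a ≠ b) (I1 I2 : Finset α) (ha1 : a ∈ I1) (ha2 : a ∈ I2) (hb1 : b ∈ I1)
    (hb2 : b ∈ I2) (hun : I1 ∪ I2 = Finset.univ)
    (hD : (I1 \ I2).card = (I2 \ I1).card) {k1 k2 r1 r2 : ℕ} (h1 : HasPresN (alternatingGroup I1) k1 r1)
    (h2 : HasPresN (alternatingGroup I2) k2 r2) : HasPresN (alternatingGroup α) (k1 + k2) (r1 + r2 + 9) := by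
  classical
  obtain ⟨R1, f1, hR1, P1⟩ := h1
  obtain ⟨R2, f2, hR2, P2⟩ := h2
  let β1 := Fin k1
  let β2 := Fin k2
  set D1 := I1 \ I2
  set D2 := I2 \ I1
  have hD1 : D1 ⊆ I1 := Finset.sdiff_subset
  have hD2 : D2 ⊆ I2 := Finset.sdiff_subset
  set K := I1 ∩ I2
  have hK1 : K ⊆ I1 := Finset.inter_subset_left
  have hK2 : K ⊆ I2 := Finset.inter_subset_right
  obtain ⟨SK, hSK, hSKgen⟩ := exists_gens K
  obtain ⟨S1, hS1, hS1gen⟩ := exists_gens D1
  obtain ⟨S2, hS2, hS2gen⟩ := exists_gens D2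
  obtain ⟨T2, hT2, hT2gen⟩ := exists_gens I2
  choose W1 hW1 using exists_word P1.gen
  choose W2 hW2 using exists_word P2.gen
  let L : alternatingGroup I1 → FreeGroup (β1 ⊕ β2) := fun σ => FreeGroup.map Sum.inl (W1 σ)
  let M : alternatingGroup I2 → FreeGroup (β1 ⊕ β2) := fun σ => FreeGroup.map Sum.inr (W2 σ)
  let z1 : I1 → alternatingGroup I1 := cyc ⟨a, ha1⟩ ⟨b, hb1⟩
  let z2 : I2 → alternatingGroup I2 := cyc ⟨a, ha2⟩ ⟨b, hb2⟩
  let comm : FreeGroup (β1 ⊕ β2) → FreeGroup (β1 ⊕ β2) → FreeGroup (β1 ⊕ β2) :=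
    fun u v => u * v * (v * u)⁻¹
  let Rid := SK.toList.map fun s => L (altEmb (subEmb hK1) s) * (M (altEmb (subEmb hK2) s))⁻¹
  let R12 : List (FreeGroup (β1 ⊕ β2)) :=
    if D1.card ≤ 2 ∧ D2.card ≤ 2 then
      (D1.attach ×ˢ D2.attach).toList.map fun ij => (L (z1 (subEmb hD1 ij.1)) * M (z2 (subEmb hD2 ij.2))) ^ 2
    else if h : D1.Nonempty ∧ D2.Nonempty then
      (S1 ×ˢ T2).toList.map (fun st => comm (L (altEmb (subEmb hD1) st.1)) (M st.2)) ++
      S2.toList.map (fun t =>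
        comm (L (z1 (subEmb hD1 ⟨h.1.choose, h.1.choose_spec⟩))) (M (altEmb (subEmb hD2) t))) ++
      [(L (z1 (subEmb hD1 ⟨h.1.choose, h.1.choose_spec⟩)) *
        M (z2 (subEmb hD2 ⟨h.2.choose, h.2.choose_spec⟩))) ^ 2]
    else []
  let R := R1.map (FreeGroup.map Sum.inl) ++ R2.map (FreeGroup.map Sum.inr) ++ Rid ++ R12
  let ι1 := altEmb (valEmb I1)
  let ι2 := altEmb (valEmb I2)
  let f : β1 ⊕ β2 → alternatingGroup α := Sum.elim (fun i => ι1 (f1 i)) (fun i => ι2 (f2 i))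
  have hmapl : ∀ {G : Type u} [Group G] (g : β1 ⊕ β2 → G) (r : FreeGroup β1),
      FreeGroup.lift g (FreeGroup.map Sum.inl r) = FreeGroup.lift (fun i => g (Sum.inl i)) r := by
    intro G _ g r
    exact DFunLike.congr_fun (FreeGroup.ext_hom ((FreeGroup.lift g).comp (FreeGroup.map Sum.inl))
      (FreeGroup.lift fun i => g (Sum.inl i)) fun i => by simp) r
  have hmapr : ∀ {G : Type u} [Group G] (g : β1 ⊕ β2 → G) (r : FreeGroup β2),
      FreeGroup.lift g (FreeGroup.map Sum.inr r) = FreeGroup.lift (fun i => g (Sum.inr i)) r := by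
    intro G _ g r
    exact DFunLike.congr_fun (FreeGroup.ext_hom ((FreeGroup.lift g).comp (FreeGroup.map Sum.inr))
      (FreeGroup.lift fun i => g (Sum.inr i)) fun i => by simp) r
  have hfL : ∀ σ, FreeGroup.lift f (L σ) = ι1 σ := fun σ => by
    rw [hmapl, ← hW1 σ, lift_comp, hW1]; rfl
  have hfM : ∀ σ, FreeGroup.lift f (M σ) = ι2 σ := fun σ => by
    rw [hmapr, ← hW2 σ, lift_comp, hW2]; rfl
  have hιz1 : ∀ i : I1, i.1 ≠ a → ι1 (z1 i) = cyc a b i.1 := fun i hi =>
    altEmb_cyc _ (fun e => hab (congrArg Subtype.val e)) fun e => hi (congrArg Subtype.val e).symm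
  have hιz2 : ∀ i : I2, i.1 ≠ a → ι2 (z2 i) = cyc a b i.1 := fun i hi =>
    altEmb_cyc _ (fun e => hab (congrArg Subtype.val e)) fun e => hi (congrArg Subtype.val e).symm
  have hmem1 : ∀ i ∈ D1, i ∈ I1 ∧ i ∉ I2 := fun i hi => Finset.mem_sdiff.1 hi
  have hmem2 : ∀ i ∈ D2, i ∈ I2 ∧ i ∉ I1 := fun i hi => Finset.mem_sdiff.1 hi
  have hne1 : ∀ i ∈ D1, i ≠ a ∧ i ≠ b := fun i hi =>
    ⟨fun e => (hmem1 i hi).2 (e ▸ ha2), fun e => (hmem1 i hi).2 (e ▸ hb2)⟩
  have hne2 : ∀ i ∈ D2, i ≠ a ∧ i ≠ b := fun i hi =>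
    ⟨fun e => (hmem2 i hi).2 (e ▸ ha1), fun e => (hmem2 i hi).2 (e ▸ hb1)⟩
  refine hasPresN_of (R := R) (f := f) ⟨fun r hr => ?_, ?_, ?_⟩ (by simp) ?_
  rotate_left 3
  · have h1l : Rid.length ≤ 2 := by simp [Rid]; exact hSK
    have h2l : R12.length ≤ 7 := by
      simp only [R12]
      split_ifs with hsmall h
      · simp only [List.length_map, Finset.length_toList, Finset.card_product, Finset.card_attach]
        nlinarith [hsmall.1, hsmall.2]
      · simp only [List.length_append, List.length_map, Finset.length_toList, Finset.card_product,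
          List.length_cons, List.length_nil]
        nlinarith [hS1, hS2, hT2]
      · simp
    simp only [R, List.length_append, List.length_map]
    omega
  · simp only [R, List.mem_append, List.mem_map] at hr
    rcases hr with ((⟨s, hs, rfl⟩ | ⟨s, hs, rfl⟩) | hr) | hr
    · rw [hmapl]
      exact (lift_comp ι1 f1 s).symm.trans (by rw [P1.rel s hs, map_one])
    · rw [hmapr]
      exact (lift_comp ι2 f2 s).symm.trans (by rw [P2.rel s hs, map_one])
    · obtain ⟨s, -, rfl⟩ := List.mem_map.1 hr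
      rw [map_mul, map_inv, hfL, hfM, altEmb_sub, altEmb_sub, mul_inv_cancel]
    · have hsq : ∀ (i : D1) (j : D2),
          FreeGroup.lift f ((L (z1 (subEmb hD1 i)) * M (z2 (subEmb hD2 j))) ^ 2) = 1 := by
        intro i j
        rw [map_pow, map_mul, hfL, hfM, hιz1 (subEmb hD1 i) (hne1 _ i.2).1,
          hιz2 (subEmb hD2 j) (hne2 _ j.2).1]
        exact cyc_sq hab (hne1 _ i.2).1.symm (hne1 _ i.2).2.symm (hne2 _ j.2).1.symm (hne2 _ j.2).2.symm
          fun e => (hmem1 _ i.2).2 (e ▸ (hmem2 _ j.2).1)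
      simp only [R12] at hr
      split_ifs at hr with hsmall h
      · obtain ⟨ij, -, rfl⟩ := List.mem_map.1 hr
        exact hsq _ _
      · simp only [List.mem_append, List.mem_map, List.mem_singleton] at hr
        rcases hr with (⟨st, -, rfl⟩ | ⟨t, -, rfl⟩) | rfl
        · simp only [comm, map_mul, map_inv, mul_inv_eq_one, hfL, hfM]
          rw [altEmb_sub]
          exact altEmb_disjoint _ _ (fun x y => fun (e : x.1 = y.1) => (hmem1 _ x.2).2 (e ▸ y.2)) _ _
        · simp only [comm, map_mul, map_inv, mul_inv_eq_one, hfL, hfM]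
          rw [altEmb_sub]
          exact altEmb_disjoint _ _ (fun x y => fun (e : x.1 = y.1) => (hmem2 _ y.2).2 (e ▸ x.2)) _ _
        · exact hsq _ _
      · simp at hr
  · rw [eq_top_iff, ← closure_cyc hab, Subgroup.closure_le]
    rintro _ ⟨i, hia, hib, rfl⟩
    rw [← FreeGroup.range_lift_eq_closure, SetLike.mem_coe]
    have hi : i ∈ I1 ∪ I2 := hun ▸ Finset.mem_univ i
    rcases Finset.mem_union.1 hi with h | h
    · exact ⟨L (z1 ⟨i, h⟩), (hfL _).trans (hιz1 _ hia)⟩
    · exact ⟨M (z2 ⟨i, h⟩), (hfM _).trans (hιz2 _ hia)⟩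
  intro G _ f' hf'
  have hmapl' : ∀ r : FreeGroup β1,
      FreeGroup.lift f' (FreeGroup.map Sum.inl r) = FreeGroup.lift (fun i => f' (Sum.inl i)) r :=
    fun r => DFunLike.congr_fun (FreeGroup.ext_hom ((FreeGroup.lift f').comp (FreeGroup.map Sum.inl))
      (FreeGroup.lift fun i => f' (Sum.inl i)) fun i => by simp) r
  have hmapr' : ∀ r : FreeGroup β2,
      FreeGroup.lift f' (FreeGroup.map Sum.inr r) = FreeGroup.lift (fun i => f' (Sum.inr i)) r :=
    fun r => DFunLike.congr_fun (FreeGroup.ext_hom ((FreeGroup.lift f').comp (FreeGroup.map Sum.inr))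
      (FreeGroup.lift fun i => f' (Sum.inr i)) fun i => by simp) r
  obtain ⟨φ1, hφ1⟩ := P1.univ G (fun i => f' (Sum.inl i)) fun s hs => by
    rw [← hmapl']; exact hf' _ (by simp only [R, List.mem_append, List.mem_map]; exact Or.inl (Or.inl (Or.inl ⟨s, hs, rfl⟩)))
  obtain ⟨φ2, hφ2⟩ := P2.univ G (fun i => f' (Sum.inr i)) fun s hs => by
    rw [← hmapr']; exact hf' _ (by simp only [R, List.mem_append, List.mem_map]; exact Or.inl (Or.inl (Or.inr ⟨s, hs, rfl⟩)))
  have hL : ∀ σ, FreeGroup.lift f' (L σ) = φ1 σ := fun σ => by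
    rw [hmapl', ← hW1 σ, lift_comp, hW1, show (fun i => φ1 (f1 i)) = _ from funext hφ1]
  have hM : ∀ σ, FreeGroup.lift f' (M σ) = φ2 σ := fun σ => by
    rw [hmapr', ← hW2 σ, lift_comp, hW2, show (fun i => φ2 (f2 i)) = _ from funext hφ2]
  have hagree : φ1.comp (altEmb (subEmb hK1)) = φ2.comp (altEmb (subEmb hK2)) := by
    refine MonoidHom.eq_of_eqOn_dense hSKgen fun s hs => ?_
    have := hf' (L (altEmb (subEmb hK1) s) * (M (altEmb (subEmb hK2) s))⁻¹)
      (by simp only [R, List.mem_append]; exact Or.inl (Or.inr (List.mem_map.2 ⟨s, Finset.mem_toList.2 hs, rfl⟩)))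
    rwa [map_mul, map_inv, hL, hM, mul_inv_eq_one] at this
  have hcross : ∀ (i : D1) (j : D2), (φ1 (z1 (subEmb hD1 i)) * φ2 (z2 (subEmb hD2 j))) ^ 2 = 1 := by
    intro i j
    by_cases hsmall : D1.card ≤ 2 ∧ D2.card ≤ 2
    · have := hf' ((L (z1 (subEmb hD1 i)) * M (z2 (subEmb hD2 j))) ^ 2) (by
        simp only [R, R12, if_pos hsmall, List.mem_append]
        exact Or.inr (List.mem_map.2 ⟨(i, j), by simp, rfl⟩))
      rwa [map_pow, map_mul, hL, hM] at this
    have hne : D1.Nonempty ∧ D2.Nonempty := ⟨⟨i.1, i.2⟩, ⟨j.1, j.2⟩⟩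
    set i0 : D1 := ⟨hne.1.choose, hne.1.choose_spec⟩
    set j0 : D2 := ⟨hne.2.choose, hne.2.choose_spec⟩
    have hin : ∀ r ∈ (S1 ×ˢ T2).toList.map (fun st => comm (L (altEmb (subEmb hD1) st.1)) (M st.2)) ++
        S2.toList.map (fun t => comm (L (z1 (subEmb hD1 i0))) (M (altEmb (subEmb hD2) t))) ++
        [(L (z1 (subEmb hD1 i0)) * M (z2 (subEmb hD2 j0))) ^ 2], FreeGroup.lift f' r = 1 := fun r hr =>
      hf' r (by simp only [R, R12, if_neg hsmall, dif_pos hne, List.mem_append]; exact Or.inr (by simpa [or_assoc] using hr))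
    have hbase : (φ1 (z1 (subEmb hD1 i0)) * φ2 (z2 (subEmb hD2 j0))) ^ 2 = 1 := by
      have := hin _ (List.mem_append.2 (Or.inr (List.mem_singleton.2 rfl)))
      rwa [map_pow, map_mul, hL, hM] at this
    have hc2 : ∀ τ, Commute (φ1 (z1 (subEmb hD1 i0))) (φ2 (altEmb (subEmb hD2) τ)) := by
      intro τ
      have hτ : τ ∈ Subgroup.closure (S2 : Set (alternatingGroup D2)) := by rw [hS2gen]; trivial
      induction hτ using Subgroup.closure_induction with
      | mem t ht =>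
        have := hin (comm (L (z1 (subEmb hD1 i0))) (M (altEmb (subEmb hD2) t))) (List.mem_append.2
          (Or.inl (List.mem_append.2 (Or.inr (List.mem_map.2 ⟨t, Finset.mem_toList.2 ht, rfl⟩)))))
        simpa only [comm, map_mul, map_inv, mul_inv_eq_one, hL, hM, commute_iff_eq] using this
      | one => rw [map_one, map_one]; exact Commute.one_right _
      | mul x y _ _ hx hy => rw [map_mul, map_mul]; exact hx.mul_right hy
      | inv x _ hx => rw [map_inv, map_inv]; exact hx.inv_right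
    have hc1 : ∀ σ τ, Commute (φ1 (altEmb (subEmb hD1) σ)) (φ2 τ) := by
      intro σ τ
      have hσ : σ ∈ Subgroup.closure (S1 : Set (alternatingGroup D1)) := by rw [hS1gen]; trivial
      induction hσ using Subgroup.closure_induction with
      | mem s hs =>
        have hτ : τ ∈ Subgroup.closure (T2 : Set (alternatingGroup I2)) := by rw [hT2gen]; trivial
        induction hτ using Subgroup.closure_induction with
        | mem t ht =>
          have := hin (comm (L (altEmb (subEmb hD1) s)) (M t)) (List.mem_append.2 (Or.inl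
            (List.mem_append.2 (Or.inl (List.mem_map.2 ⟨(s, t), by simp [Finset.mem_coe.1 hs, Finset.mem_coe.1 ht], rfl⟩)))))
          simpa only [comm, map_mul, map_inv, mul_inv_eq_one, hL, hM, commute_iff_eq] using this
        | one => rw [map_one]; exact Commute.one_right _
        | mul x y _ _ hx hy => rw [map_mul]; exact hx.mul_right hy
        | inv x _ hx => rw [map_inv]; exact hx.inv_right
      | one => rw [map_one, map_one]; exact Commute.one_left _
      | mul x y _ _ hx hy => rw [map_mul, map_mul]; exact hx.mul_left hy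
      | inv x _ hx => rw [map_inv, map_inv]; exact hx.inv_left
    have move2 : ∃ τ : alternatingGroup D2, (τ : Perm D2) j0 = j := by
      rcases eq_or_ne j0 j with rfl | hjj
      · exact ⟨1, rfl⟩
      refine exists_move ?_ _ _
      rw [Fintype.card_coe]
      by_contra hlt
      exact hsmall ⟨by omega, by omega⟩
    have move1 : ∃ σ : alternatingGroup D1, (σ : Perm D1) i0 = i := by
      rcases eq_or_ne i0 i with rfl | hii
      · exact ⟨1, rfl⟩
      refine exists_move ?_ _ _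
      rw [Fintype.card_coe]
      by_contra hlt
      exact hsmall ⟨by omega, by omega⟩
    obtain ⟨τ, hτ⟩ := move2
    obtain ⟨σ, hσ⟩ := move1
    have hfix2 : ∀ (w : alternatingGroup D2) (x : I2), x.1 ∈ I1 →
        (altEmb (subEmb hD2) w : Perm I2) x = x := fun w x hx =>
      altEmb_apply_outside _ _ fun ⟨z, hz⟩ => (hmem2 _ z.2).2 (by rw [← hz] at hx; exact hx)
    have hfix1 : ∀ (w : alternatingGroup D1) (x : I1), x.1 ∈ I2 →
        (altEmb (subEmb hD1) w : Perm I1) x = x := fun w x hx =>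
      altEmb_apply_outside _ _ fun ⟨z, hz⟩ => (hmem1 _ z.2).2 (by rw [← hz] at hx; exact hx)
    set A := φ2 (altEmb (subEmb hD2) τ)
    have e2 : A * φ2 (z2 (subEmb hD2 j0)) * A⁻¹ = φ2 (z2 (subEmb hD2 j)) := by
      rw [← map_inv, ← map_mul, ← map_mul, cyc_conj _ (fun e => hab (congrArg Subtype.val e))
        (fun e => (hne2 _ j0.2).1 (congrArg Subtype.val e).symm), hfix2 τ _ ha1, hfix2 τ _ hb1,
        altEmb_apply, hτ]
    set B := φ1 (altEmb (subEmb hD1) σ)
    have e1 : B * φ1 (z1 (subEmb hD1 i0)) * B⁻¹ = φ1 (z1 (subEmb hD1 i)) := by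
      rw [← map_inv, ← map_mul, ← map_mul, cyc_conj _ (fun e => hab (congrArg Subtype.val e))
        (fun e => (hne1 _ i0.2).1 (congrArg Subtype.val e).symm), hfix1 σ _ ha2, hfix1 σ _ hb2,
        altEmb_apply, hσ]
    have h3 : (φ1 (z1 (subEmb hD1 i0)) * φ2 (z2 (subEmb hD2 j))) ^ 2 = 1 := by
      rw [← e2, show φ1 (z1 (subEmb hD1 i0)) * (A * φ2 (z2 (subEmb hD2 j0)) * A⁻¹) =
        (φ1 (z1 (subEmb hD1 i0)) * A) * φ2 (z2 (subEmb hD2 j0)) * A⁻¹ by group, (hc2 τ).eq,
        show A * φ1 (z1 (subEmb hD1 i0)) * φ2 (z2 (subEmb hD2 j0)) * A⁻¹ =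
          A * (φ1 (z1 (subEmb hD1 i0)) * φ2 (z2 (subEmb hD2 j0))) * A⁻¹ by group,
        conj_pow, hbase, mul_one, mul_inv_cancel]
    rw [← e1, mul_assoc _ B⁻¹, ((hc1 σ (z2 (subEmb hD2 j))).inv_left).eq,
      show B * φ1 (z1 (subEmb hD1 i0)) * (φ2 (z2 (subEmb hD2 j)) * B⁻¹) =
        B * (φ1 (z1 (subEmb hD1 i0)) * φ2 (z2 (subEmb hD2 j))) * B⁻¹ by group,
      conj_pow, h3, mul_one, mul_inv_cancel]
  let z : α → G := fun i =>
    if h : i ∈ I1 then φ1 (z1 ⟨i, h⟩) else if h' : i ∈ I2 then φ2 (z2 ⟨i, h'⟩) else 1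
  have hz1 : ∀ i (h : i ∈ I1), z i = φ1 (z1 ⟨i, h⟩) := fun i h => by simp [z, h]
  have hz2 : ∀ i (h : i ∈ I2), i ≠ a → z i = φ2 (z2 ⟨i, h⟩) := fun i h hia => by
    by_cases h' : i ∈ I1
    · rw [hz1 i h']
      have hk : i ∈ K := Finset.mem_inter.2 ⟨h', h⟩
      have hakK : a ∈ K := Finset.mem_inter.2 ⟨ha1, ha2⟩
      have hbK : b ∈ K := Finset.mem_inter.2 ⟨hb1, hb2⟩
      have := DFunLike.congr_fun hagree (cyc ⟨a, hakK⟩ ⟨b, hbK⟩ ⟨i, hk⟩)
      rw [MonoidHom.comp_apply, MonoidHom.comp_apply,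
        altEmb_cyc _ (fun e => hab (congrArg Subtype.val e)) (fun e => hia (congrArg Subtype.val e).symm),
        altEmb_cyc _ (fun e => hab (congrArg Subtype.val e)) (fun e => hia (congrArg Subtype.val e).symm)] at this
      exact this
    · simp [z, h', h]
  have hcase : ∀ i, i ∉ I1 → i ∈ I2 := fun i h =>
    (Finset.mem_union.1 (hun ▸ Finset.mem_univ i)).resolve_left h
  have hsub : ∀ {x y : α} {s : Finset α} {hx : x ∈ s} {hy : y ∈ s}, x ≠ y → (⟨x, hx⟩ : s) ≠ ⟨y, hy⟩ :=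
    fun h e => h (congrArg Subtype.val e)
  obtain ⟨φ, hφ⟩ := carmichael hab z
    (fun i hia hib => by
      by_cases h : i ∈ I1
      · rw [hz1 i h, ← map_pow, show z1 _ ^ 3 = 1 from cyc_cube (hsub hab) (hsub hia.symm) (hsub hib.symm), map_one]
      · rw [hz2 i (hcase i h) hia, ← map_pow,
          show z2 _ ^ 3 = 1 from cyc_cube (hsub hab) (hsub hia.symm) (hsub hib.symm), map_one])
    (fun i j hia hib hja hjb hij => by
      by_cases hi : i ∈ I1 ∧ j ∈ I1
      · rw [hz1 i hi.1, hz1 j hi.2, ← map_mul, ← map_pow]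
        rw [show (z1 _ * z1 _) ^ 2 = 1 from cyc_sq (hsub hab) (hsub hia.symm) (hsub hib.symm) (hsub hja.symm)
          (hsub hjb.symm) (hsub hij), map_one]
      by_cases hi' : i ∈ I2 ∧ j ∈ I2
      · rw [hz2 i hi'.1 hia, hz2 j hi'.2 hja, ← map_mul, ← map_pow]
        rw [show (z2 _ * z2 _) ^ 2 = 1 from cyc_sq (hsub hab) (hsub hia.symm) (hsub hib.symm) (hsub hja.symm)
          (hsub hjb.symm) (hsub hij), map_one]
      by_cases hi1 : i ∈ I1
      · have hj1 : j ∉ I1 := fun h => hi ⟨hi1, h⟩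
        have hi2 : i ∉ I2 := fun h => hi' ⟨h, hcase j hj1⟩
        rw [hz1 i hi1, hz2 j (hcase j hj1) hja]
        exact hcross ⟨i, Finset.mem_sdiff.2 ⟨hi1, hi2⟩⟩ ⟨j, Finset.mem_sdiff.2 ⟨hcase j hj1, hj1⟩⟩
      · have hi2 : i ∈ I2 := hcase i hi1
        have hj2 : j ∉ I2 := fun h => hi' ⟨hi2, h⟩
        have hj1 : j ∈ I1 := by
          by_contra h; exact hj2 (hcase j h)
        rw [hz2 i hi2 hia, hz1 j hj1]
        have := hcross ⟨j, Finset.mem_sdiff.2 ⟨hj1, hj2⟩⟩ ⟨i, Finset.mem_sdiff.2 ⟨hi2, hi1⟩⟩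
        set P := φ1 (z1 ⟨j, hj1⟩)
        set Q := φ2 (z2 ⟨i, hi2⟩)
        change (P * Q) ^ 2 = 1 at this
        rw [show Q * P = P⁻¹ * (P * Q) * P⁻¹⁻¹ by group, conj_pow, this, mul_one, mul_inv_cancel])
  have hc1 : φ.comp ι1 = φ1 := by
    refine hom_ext_cyc (a := (⟨a, ha1⟩ : I1)) (b := ⟨b, hb1⟩) (hsub hab) fun i h1 h2 => ?_
    have hia : i.1 ≠ a := fun e => h1 (Subtype.ext e)
    show φ (ι1 (z1 i)) = φ1 (z1 i)
    rw [hιz1 i hia, hφ _ hia fun e => h2 (Subtype.ext e), hz1 _ i.2]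
  have hc2 : φ.comp ι2 = φ2 := by
    refine hom_ext_cyc (a := (⟨a, ha2⟩ : I2)) (b := ⟨b, hb2⟩) (hsub hab) fun i h1 h2 => ?_
    have hia : i.1 ≠ a := fun e => h1 (Subtype.ext e)
    show φ (ι2 (z2 i)) = φ2 (z2 i)
    rw [hιz2 i hia, hφ _ hia fun e => h2 (Subtype.ext e), hz2 _ i.2 hia]
  refine ⟨φ, fun i => ?_⟩
  rcases i with i | i
  · exact (DFunLike.congr_fun hc1 (f1 i)).trans (hφ1 i)
  · exact (DFunLike.congr_fun hc2 (f2 i)).trans (hφ2 i)

end Glue

end CfsgLib.BPres
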