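import Mathlib.GroupTheory.PresentedGroup
import Mathlib.GroupTheory.FreeGroup.Basic
import Mathlib.GroupTheory.QuotientGroup.Basic
import Mathlib.Data.Fin.VecNotation
import Mathlib.Tactic

/-!
Presentations with a bounded number of relations: the universal property, quotients, and the passage
to two generators.
-/

set_option autoImplicit false
set_option linter.style.haveILetI false

namespace CfsgLib.BPres

universe v w

variable {α : Type} {A : Type v} [Group A]

/-- The relators `R` present `A` on the elements `f`. -/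
structure IsPres (R : List (FreeGroup α)) (f : α → A) : Prop where
  rel : ∀ r ∈ R, FreeGroup.lift f r = 1
  gen : Subgroup.closure (Set.range f) = ⊤
  univ : ∀ (G : Type) [Group G] (f' : α → G), (∀ r ∈ R, FreeGroup.lift f' r = 1) →
    ∃ φ : A →* G, ∀ i, φ (f i) = f' i

/-- `A` has a presentation with at most `r` relations. -/
def HasPres (A : Type v) [Group A] (r : ℕ) : Prop :=
  ∃ (α : Type) (R : List (FreeGroup α)) (f : α → A), R.length ≤ r ∧ IsPres R f

theorem lift_comp {G H : Type*} [Group G] [Group H] (φ : G →* H) (f : α → G) (r : FreeGroup α) :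
    φ (FreeGroup.lift f r) = FreeGroup.lift (fun i => φ (f i)) r := by
  have : φ.comp (FreeGroup.lift f) = FreeGroup.lift (fun i => φ (f i)) :=
    FreeGroup.ext_hom _ _ fun i => by simp
  exact DFunLike.congr_fun this r

theorem lift_lift {β : Type} {G : Type*} [Group G] (W : α → FreeGroup β) (f : β → G) (r : FreeGroup α) :
    FreeGroup.lift f (FreeGroup.lift W r) = FreeGroup.lift (fun i => FreeGroup.lift f (W i)) r :=
  lift_comp _ W r

theorem exists_word {f : α → A} (hf : Subgroup.closure (Set.range f) = ⊤) (y : A) :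
    ∃ w : FreeGroup α, FreeGroup.lift f w = y := by
  have : y ∈ (FreeGroup.lift f).range := by rw [FreeGroup.range_lift_eq_closure, hf]; trivial
  exact this

theorem IsPres.ext {R : List (FreeGroup α)} {f : α → A} (h : IsPres R f) {G : Type*} [Group G]
    {φ ψ : A →* G} (he : ∀ i, φ (f i) = ψ (f i)) : φ = ψ := by
  refine MonoidHom.eq_of_eqOn_dense h.gen ?_
  rintro _ ⟨i, rfl⟩
  exact he i

/-- The presented group is `A`. -/
theorem IsPres.nonempty_equiv {R : List (FreeGroup α)} {f : α → A} (h : IsPres R f)
    (S : Set (FreeGroup α)) (hS : ∀ r, r ∈ S ↔ r ∈ R) : Nonempty (PresentedGroup S ≃* A) := by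
  let π : PresentedGroup S →* A := PresentedGroup.toGroup (f := f) fun r hr => h.rel r ((hS r).1 hr)
  obtain ⟨φ, hφ⟩ := h.univ (PresentedGroup S) PresentedGroup.of fun r hr => by
    have : FreeGroup.lift (PresentedGroup.of (rels := S)) = PresentedGroup.mk S :=
      FreeGroup.ext_hom _ _ fun i => by rw [FreeGroup.lift_apply_of]; rfl
    rw [this]
    exact PresentedGroup.one_of_mem ((hS r).2 hr)
  have hπ : ∀ i, π (PresentedGroup.of i) = f i := fun i => PresentedGroup.toGroup.of _
  exact ⟨{ π with
    invFun := φ
    left_inv := fun y => by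
      have : φ.comp π = MonoidHom.id _ := PresentedGroup.ext fun i => by simp [hπ, hφ]
      exact DFunLike.congr_fun this y
    right_inv := fun y => by
      have : π.comp φ = MonoidHom.id _ := h.ext fun i => by simp [hπ, hφ]
      exact DFunLike.congr_fun this y }⟩

/-- An isomorphism with a presented group gives the universal property. -/
theorem IsPres.of_equiv {S : Finset (FreeGroup α)}
    (e : PresentedGroup (↑S : Set (FreeGroup α)) ≃* A) :
    IsPres S.toList fun i => e (PresentedGroup.of i) where
  rel r hr := by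
    refine Eq.trans (lift_comp e.toMonoidHom (PresentedGroup.of (rels := (↑S : Set (FreeGroup α)))) r).symm ?_
    have : FreeGroup.lift (PresentedGroup.of (rels := (↑S : Set (FreeGroup α)))) = PresentedGroup.mk _ :=
      FreeGroup.ext_hom _ _ fun i => by rw [FreeGroup.lift_apply_of]; rfl
    rw [this, PresentedGroup.one_of_mem (by simpa using hr), map_one]
  gen := by
    rw [show (Set.range fun i => e (PresentedGroup.of i)) =
        e.toMonoidHom '' Set.range PresentedGroup.of by rw [← Set.range_comp]; rfl,
      ← MonoidHom.map_closure, PresentedGroup.closure_range_of, ← MonoidHom.range_eq_map,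
      MonoidHom.range_eq_top]
    exact e.surjective
  univ G _ f' hf' := ⟨(PresentedGroup.toGroup (f := f') fun r hr => hf' r (by simpa using hr)).comp
      e.symm.toMonoidHom, fun i => by simp⟩

theorem HasPres.of_equiv {S : Finset (FreeGroup α)} {r : ℕ} (hr : S.card ≤ r)
    (h : Nonempty (PresentedGroup (↑S : Set (FreeGroup α)) ≃* A)) : HasPres A r :=
  h.elim fun e => ⟨α, S.toList, _, by rwa [Finset.length_toList], IsPres.of_equiv e⟩

theorem HasPres.mono {r s : ℕ} (h : HasPres A r) (hrs : r ≤ s) : HasPres A s := by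
  obtain ⟨β, R, f, hR, hP⟩ := h
  exact ⟨β, R, f, hR.trans hrs, hP⟩

theorem IsPres.map {B : Type w} [Group B] {R : List (FreeGroup α)} {f : α → A} (h : IsPres R f)
    (e : A ≃* B) : IsPres R fun i => e (f i) where
  rel r hr := by
    have := lift_comp e.toMonoidHom f r
    rw [h.rel r hr, map_one] at this
    exact this.symm
  gen := by
    rw [show (Set.range fun i => e (f i)) = e.toMonoidHom '' Set.range f by rw [← Set.range_comp]; rfl,
      ← MonoidHom.map_closure, h.gen, ← MonoidHom.range_eq_map, MonoidHom.range_eq_top]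
    exact e.surjective
  univ G _ f' hf' := by
    obtain ⟨φ, hφ⟩ := h.univ G f' hf'
    exact ⟨φ.comp e.symm.toMonoidHom, fun i => by simp [hφ]⟩

theorem HasPres.congr {B : Type w} [Group B] {r : ℕ} (h : HasPres A r) (e : A ≃* B) : HasPres B r := by
  obtain ⟨β, R, f, hR, hP⟩ := h
  exact ⟨β, R, _, hR, hP.map e⟩

/-- A quotient by the normal subgroup generated by one element costs one relation. -/
theorem HasPres.quotient {r : ℕ} (h : HasPres A r) (N : Subgroup A) [N.Normal] (z : A)
    (hN : N = Subgroup.zpowers z) : HasPres (A ⧸ N) (r + 1) := by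
  obtain ⟨β, R, f, hR, hP⟩ := h
  obtain ⟨wz, hwz⟩ := exists_word hP.gen z
  refine ⟨β, R ++ [wz], fun i => QuotientGroup.mk' N (f i), by simp; omega, fun s hs => ?_, ?_, ?_⟩
  · rw [← lift_comp]
    rcases List.mem_append.1 hs with hs | hs
    · rw [hP.rel s hs, map_one]
    · obtain rfl := List.mem_singleton.1 hs
      rw [hwz]
      exact (QuotientGroup.eq_one_iff z).2 (hN ▸ Subgroup.mem_zpowers z)
  · rw [show (Set.range fun i => QuotientGroup.mk' N (f i)) = QuotientGroup.mk' N '' Set.range f by
      rw [← Set.range_comp]; rfl, ← MonoidHom.map_closure, hP.gen, ← MonoidHom.range_eq_map,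
      MonoidHom.range_eq_top]
    exact QuotientGroup.mk'_surjective N
  · intro G _ f' hf'
    obtain ⟨φ, hφ⟩ := hP.univ G f' fun s hs => hf' s (List.mem_append.2 (Or.inl hs))
    have hz : φ z = 1 := by
      rw [← hwz, lift_comp, show (fun i => φ (f i)) = f' from funext hφ]
      exact hf' wz (List.mem_append.2 (Or.inr (List.mem_singleton.2 rfl)))
    refine ⟨QuotientGroup.lift N φ (fun y hy => ?_), fun i => ?_⟩
    · rw [hN, Subgroup.mem_zpowers_iff] at hy
      obtain ⟨k, rfl⟩ := hy
      rw [MonoidHom.mem_ker, map_zpow, hz, one_zpow]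
    · simp [hφ]

/-- Two generators cost two relations. -/
theorem HasPres.two_generators {r : ℕ} (h : HasPres A r) {a b : A}
    (hab : Subgroup.closure ({a, b} : Set A) = ⊤) :
    ∃ rels : Finset (FreeGroup (Fin 2)), rels.card ≤ r + 2 ∧
      Nonempty (PresentedGroup (↑rels : Set (FreeGroup (Fin 2))) ≃* A) := by
  classical
  obtain ⟨β, R, f, hR, hP⟩ := h
  have hgen : Subgroup.closure (Set.range ![a, b]) = ⊤ := by
    rw [← hab]; congr 1
    simp only [Matrix.range_cons, Matrix.range_empty, Set.union_empty, Set.singleton_union]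
  choose W hW using fun i => exists_word hgen (f i)
  obtain ⟨Wa, hWa⟩ := exists_word hP.gen a
  obtain ⟨Wb, hWb⟩ := exists_word hP.gen b
  let R' : List (FreeGroup (Fin 2)) := R.map (FreeGroup.lift W) ++
    [FreeGroup.of 0 * (FreeGroup.lift W Wa)⁻¹, FreeGroup.of 1 * (FreeGroup.lift W Wb)⁻¹]
  have hP' : IsPres R' ![a, b] := by
    refine ⟨fun s hs => ?_, hgen, fun G _ f' hf' => ?_⟩
    · have hWf : (fun i => FreeGroup.lift ![a, b] (W i)) = f := funext hW
      rcases List.mem_append.1 hs with hs | hs
      · obtain ⟨t, ht, rfl⟩ := List.mem_map.1 hs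
        rw [lift_lift, hWf]; exact hP.rel t ht
      · simp only [List.mem_cons, List.not_mem_nil, or_false] at hs
        rcases hs with rfl | rfl
        · rw [map_mul, map_inv, lift_lift, hWf, hWa, FreeGroup.lift_apply_of]
          simp
        · rw [map_mul, map_inv, lift_lift, hWf, hWb, FreeGroup.lift_apply_of]
          simp
    · obtain ⟨φ, hφ⟩ := hP.univ G (fun i => FreeGroup.lift f' (W i)) fun s hs => by
        rw [← lift_lift]
        exact hf' _ (List.mem_append.2 (Or.inl (List.mem_map.2 ⟨s, hs, rfl⟩)))
      have hφW : (fun i => φ (f i)) = fun i => FreeGroup.lift f' (W i) := funext hφ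
      refine ⟨φ, fun i => ?_⟩
      fin_cases i
      · have h0 := hf' (FreeGroup.of 0 * (FreeGroup.lift W Wa)⁻¹) (by simp [R'])
        rw [map_mul, map_inv, mul_inv_eq_one, FreeGroup.lift_apply_of, lift_lift] at h0
        show φ a = f' 0
        rw [← hWa, lift_comp, hφW, h0]
      · have h0 := hf' (FreeGroup.of 1 * (FreeGroup.lift W Wb)⁻¹) (by simp [R'])
        rw [map_mul, map_inv, mul_inv_eq_one, FreeGroup.lift_apply_of, lift_lift] at h0
        show φ b = f' 1
        rw [← hWb, lift_comp, hφW, h0]
  refine ⟨R'.toFinset, (List.toFinset_card_le R').trans (by simp [R']; omega), ?_⟩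
  exact hP'.nonempty_equiv _ fun s => by simp

end CfsgLib.BPres
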