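import Cfsg.Agent.BPres.Basic

/-!
Presentations with a prescribed number of generators.
-/

set_option autoImplicit false
set_option linter.style.haveILetI false

namespace CfsgLib.BPres

universe v w

variable {α β : Type} {A : Type v} [Group A]

/-- `A` has a presentation with `k` generators and at most `r` relations. -/
def HasPresN (A : Type v) [Group A] (k r : ℕ) : Prop :=
  ∃ (R : List (FreeGroup (Fin k))) (f : Fin k → A), R.length ≤ r ∧ IsPres R f

theorem lift_map {G : Type w} [Group G] (e : α → β) (f : β → G) (r : FreeGroup α) :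
    FreeGroup.lift f (FreeGroup.map e r) = FreeGroup.lift (fun i => f (e i)) r :=
  DFunLike.congr_fun (FreeGroup.ext_hom ((FreeGroup.lift f).comp (FreeGroup.map e))
    (FreeGroup.lift fun i => f (e i)) fun i => by simp) r

theorem IsPres.reindex {R : List (FreeGroup α)} {f : α → A} (h : IsPres R f) (e : α ≃ β) :
    IsPres (R.map (FreeGroup.map e)) fun j => f (e.symm j) where
  rel r hr := by
    obtain ⟨s, hs, rfl⟩ := List.mem_map.1 hr
    rw [lift_map]
    simpa using h.rel s hs
  gen := by
    rw [show (Set.range fun j => f (e.symm j)) = Set.range f from EquivLike.range_comp f e.symm]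
    exact h.gen
  univ G _ f' hf' := by
    obtain ⟨φ, hφ⟩ := h.univ G (fun i => f' (e i)) fun s hs => by
      rw [← lift_map]
      exact hf' _ (List.mem_map.2 ⟨s, hs, rfl⟩)
    exact ⟨φ, fun j => by rw [hφ, e.apply_symm_apply]⟩

theorem IsPres.pad {R : List (FreeGroup α)} {f : α → A} (h : IsPres R f) :
    IsPres (R.map (FreeGroup.map Sum.inl) ++ [FreeGroup.of (Sum.inr ())]) (Sum.elim f fun _ : Unit => 1) where
  rel r hr := by
    rcases List.mem_append.1 hr with hr | hr
    · obtain ⟨s, hs, rfl⟩ := List.mem_map.1 hr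
      rw [lift_map]; exact h.rel s hs
    · obtain rfl := List.mem_singleton.1 hr
      simp
  gen := by
    rw [eq_top_iff, ← h.gen]
    refine Subgroup.closure_mono ?_
    rintro _ ⟨i, rfl⟩
    exact ⟨Sum.inl i, rfl⟩
  univ G _ f' hf' := by
    obtain ⟨φ, hφ⟩ := h.univ G (fun i => f' (Sum.inl i)) fun s hs => by
      rw [← lift_map]
      exact hf' _ (List.mem_append.2 (Or.inl (List.mem_map.2 ⟨s, hs, rfl⟩)))
    refine ⟨φ, fun j => ?_⟩
    rcases j with i | ⟨⟩
    · exact hφ i
    · have := hf' (FreeGroup.of (Sum.inr ())) (List.mem_append.2 (Or.inr (List.mem_singleton.2 rfl)))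
      rw [FreeGroup.lift_apply_of] at this
      simp [this]

theorem IsPres.quotient {R : List (FreeGroup α)} {f : α → A} (hP : IsPres R f) (N : Subgroup A) [N.Normal]
    (z : A) (hN : N = Subgroup.zpowers z) :
    ∃ wz : FreeGroup α, IsPres (R ++ [wz]) fun i => QuotientGroup.mk' N (f i) := by
  obtain ⟨wz, hwz⟩ := exists_word hP.gen z
  refine ⟨wz, fun s hs => ?_, ?_, ?_⟩
  · rw [← lift_comp]
    rcases List.mem_append.1 hs with hs | hs
    · rw [hP.rel s hs, map_one]
    · obtain rfl := List.mem_singleton.1 hs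
      rw [hwz]
      exact (QuotientGroup.eq_one_iff z).2 (hN ▸ Subgroup.mem_zpowers z)
  · rw [show (Set.range fun i => QuotientGroup.mk' N (f i)) = QuotientGroup.mk' N '' Set.range f by
      rw [← Set.range_comp]; rfl, ← MonoidHom.map_closure, hP.gen, ← MonoidHom.range_eq_map,
      MonoidHom.range_eq_top]
    exact QuotientGroup.mk'_surjective N
  · intro G _ f' hf'
    obtain ⟨φ, hφ⟩ := hP.univ G f' fun s hs => hf' s (List.mem_append.2 (Or.inl hs))
    have hz : φ z = 1 := by
      rw [← hwz, lift_comp, show (fun i => φ (f i)) = f' from funext hφ]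
      exact hf' wz (List.mem_append.2 (Or.inr (List.mem_singleton.2 rfl)))
    refine ⟨QuotientGroup.lift N φ (fun y hy => ?_), fun i => ?_⟩
    · rw [hN, Subgroup.mem_zpowers_iff] at hy
      obtain ⟨k, rfl⟩ := hy
      rw [MonoidHom.mem_ker, map_zpow, hz, one_zpow]
    · simp [hφ]

theorem hasPresN_of [Fintype α] {R : List (FreeGroup α)} {f : α → A} (h : IsPres R f) {k r : ℕ}
    (hk : Fintype.card α = k) (hr : R.length ≤ r) : HasPresN A k r := by
  subst hk
  exact ⟨_, _, by simpa using hr, h.reindex (Fintype.equivFin α)⟩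

theorem HasPresN.pad {k r : ℕ} (h : HasPresN A k r) : HasPresN A (k + 1) (r + 1) := by
  obtain ⟨R, f, hR, hP⟩ := h
  exact hasPresN_of hP.pad (by simp) (by simpa using hR)

theorem HasPresN.mono {k r s : ℕ} (h : HasPresN A k r) (hrs : r ≤ s) : HasPresN A k s := by
  obtain ⟨R, f, hR, hP⟩ := h
  exact ⟨R, f, hR.trans hrs, hP⟩

theorem HasPresN.hasPres {k r : ℕ} (h : HasPresN A k r) : HasPres A r := by
  obtain ⟨R, f, hR, hP⟩ := h
  exact ⟨_, R, f, hR, hP⟩

theorem HasPresN.quotient {k r : ℕ} (h : HasPresN A k r) (N : Subgroup A) [N.Normal] (z : A)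
    (hN : N = Subgroup.zpowers z) : HasPresN (A ⧸ N) k (r + 1) := by
  obtain ⟨R, f, hR, hP⟩ := h
  obtain ⟨wz, hw⟩ := hP.quotient N z hN
  exact ⟨_, _, by simp; omega, hw⟩

theorem HasPresN.congr {B : Type w} [Group B] {k r : ℕ} (h : HasPresN A k r) (e : A ≃* B) :
    HasPresN B k r := by
  obtain ⟨R, f, hR, hP⟩ := h
  exact ⟨R, _, hR, hP.map e⟩

/-- The form used in the statements. -/
theorem HasPresN.exists_finset {k r : ℕ} (h : HasPresN A k r) :
    ∃ rels : Finset (FreeGroup (Fin k)), rels.card ≤ r ∧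
      Nonempty (PresentedGroup (↑rels : Set (FreeGroup (Fin k))) ≃* A) := by
  classical
  obtain ⟨R, f, hR, hP⟩ := h
  exact ⟨R.toFinset, (List.toFinset_card_le R).trans hR, hP.nonempty_equiv _ fun s => by simp⟩

end CfsgLib.BPres
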