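import Cfsg.Agent.BPres.SLnPres
import Cfsg.Agent.SL2Pres.Inst
import Cfsg.Agent.RegUnip.Two
import Cfsg.Agent.RegUnip.SL3

/-!
`PSL n` has a presentation on two generators with at most eighty relations.
-/

set_option autoImplicit false
set_option linter.style.haveILetI false

namespace CfsgLib.BPres

open Matrix
open CfsgLib.An (SLn xt xt_coe)
open CfsgLib.SL2Pres
open Multiplicative (ofAdd)

universe v

variable {F : Type v} [Field F] [Fintype F]

theorem closure_pair_image {A B : Type*} [Group A] [Group B] (f : A →* B) (hf : Function.Surjective f)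
    {a b : A} (h : Subgroup.closure ({a, b} : Set A) = ⊤) :
    Subgroup.closure ({f a, f b} : Set B) = ⊤ := by
  rw [← Set.image_pair f a b, ← MonoidHom.map_closure, h, ← MonoidHom.range_eq_map, MonoidHom.range_eq_top]
  exact hf

theorem SL2_hb_gen (h4 : 4 ≤ Fintype.card F) {g0 : F} (hg0 : g0 ≠ 0)
    (hg : orderOf g0 = Fintype.card F - 1) :
    Subgroup.closure ({hSL (Units.mk0 g0 hg0), ιSL (ofAdd 1) * wSL} : Set (SLn 2 F)) = ⊤ := by
  classical
  obtain ⟨p, hcp⟩ := CharP.exists F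
  haveI := hcp
  haveI : Fact p.Prime := ⟨CharP.char_is_prime F p⟩
  letI := ZMod.algebra F p
  obtain ⟨m, -, hm⟩ := FiniteField.card F p
  set g : Fˣ := Units.mk0 g0 hg0
  have hx : Algebra.adjoin (ZMod p) {(g : F) ^ 2} = ⊤ := adjoin_sq hm hg
  set c : F := (g : F) ^ 2 - 1
  have hc : c ≠ 0 := fun h => by
    have h2 : orderOf g0 ∣ 2 := orderOf_dvd_of_pow_eq_one (sub_eq_zero.1 h)
    rw [hg] at h2
    have := Nat.le_of_dvd (by norm_num) h2
    omega
  set w : SLn 2 F := wSL
  set h : SLn 2 F := hSL g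
  set b : SLn 2 F := ιSL (ofAdd 1) * w
  set K := Subgroup.closure ({h, b} : Set (SLn 2 F))
  have hh : h ∈ K := Subgroup.subset_closure (by simp)
  have hb : b ∈ K := Subgroup.subset_closure (by simp)
  have hc' : ιSL (ofAdd c) ∈ K := by
    have e : h * (b * h * b⁻¹) = ιSL (ofAdd c) := by
      calc h * (b * h * b⁻¹) = h * ιSL (ofAdd 1) * (w * h * w⁻¹) * (ιSL (ofAdd 1))⁻¹ := by
            simp only [b]; group
        _ = h * ιSL (ofAdd 1) * h⁻¹ * (ιSL (ofAdd 1))⁻¹ := by rw [wSL_conj]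
        _ = _ := by
            rw [hSL_conj, mul_one, ← map_inv, ← map_mul, ← ofAdd_neg, ← ofAdd_add, ← sub_eq_add_neg]
    rw [← e]
    exact K.mul_mem hh (K.mul_mem (K.mul_mem hb hh) (K.inv_mem hb))
  let S : AddSubgroup F :=
    { carrier := {t | ιSL (ofAdd (c * t)) ∈ K}
      add_mem' := fun {x y} hx hy => by
        show _ ∈ K
        rw [mul_add, ofAdd_add, map_mul]; exact K.mul_mem hx hy
      zero_mem' := by show _ ∈ K; rw [mul_zero, ofAdd_zero, map_one]; exact K.one_mem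
      neg_mem' := fun {x} hx => by
        show _ ∈ K; rw [mul_neg, ofAdd_neg, map_inv]; exact K.inv_mem hx }
  have hall : ∀ t, ιSL (ofAdd t) ∈ K := fun t => by
    have h1 := SL3Pres.all_of_stable hx S (by show _ ∈ K; rw [mul_one]; exact hc') (fun s hs => by
      show _ ∈ K
      rw [mul_left_comm, ← hSL_conj]
      exact K.mul_mem (K.mul_mem hh hs) (K.inv_mem hh)) (c⁻¹ * t)
    have h2 : ιSL (ofAdd (c * (c⁻¹ * t))) ∈ K := h1
    rwa [mul_inv_cancel_left₀ hc] at h2
  have hw : w ∈ K := by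
    have := K.mul_mem (K.inv_mem (hall 1)) hb
    rwa [inv_mul_cancel_left] at this
  rw [eq_top_iff]
  rintro y -
  refine xt_induction le_rfl (fun y => y ∈ K) (fun i j hij t => ?_) (fun _ _ => K.mul_mem) y
  fin_cases i <;> fin_cases j <;> try exact absurd rfl hij
  · have : (xt 0 1 t : SLn 2 F) = ιSL (ofAdd t) := Subtype.ext (by
      rw [xt_coe (by decide), ιSL_val]; ext a b; fin_cases a <;> fin_cases b <;> simp [transvection])
    show (xt 0 1 t : SLn 2 F) ∈ K
    rw [this]; exact hall t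
  · have : (xt 1 0 t : SLn 2 F) = w * ιSL (ofAdd (-t)) * w⁻¹ := by
      rw [eq_mul_inv_iff_mul_eq]
      refine Subtype.ext ?_
      show (xt 1 0 t : SLn 2 F).1 * w.1 = w.1 * (ιSL (ofAdd (-t))).1
      rw [xt_coe (by decide), ιSL_val, wSL_val]
      ext a b; fin_cases a <;> fin_cases b <;>
        simp [transvection, Matrix.mul_apply, Fin.sum_univ_two, Matrix.one_apply, Matrix.single_apply]
    show (xt 1 0 t : SLn 2 F) ∈ K
    rw [this]; exact K.mul_mem (K.mul_mem hw (hall _)) (K.inv_mem hw)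

theorem SL2_two_gen (h4 : 4 ≤ Fintype.card F) :
    ∃ a b : SLn 2 F, Subgroup.closure ({a, b} : Set (SLn 2 F)) = ⊤ := by
  obtain ⟨g0, hg0, hg, -⟩ := exists_generator (F := F)
  exact ⟨_, _, SL2_hb_gen h4 hg0 hg⟩

/-- `PSL n` on two generators with at most eighty relations. -/
theorem psl_eighty (n : ℕ) (hn : 2 ≤ n) (h2 : n = 2 → 4 ≤ Fintype.card F) :
    ∃ rels : Finset (FreeGroup (Fin 2)), rels.card ≤ 80 ∧
      Nonempty (PresentedGroup (↑rels : Set (FreeGroup (Fin 2))) ≃*
        Matrix.ProjectiveSpecialLinearGroup (Fin n) F) := by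
  classical
  let q : SLn n F →* Matrix.ProjectiveSpecialLinearGroup (Fin n) F := QuotientGroup.mk' _
  have hq : Function.Surjective q := QuotientGroup.mk'_surjective _
  suffices ∃ r ≤ 78, HasPres (Matrix.ProjectiveSpecialLinearGroup (Fin n) F) r ∧
      ∃ a b : SLn n F, Subgroup.closure ({a, b} : Set (SLn n F)) = ⊤ by
    obtain ⟨r, hr, hP, a, b, hab⟩ := this
    obtain ⟨rels, h1, h2⟩ := hP.two_generators (closure_pair_image q hq hab)
    exact ⟨rels, by omega, h2⟩
  rcases eq_or_lt_of_le hn with rfl | hn3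
  · obtain ⟨rels, hr, he⟩ := (short_presentations (F := F)).2.1
    exact ⟨9, by norm_num, HasPres.of_equiv hr he, SL2_two_gen (h2 rfl)⟩
  obtain ⟨z, hz⟩ : ∃ z : SLn n F, Subgroup.center (SLn n F) = Subgroup.zpowers z := by
    haveI : Nonempty (Fin n) := ⟨⟨0, by omega⟩⟩
    haveI : NeZero n := ⟨by omega⟩
    haveI : IsCyclic (Subgroup.center (SLn n F)) :=
      (SpecialLinearGroup.center_equiv_rootsOfUnity (n := Fin n) (R := F)).isCyclic.2 inferInstance
    obtain ⟨z, hz⟩ := (Subgroup.isCyclic_iff_exists_zpowers_eq_top (Subgroup.center (SLn n F))).1 inferInstance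
    exact ⟨z, hz.symm⟩
  rcases eq_or_lt_of_le (show 3 ≤ n by omega) with rfl | hn4
  · refine ⟨15, by norm_num, (hasPres_SL3 (F := F)).quotient _ z hz, ?_⟩
    obtain ⟨g, hg⟩ := RegUnip.twoConj (F := F)
    exact ⟨_, _, hg⟩
  · refine ⟨58, by norm_num, (hasPres_SLn (F := F) (show 4 ≤ n by omega)).quotient _ z hz, ?_⟩
    obtain ⟨v, -, hv⟩ := RegUnip.two_regular (F := F) (show 4 ≤ n by omega)
    exact ⟨_, v, hv⟩

end CfsgLib.BPres
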