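import Cfsg.Agent.An.Emb
import Cfsg.Agent.BPres.AltGlue
import Mathlib.LinearAlgebra.Matrix.Permutation
import Mathlib.GroupTheory.GroupAction.MultipleTransitivity

/-!
Even permutation matrices and even permutations with prescribed values.
-/

set_option autoImplicit false

namespace CfsgLib.BPres

open Equiv Matrix
open CfsgLib.An (SLn xt xt_coe xt_eq emb embM embEquiv embEquiv_inl)

universe u v

variable {F : Type v} [Field F] {n : ℕ}

/-- Even permutation matrices. -/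
def PM (F : Type v) [Field F] (n : ℕ) : alternatingGroup (Fin n) →* SLn n F where
  toFun σ := ⟨(σ : Perm (Fin n))⁻¹.permMatrix F, by
    rw [det_permutation, Perm.sign_inv, show Perm.sign (σ : Perm (Fin n)) = 1 from σ.2]; simp⟩
  map_one' := Subtype.ext permMatrix_one
  map_mul' σ τ := Subtype.ext (by
    show ((σ : Perm (Fin n)) * τ)⁻¹.permMatrix F = _ * _
    rw [_root_.mul_inv_rev, permMatrix_mul])

theorem PM_apply (σ : alternatingGroup (Fin n)) (i j : Fin n) :
    (PM F n σ).1 i j = if (σ : Perm (Fin n)).symm i = j then 1 else 0 := by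
  show PEquiv.toMatrix _ i j = _
  rw [PEquiv.toMatrix_apply]
  simp [Equiv.toPEquiv_apply, eq_comm]

theorem PM_conj (σ : alternatingGroup (Fin n)) {i j : Fin n} (h : i ≠ j) (t : F) :
    PM F n σ * xt i j t * (PM F n σ)⁻¹ =
      xt ((σ : Perm (Fin n)) i) ((σ : Perm (Fin n)) j) t := by
  rw [mul_inv_eq_iff_eq_mul]
  refine Subtype.ext ?_
  show (PM F n σ).1 * (xt i j t : SLn n F).1 =
    (xt ((σ : Perm (Fin n)) i) ((σ : Perm (Fin n)) j) t : SLn n F).1 * (PM F n σ).1
  rw [xt_coe h, xt_coe ((σ : Perm (Fin n)).injective.ne h)]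
  show (σ : Perm (Fin n))⁻¹.toPEquiv.toMatrix * _ = _ * (σ : Perm (Fin n))⁻¹.toPEquiv.toMatrix
  rw [PEquiv.toMatrix_toPEquiv_mul, PEquiv.mul_toMatrix_toPEquiv]
  ext x y
  simp only [Matrix.submatrix_apply, id_eq, transvection, Matrix.add_apply, Matrix.one_apply,
    Matrix.single_apply, Perm.inv_def, Equiv.symm_symm, Equiv.symm_apply_eq, Equiv.eq_symm_apply,
    EmbeddingLike.apply_eq_iff_eq]

theorem emb_PM {r : ℕ} (f : Fin r → Fin n) (hf : Function.Injective f)
    (σ : alternatingGroup (Fin r)) :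
    emb f hf (PM F r σ) = PM F n (altEmb ⟨f, hf⟩ σ) := by
  refine Subtype.ext ?_
  show embM f hf (PM F r σ).1 = _
  ext x y
  obtain ⟨x, rfl⟩ := (embEquiv f hf).surjective x
  obtain ⟨y, rfl⟩ := (embEquiv f hf).surjective y
  rw [PM_apply]
  have hinv : ((altEmb ⟨f, hf⟩ σ : alternatingGroup (Fin n)) : Perm (Fin n)).symm =
      ((altEmb ⟨f, hf⟩ σ⁻¹ : alternatingGroup (Fin n)) : Perm (Fin n)) := by
    rw [map_inv]; rfl
  have hin : ∀ z, ((altEmb ⟨f, hf⟩ σ⁻¹ : alternatingGroup (Fin n)) : Perm (Fin n)) (f z) =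
      f ((σ : Perm (Fin r)).symm z) := fun z => altEmb_apply ⟨f, hf⟩ σ⁻¹ z
  have hout : ∀ z : {x // ¬ x ∈ Set.range f},
      ((altEmb ⟨f, hf⟩ σ⁻¹ : alternatingGroup (Fin n)) : Perm (Fin n)) z.1 = z.1 :=
    fun z => altEmb_apply_outside ⟨f, hf⟩ σ⁻¹ z.2
  have hr : ∀ z : {x // ¬ x ∈ Set.range f}, embEquiv f hf (.inr z) = z.1 := fun z => by
    simp [embEquiv]
  simp only [embM, Matrix.reindex_apply, Matrix.submatrix_apply, Equiv.symm_apply_apply, hinv]
  rcases x with x | x <;> rcases y with y | y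
  · rw [fromBlocks_apply₁₁, PM_apply, embEquiv_inl, embEquiv_inl, hin]
    simp [hf.eq_iff]
  · rw [fromBlocks_apply₁₂, embEquiv_inl, hr, hin, if_neg fun e => y.2 ⟨_, e⟩]; rfl
  · rw [fromBlocks_apply₂₁, embEquiv_inl, hr, hout, if_neg fun e => x.2 ⟨_, e.symm⟩]; rfl
  · rw [fromBlocks_apply₂₂, hr, hr, hout, Matrix.one_apply]
    simp [Subtype.val_inj]

/-- A permutation with prescribed values. -/
theorem exists_perm {α : Type u} [Finite α] {k : ℕ} (x y : Fin k → α) (hx : Function.Injective x)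
    (hy : Function.Injective y) : ∃ σ : Perm α, ∀ i, σ (x i) = y i := by
  obtain ⟨g, hg⟩ := (MulAction.isMultiplyPretransitive_iff (G := Perm α)).1
    (Equiv.Perm.isMultiplyPretransitive α k) ⟨x, hx⟩ ⟨y, hy⟩
  exact ⟨g, fun i => Function.Embedding.ext_iff.1 hg i⟩

/-- An even one, up to one transposition. -/
theorem exists_even {α : Type u} [Fintype α] [DecidableEq α] {k : ℕ} (x y : Fin k → α)
    (hx : Function.Injective x) (hy : Function.Injective y) (p q : Fin k) (hpq : p ≠ q) :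
    ∃ σ : alternatingGroup α, (∀ i, (σ : Perm α) (x i) = y i) ∨
      (∀ i, (σ : Perm α) (x (Equiv.swap p q i)) = y i) := by
  obtain ⟨σ, hσ⟩ := exists_perm x y hx hy
  rcases Int.units_eq_one_or (Perm.sign σ) with h | h
  · exact ⟨⟨σ, Perm.mem_alternatingGroup.2 h⟩, Or.inl hσ⟩
  · refine ⟨⟨σ * Equiv.swap (x p) (x q), Perm.mem_alternatingGroup.2 ?_⟩, Or.inr fun i => ?_⟩
    · rw [map_mul, h, Perm.sign_swap (hx.ne hpq)]; decide
    · show σ (Equiv.swap (x p) (x q) (x (Equiv.swap p q i))) = y i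
      rw [hx.swap_apply, Equiv.swap_apply_self, hσ]

end CfsgLib.BPres
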