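import Cfsg.Agent.BPres.PermSL
import Cfsg.Agent.An.Lift
import Cfsg.Agent.SL3Pres.Derive
import Cfsg.Agent.SL3Pres.Target

/-!
`SL n` from `SL 3` and the alternating group of degree `n`.
-/

set_option autoImplicit false
set_option linter.style.haveILetI false
set_option linter.unusedSectionVars false

namespace CfsgLib.BPres

open Equiv Matrix
open CfsgLib.An (SLn xt xt_coe xt_eq xt_add xt_zero emb emb_xt)
open CfsgLib.SL3Pres (emb3 all_of_stable)
open CfsgLib.SL2Pres (hSL)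

universe v

variable {F : Type v} [Field F]

/-- the first coordinates -/
def first {n r : ℕ} (h : r ≤ n) : Fin r → Fin n := Fin.castLE h

theorem first_injective {n r : ℕ} (h : r ≤ n) : Function.Injective (first h) := Fin.castLE_injective h

/-- the torus element -/
def h3 (g : Fˣ) : SLn 3 F := emb3 (hSL g)

theorem h3_up (g : Fˣ) (t : F) :
    h3 g * xt 0 1 t * (h3 g)⁻¹ = xt 0 1 ((g : F) ^ 2 * t) := by
  rw [mul_inv_eq_iff_eq_mul]
  refine Subtype.ext ?_
  show (h3 g).1 * (xt 0 1 t : SLn 3 F).1 = (xt 0 1 ((g : F) ^ 2 * t) : SLn 3 F).1 * (h3 g).1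
  rw [xt_coe (by decide), xt_coe (by decide), h3, SL3Pres.emb3_h]
  ext i j
  fin_cases i <;> fin_cases j <;>
    simp [transvection, Matrix.mul_apply, Fin.sum_univ_three, Matrix.one_apply, Matrix.single_apply]
  field_simp

theorem h3_low (g : Fˣ) (t : F) :
    (h3 g)⁻¹ * xt 1 0 t * h3 g = xt 1 0 ((g : F) ^ 2 * t) := by
  rw [mul_assoc, inv_mul_eq_iff_eq_mul]
  refine Subtype.ext ?_
  show (xt 1 0 t : SLn 3 F).1 * (h3 g).1 = (h3 g).1 * (xt 1 0 ((g : F) ^ 2 * t) : SLn 3 F).1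
  rw [xt_coe (by decide), xt_coe (by decide), h3, SL3Pres.emb3_h]
  ext i j
  fin_cases i <;> fin_cases j <;>
    simp [transvection, Matrix.mul_apply, Fin.sum_univ_three, Matrix.one_apply, Matrix.single_apply]
  field_simp

/-- the three cycle on the first coordinates -/
def c012 : alternatingGroup (Fin 3) := cyc 0 1 2

theorem c012_apply (i : Fin 3) : (c012 : Perm (Fin 3)) i = i + 1 := by
  fin_cases i <;> decide

theorem xt_induction {n : ℕ} (hn : 2 ≤ n) (P : SLn n F → Prop)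
    (hx : ∀ i j, i ≠ j → ∀ t, P (xt i j t)) (hmul : ∀ A B, P A → P B → P (A * B)) (A : SLn n F) :
    P A := by
  haveI : Nontrivial (Fin n) := ⟨⟨⟨0, by omega⟩, ⟨1, by omega⟩, by simp⟩⟩
  exact Linear.transvection_induction P (fun i j h c => xt_eq h c ▸ hx i j h c) hmul A

theorem hom_ext_xt {n : ℕ} (hn : 2 ≤ n) {G : Type*} [Group G] {φ ψ : SLn n F →* G}
    (h : ∀ i j, i ≠ j → ∀ t, φ (xt i j t) = ψ (xt i j t)) : φ = ψ :=
  MonoidHom.ext fun A => xt_induction hn (fun A => φ A = ψ A) h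
    (fun A B hA hB => by rw [map_mul, map_mul, hA, hB]) A

theorem triple_injective {α : Type*} {i j l : α} (h1 : i ≠ j) (h2 : j ≠ l) (h3 : i ≠ l) :
    Function.Injective ![i, j, l] := by
  intro a b e
  fin_cases a <;> fin_cases b <;> simp at e <;>
    first | rfl | exact absurd e h1 | exact absurd e.symm h1 | exact absurd e h2 | exact absurd e.symm h2 |
      exact absurd e h3 | exact absurd e.symm h3

theorem exists_even_pair {n : ℕ} (hn : 4 ≤ n) {i j : Fin n} (h : i ≠ j) :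
    ∃ σ : alternatingGroup (Fin n), (σ : Perm (Fin n)) ⟨0, by omega⟩ = i ∧
      (σ : Perm (Fin n)) ⟨1, by omega⟩ = j := by
  obtain ⟨σ, hσ⟩ := exists_perm ![(⟨0, by omega⟩ : Fin n), ⟨1, by omega⟩] ![i, j]
    (An.pair_inj (by simp)) (An.pair_inj h)
  rcases Int.units_eq_one_or (Perm.sign σ) with hs | hs
  · exact ⟨⟨σ, Perm.mem_alternatingGroup.2 hs⟩, hσ 0, hσ 1⟩
  · refine ⟨⟨σ * Equiv.swap ⟨2, by omega⟩ ⟨3, by omega⟩, Perm.mem_alternatingGroup.2 ?_⟩, ?_, ?_⟩
    · rw [map_mul, hs, Perm.sign_swap (by simp)]; decide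
    · show σ (Equiv.swap _ _ _) = i
      rw [swap_apply_of_ne_of_ne (by simp) (by simp)]; exact hσ 0
    · show σ (Equiv.swap _ _ _) = j
      rw [swap_apply_of_ne_of_ne (by simp) (by simp)]; exact hσ 1

/-- an even double transposition of the first four points -/
def dbl {n : ℕ} (hn : 4 ≤ n) (a b c d : Fin 4) (hab : a ≠ b) (hcd : c ≠ d) : alternatingGroup (Fin n) :=
  ⟨Equiv.swap (first hn a) (first hn b) * Equiv.swap (first hn c) (first hn d),
    Perm.mem_alternatingGroup.2 (by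
      rw [map_mul, Perm.sign_swap ((first_injective hn).ne hab),
        Perm.sign_swap ((first_injective hn).ne hcd)]
      decide)⟩

theorem dbl_apply {n : ℕ} (hn : 4 ≤ n) (a b c d : Fin 4) (hab : a ≠ b) (hcd : c ≠ d) (i : Fin 4) :
    (dbl hn a b c d hab hcd : Perm (Fin n)) (first hn i) =
      first hn (Equiv.swap a b (Equiv.swap c d i)) := by
  show Equiv.swap _ _ (Equiv.swap _ _ _) = _
  rw [(first_injective hn).swap_apply, (first_injective hn).swap_apply]

/-- `(01)(23)` -/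
def τ4 {n : ℕ} (hn : 4 ≤ n) : alternatingGroup (Fin n) := dbl hn 0 1 2 3 (by decide) (by decide)
/-- `(02)(13)` -/
def π4 {n : ℕ} (hn : 4 ≤ n) : alternatingGroup (Fin n) := dbl hn 0 2 1 3 (by decide) (by decide)
/-- `(03)(12)` -/
def π4' {n : ℕ} (hn : 4 ≤ n) : alternatingGroup (Fin n) := dbl hn 0 3 1 2 (by decide) (by decide)

/-- A map of `SL 3` and one of the alternating group that fit together. -/
structure Fit (F : Type v) [Field F] (g : Fˣ) {n : ℕ} (hn : 4 ≤ n) (G : Type*) [Group G] where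
  /-- the small map -/
  ψ : SLn 3 F →* G
  /-- the permutations -/
  A : alternatingGroup (Fin n) →* G
  rot : A (altEmb ⟨first (by omega), first_injective (show 3 ≤ n by omega)⟩ c012) = ψ (PM F 3 c012)
  fix : ∀ σ : alternatingGroup (Fin n), (σ : Perm (Fin n)) (first hn 0) = first hn 0 →
    (σ : Perm (Fin n)) (first hn 1) = first hn 1 →
    Commute (A σ) (ψ (xt 0 1 1)) ∧ Commute (A σ) (ψ (h3 g))
  flip_u : A (τ4 hn) * ψ (xt 0 1 1) * (A (τ4 hn))⁻¹ = ψ (xt 1 0 1)
  flip_h : A (τ4 hn) * ψ (h3 g) * (A (τ4 hn))⁻¹ = (ψ (h3 g))⁻¹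
  far_u : Commute (A (π4 hn) * ψ (xt 0 1 1) * (A (π4 hn))⁻¹) (ψ (xt 0 1 1))
  far_h : Commute (A (π4 hn) * ψ (xt 0 1 1) * (A (π4 hn))⁻¹) (ψ (h3 g))
  far_u' : Commute (A (π4' hn) * ψ (xt 0 1 1) * (A (π4' hn))⁻¹) (ψ (xt 0 1 1))
  far_h' : Commute (A (π4' hn) * ψ (xt 0 1 1) * (A (π4' hn))⁻¹) (ψ (h3 g))

namespace Fit

variable {p : ℕ} [Fact p.Prime] [Algebra (ZMod p) F] {g : Fˣ} {n : ℕ} {hn : 4 ≤ n}
  {G : Type*} [Group G] (R : Fit F g hn G) (hx : Algebra.adjoin (ZMod p) {(g : F) ^ 2} = ⊤)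

/-- the root group -/
def a (t : F) : G := R.ψ (xt 0 1 t)

theorem a_add (t u : F) : R.a (t + u) = R.a t * R.a u := by
  rw [a, a, a, ← map_mul, ← xt_add (by decide)]

theorem a_zero : R.a 0 = 1 := by rw [a, xt_zero, map_one]

theorem a_neg (t : F) : R.a (-t) = (R.a t)⁻¹ := by
  rw [eq_inv_iff_mul_eq_one, ← R.a_add, neg_add_cancel, R.a_zero]

theorem h_a (t : F) : R.ψ (h3 g) * R.a t * (R.ψ (h3 g))⁻¹ = R.a ((g : F) ^ 2 * t) := by
  rw [a, a, ← map_inv, ← map_mul, ← map_mul, h3_up]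

include hx in
theorem commute_all {k : G} (h1 : Commute k (R.ψ (xt 0 1 1))) (h2 : Commute k (R.ψ (h3 g))) (t : F) :
    Commute k (R.a t) := by
  let S : AddSubgroup F :=
    { carrier := {t | Commute k (R.a t)}
      add_mem' := fun {a b} ha hb => by show Commute _ _; rw [R.a_add]; exact ha.mul_right hb
      zero_mem' := by show Commute _ _; rw [R.a_zero]; exact Commute.one_right _
      neg_mem' := fun {a} ha => by show Commute _ _; rw [R.a_neg]; exact ha.inv_right }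
  exact all_of_stable hx S h1 (fun s hs => by
    show Commute _ _
    rw [← R.h_a]; exact (h2.mul_right hs).mul_right h2.inv_right) t

include hx in
theorem flip (t : F) : R.A (τ4 hn) * R.a t * (R.A (τ4 hn))⁻¹ = R.ψ (xt 1 0 t) := by
  set T := R.A (τ4 hn)
  let S : AddSubgroup F :=
    { carrier := {t | T * R.a t * T⁻¹ = R.ψ (xt 1 0 t)}
      add_mem' := fun {a b} ha hb => by
        show _ = _
        rw [R.a_add, xt_add (by decide), map_mul, ← ha, ← hb]; group
      zero_mem' := by show _ = _; rw [R.a_zero, xt_zero, map_one]; group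
      neg_mem' := fun {a} ha => by
        show _ = _
        rw [R.a_neg, ← An.xt_inv (by decide), map_inv, ← ha]; group }
  refine all_of_stable hx S R.flip_u (fun s hs => ?_) t
  show _ = _
  rw [← R.h_a, ← h3_low g s, map_mul, map_mul, map_inv, ← (hs : T * R.a s * T⁻¹ = _)]
  calc T * (R.ψ (h3 g) * R.a s * (R.ψ (h3 g))⁻¹) * T⁻¹
      = (T * R.ψ (h3 g) * T⁻¹) * (T * R.a s * T⁻¹) * (T * R.ψ (h3 g) * T⁻¹)⁻¹ := by group
    _ = _ := by rw [R.flip_h, inv_inv]

open Classical in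
/-- the root elements -/
noncomputable def X (i j : Fin n) (t : F) : G :=
  if h : i ≠ j then
    R.A (exists_even_pair hn h).choose * R.a t * (R.A (exists_even_pair hn h).choose)⁻¹ else 1

include hx in
theorem X_eq (σ : alternatingGroup (Fin n)) {i j : Fin n} (h0 : (σ : Perm (Fin n)) (first hn 0) = i)
    (h1 : (σ : Perm (Fin n)) (first hn 1) = j) (t : F) :
    R.X i j t = R.A σ * R.a t * (R.A σ)⁻¹ := by
  have h : i ≠ j := by
    rw [← h0, ← h1]; exact (σ : Perm (Fin n)).injective.ne ((first_injective hn).ne (by decide))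
  rw [X, dif_pos h]
  set ρ := (exists_even_pair hn h).choose
  obtain ⟨r0, r1⟩ := (exists_even_pair hn h).choose_spec
  have hfix := R.fix (σ⁻¹ * ρ)
    (by
      show (σ : Perm (Fin n))⁻¹ ((ρ : Perm (Fin n)) _) = _
      rw [Perm.inv_def, Equiv.symm_apply_eq, h0]; exact r0)
    (by
      show (σ : Perm (Fin n))⁻¹ ((ρ : Perm (Fin n)) _) = _
      rw [Perm.inv_def, Equiv.symm_apply_eq, h1]; exact r1)
  have := R.commute_all hx hfix.1 hfix.2 t
  calc R.A ρ * R.a t * (R.A ρ)⁻¹ = R.A σ * (R.A (σ⁻¹ * ρ) * R.a t * (R.A (σ⁻¹ * ρ))⁻¹) * (R.A σ)⁻¹ := by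
        rw [map_mul, map_inv]; group
    _ = _ := by rw [this.eq, mul_inv_cancel_right]

include hx in
theorem X_equiv (ρ : alternatingGroup (Fin n)) {i j : Fin n} (h : i ≠ j) (t : F) :
    R.X ((ρ : Perm (Fin n)) i) ((ρ : Perm (Fin n)) j) t = R.A ρ * R.X i j t * (R.A ρ)⁻¹ := by
  obtain ⟨σ, s0, s1⟩ := exists_even_pair hn h
  rw [R.X_eq hx σ s0 s1, R.X_eq hx (ρ * σ) (by rw [← s0]; rfl) (by rw [← s1]; rfl), map_mul]
  group

include hx in
theorem X_first (i j : Fin 3) (hij : i ≠ j) (t : F) :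
    R.X (first (by omega) i) (first (by omega) j) t = R.ψ (xt i j t) := by
  have h3 : 3 ≤ n := by omega
  have hrot : ∀ i j : Fin 3, i ≠ j → R.X (first h3 i) (first h3 j) t = R.ψ (xt i j t) →
      R.X (first h3 (i + 1)) (first h3 (j + 1)) t = R.ψ (xt (i + 1) (j + 1) t) := by
    intro i j hij e
    have e2 := R.X_equiv hx (altEmb ⟨first h3, first_injective h3⟩ c012) ((first_injective h3).ne hij) t
    rw [show ∀ i, (altEmb ⟨first h3, first_injective h3⟩ c012 : Perm (Fin n)) (first h3 i) =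
      first h3 (i + 1) from fun i => by
        rw [show first h3 i = (⟨first h3, first_injective h3⟩ : Fin 3 ↪ Fin n) i from rfl, altEmb_apply,
          c012_apply]; rfl] at e2
    rw [show ∀ i, (altEmb ⟨first h3, first_injective h3⟩ c012 : Perm (Fin n)) (first h3 i) =
      first h3 (i + 1) from fun i => by
        rw [show first h3 i = (⟨first h3, first_injective h3⟩ : Fin 3 ↪ Fin n) i from rfl, altEmb_apply,
          c012_apply]; rfl] at e2
    rw [e2, e, R.rot, ← map_inv, ← map_mul, ← map_mul, PM_conj _ hij, c012_apply, c012_apply]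
  have e01 : R.X (first h3 0) (first h3 1) t = R.ψ (xt 0 1 t) := by
    rw [R.X_eq hx 1 (i := first h3 0) (j := first h3 1) rfl rfl, map_one, one_mul, inv_one, mul_one]; rfl
  have e10 : R.X (first h3 1) (first h3 0) t = R.ψ (xt 1 0 t) := by
    rw [← R.flip hx, R.X_eq hx (τ4 hn) (i := first h3 1) (j := first h3 0)]
    · rw [τ4, dbl_apply]; rfl
    · rw [τ4, dbl_apply]; rfl
  have e12 := hrot 0 1 (by decide) e01
  have e20 := hrot _ _ (by decide) e12
  have e21 := hrot 1 0 (by decide) e10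
  have e02 := hrot _ _ (by decide) e21
  fin_cases i <;> fin_cases j <;>
    first
      | exact absurd rfl hij
      | exact e01 | exact e10 | exact e12 | exact e20 | exact e21 | exact e02

include hx in
theorem exists_triple {i j l : Fin n} (h1 : i ≠ j) (h2 : j ≠ l) (h3 : i ≠ l) :
    ∃ (σ : alternatingGroup (Fin n)) (y : Fin 3 → Fin 3), Function.Injective y ∧
      ∀ a b, a ≠ b → ∀ t,
        R.X (![i, j, l] a) (![i, j, l] b) t = R.A σ * R.ψ (xt (y a) (y b) t) * (R.A σ)⁻¹ := by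
  have hinj : Function.Injective ![i, j, l] := by
    exact triple_injective h1 h2 h3
  obtain ⟨σ, hσ⟩ := exists_even (first (show 3 ≤ n by omega)) ![i, j, l]
    (first_injective _) hinj 0 1 (by decide)
  rcases hσ with hσ | hσ
  · refine ⟨σ, id, Function.injective_id, fun a b hab t => ?_⟩
    rw [← hσ a, ← hσ b, R.X_equiv hx σ ((first_injective _).ne hab), R.X_first hx a b hab]; rfl
  · refine ⟨σ, Equiv.swap 0 1, (Equiv.swap 0 1).injective, fun a b hab t => ?_⟩
    rw [← hσ a, ← hσ b, R.X_equiv hx σ ((first_injective _).ne ((Equiv.swap 0 1).injective.ne hab)),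
      R.X_first hx _ _ ((Equiv.swap 0 1).injective.ne hab)]

theorem X_add {i j : Fin n} (h : i ≠ j) (t u : F) : R.X i j (t + u) = R.X i j t * R.X i j u := by
  simp only [X, dif_pos h, R.a_add]; group

include hx in
theorem X_near {i j l : Fin n} (h1 : i ≠ j) (h2 : j ≠ l) (h3 : i ≠ l) (t u : F) :
    R.X i j t * R.X j l u * (R.X i j t)⁻¹ * (R.X j l u)⁻¹ = R.X i l (t * u) := by
  obtain ⟨σ, y, hy, hX⟩ := R.exists_triple hx h1 h2 h3
  have e1 := hX 0 1 (by decide) t
  have e2 := hX 1 2 (by decide) u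
  have e3 := hX 0 2 (by decide) (t * u)
  simp only [cons_val_zero, cons_val_one, cons_val_two, head_cons, tail_cons] at e1 e2 e3
  have := StPres.transv_near (hy.ne (show (0 : Fin 3) ≠ 1 by decide)) (hy.ne (show (1 : Fin 3) ≠ 2 by decide))
    (hy.ne (show (0 : Fin 3) ≠ 2 by decide)) t u
  rw [← xt_eq, ← xt_eq, ← xt_eq] at this
  rw [e1, e2, e3, ← this, map_mul, map_mul, map_mul, map_inv, map_inv]
  group

include hx in
theorem X_shared {i j k l : Fin n} (h1 : i ≠ j) (h2 : k ≠ l) (h3 : i ≠ l) (h4 : j ≠ k)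
    (h : i = k ∨ j = l) (t u : F) : Commute (R.X i j t) (R.X k l u) := by
  by_cases hboth : i = k ∧ j = l
  · obtain ⟨rfl, rfl⟩ := hboth
    rw [commute_iff_eq, ← R.X_add h1, ← R.X_add h1, add_comm]
  obtain ⟨σ, y, hy, a, b, c, d, hab, hcd, had, hbc, e1, e2⟩ :
      ∃ (σ : alternatingGroup (Fin n)) (y : Fin 3 → Fin 3) (_ : Function.Injective y) (a b c d : Fin 3)
        (_ : a ≠ b) (_ : c ≠ d) (_ : a ≠ d) (_ : b ≠ c),
        R.X i j t = R.A σ * R.ψ (xt (y a) (y b) t) * (R.A σ)⁻¹ ∧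
        R.X k l u = R.A σ * R.ψ (xt (y c) (y d) u) * (R.A σ)⁻¹ := by
    rcases h with h | h
    · have hjl : j ≠ l := fun e => hboth ⟨h, e⟩
      obtain ⟨σ, y, hy, hX⟩ := R.exists_triple hx h1 hjl h3
      refine ⟨σ, y, hy, 0, 1, 0, 2, by decide, by decide, by decide, by decide, ?_, ?_⟩
      · simpa using hX 0 1 (by decide) t
      · simpa [h] using hX 0 2 (by decide) u
    · have hik : i ≠ k := fun e => hboth ⟨e, h⟩
      obtain ⟨σ, y, hy, hX⟩ := R.exists_triple hx h1 h4 hik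
      refine ⟨σ, y, hy, 0, 1, 2, 1, by decide, by decide, by decide, by decide, ?_, ?_⟩
      · simpa using hX 0 1 (by decide) t
      · simpa [h] using hX 2 1 (by decide) u
  have := StPres.transv_far (hy.ne hab) (hy.ne hcd) (hy.ne had) (hy.ne hbc) t u
  rw [← xt_eq, ← xt_eq, mul_inv_eq_one, mul_inv_eq_iff_eq_mul] at this
  rw [e1, e2, commute_iff_eq]
  have hh : R.ψ (xt (y a) (y b) t) * R.ψ (xt (y c) (y d) u) =
      R.ψ (xt (y c) (y d) u) * R.ψ (xt (y a) (y b) t) := by rw [← map_mul, ← map_mul, this]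
  calc _ = R.A σ * (R.ψ (xt (y a) (y b) t) * R.ψ (xt (y c) (y d) u)) * (R.A σ)⁻¹ := by group
    _ = _ := by rw [hh]; group

include hx in
theorem X_far_one {i j k l : Fin n} (h1 : i ≠ j) (h2 : k ≠ l) (h3 : i ≠ l) (h4 : j ≠ k)
    (h5 : i ≠ k) (h6 : j ≠ l) (t : F) : Commute (R.X i j t) (R.X k l 1) := by
  have hinj : Function.Injective ![i, j, k, l] := by
    intro a b e; fin_cases a <;> fin_cases b <;> simp_all [eq_comm]
  obtain ⟨σ, hσ⟩ := exists_even (first hn) ![i, j, k, l] (first_injective hn) hinj 2 3 (by decide)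
  have key : ∀ π : alternatingGroup (Fin n),
      Commute (R.A π * R.ψ (xt 0 1 1) * (R.A π)⁻¹) (R.ψ (xt 0 1 1)) →
      Commute (R.A π * R.ψ (xt 0 1 1) * (R.A π)⁻¹) (R.ψ (BPres.h3 g)) →
      (σ : Perm (Fin n)) (first hn 0) = i → (σ : Perm (Fin n)) (first hn 1) = j →
      (σ : Perm (Fin n)) ((π : Perm (Fin n)) (first hn 0)) = k →
      (σ : Perm (Fin n)) ((π : Perm (Fin n)) (first hn 1)) = l →
      Commute (R.X i j t) (R.X k l 1) := by
    intro π hu hh s0 s1 s2 s3
    rw [R.X_eq hx σ s0 s1, R.X_eq hx (σ * π) s2 s3, map_mul]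
    have hc := (R.commute_all hx hu hh t).symm
    rw [commute_iff_eq]
    calc _ = R.A σ * (R.a t * (R.A π * R.ψ (xt 0 1 1) * (R.A π)⁻¹)) * (R.A σ)⁻¹ := by rw [a, a]; group
      _ = _ := by rw [hc.eq, a, a]; group
  rcases hσ with hσ | hσ
  · exact key (π4 hn) R.far_u R.far_h (hσ 0) (hσ 1) (by rw [π4, dbl_apply]; exact hσ 2)
      (by rw [π4, dbl_apply]; exact hσ 3)
  · exact key (π4' hn) R.far_u' R.far_h' (hσ 0) (hσ 1) (by rw [π4', dbl_apply]; exact hσ 2)
      (by rw [π4', dbl_apply]; exact hσ 3)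

include hx in
theorem X_far {i j k l : Fin n} (h1 : i ≠ j) (h2 : k ≠ l) (h3 : i ≠ l) (h4 : j ≠ k) (t s : F) :
    Commute (R.X i j t) (R.X k l s) := by
  by_cases h : i = k ∨ j = l
  · exact R.X_shared hx h1 h2 h3 h4 h t s
  rw [not_or] at h
  obtain ⟨h5, h6⟩ := h
  set A := R.X i k t
  set B := R.X k j 1
  set C := R.X k l s
  set D := R.X i l (t * s)
  have hAB : R.X i j t = A * B * A⁻¹ * B⁻¹ := by
    rw [R.X_near hx h5 h4.symm h1, mul_one]
  have hAC : A * C * A⁻¹ * C⁻¹ = D := R.X_near hx h5 h2 h3 t s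
  have hCB : Commute C B := R.X_shared hx h2 h4.symm h4.symm h2.symm (Or.inl rfl) s 1
  have hDA : Commute D A := R.X_shared hx h3 h5 h5 h3.symm (Or.inl rfl) _ _
  have hDB : Commute D B := R.X_far_one hx h3 h4.symm h1 h2.symm h5 (Ne.symm h6) _
  have hCA : C * A * C⁻¹ = D⁻¹ * A := by rw [← hAC]; group
  refine Commute.symm ?_
  rw [commute_iff_eq, ← mul_inv_eq_iff_eq_mul, hAB]
  calc C * (A * B * A⁻¹ * B⁻¹) * C⁻¹
      = (C * A * C⁻¹) * (C * B * C⁻¹) * (C * A * C⁻¹)⁻¹ * (C * B * C⁻¹)⁻¹ := by group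
    _ = (D⁻¹ * A) * B * (D⁻¹ * A)⁻¹ * B⁻¹ := by rw [hCA, hCB.eq, mul_inv_cancel_right]
    _ = D⁻¹ * (A * B * A⁻¹) * (D * B⁻¹) := by group
    _ = D⁻¹ * (A * B * A⁻¹) * (B⁻¹ * D) := by rw [hDB.inv_right.eq]
    _ = D⁻¹ * (A * B * A⁻¹ * B⁻¹) * D := by group
    _ = _ := by
        rw [mul_assoc D⁻¹, ← (((hDA.mul_right hDB).mul_right hDA.inv_right).mul_right hDB.inv_right).eq]
        group

include hx in
/-- The two maps extend to `SL n`. -/
theorem exists_map [Finite F] : ∃ φ : SLn n F →* G,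
    φ.comp (emb (first (show 3 ≤ n by omega)) (first_injective _)) = R.ψ ∧
    φ.comp (PM F n) = R.A := by
  have h3 : 3 ≤ n := by omega
  obtain ⟨φ, hφ⟩ := An.exists_hom (K := F) h3 (fun i j t => R.X i j t) (fun i j h t u => R.X_add h t u)
    (fun i j k l h1 h2 h3 h4 t u => R.X_far hx h1 h2 h3 h4 t u)
    (fun i j l h1 h2 h3 t u => R.X_near hx h1 h2 h3 t u)
  have hφx : ∀ i j, i ≠ j → ∀ t, φ (xt i j t) = R.X i j t := fun i j h t => by rw [xt_eq h, hφ]
  have hψ : φ.comp (emb (first h3) (first_injective _)) = R.ψ := hom_ext_xt (by norm_num) fun i j h t => by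
    rw [MonoidHom.comp_apply, emb_xt _ _ h, hφx _ _ ((first_injective _).ne h), R.X_first hx i j h]
  refine ⟨φ, hψ, ?_⟩
  have hequiv : ∀ σ (y : SLn n F), R.A σ * φ y * (R.A σ)⁻¹ = φ (PM F n σ * y * (PM F n σ)⁻¹) := by
    intro σ y
    refine xt_induction (by omega) (fun y => R.A σ * φ y * (R.A σ)⁻¹ = φ (PM F n σ * y * (PM F n σ)⁻¹))
      (fun i j h t => ?_) (fun a b ha hb => ?_) y
    · rw [hφx _ _ h, PM_conj σ h, hφx _ _ ((σ : Perm (Fin n)).injective.ne h), R.X_equiv hx σ h]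
    · calc R.A σ * φ (a * b) * (R.A σ)⁻¹ = (R.A σ * φ a * (R.A σ)⁻¹) * (R.A σ * φ b * (R.A σ)⁻¹) := by
            rw [map_mul]; group
        _ = _ := by rw [ha, hb, ← map_mul]; congr 1; group
  set c := altEmb ⟨first h3, first_injective h3⟩ c012
  have hc : φ (PM F n c) = R.A c := by
    rw [← emb_PM]
    exact (DFunLike.congr_fun hψ _).trans R.rot.symm
  have hconj : ∀ σ, φ (PM F n (σ * c * σ⁻¹)) = R.A (σ * c * σ⁻¹) := fun σ => by
    rw [map_mul (PM F n), map_mul (PM F n), map_inv (PM F n), ← hequiv, hc, map_mul, map_mul, map_inv]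
  have h01 : first h3 (0 : Fin 3) ≠ first h3 1 := (first_injective h3).ne (by decide)
  refine hom_ext_cyc h01 fun i hi0 hi1 => ?_
  have h02 : first h3 (0 : Fin 3) ≠ first h3 2 := (first_injective h3).ne (by decide)
  have hcval : c = cyc (first h3 0) (first h3 1) (first h3 2) :=
    altEmb_cyc ⟨first h3, first_injective h3⟩ (by decide) (by decide)
  have hinj : Function.Injective ![first h3 0, first h3 1, i] := by
    exact triple_injective h01 hi1.symm hi0.symm
  obtain ⟨σ, hσ⟩ := exists_even (first h3) _ (first_injective h3) hinj 0 1 (by decide)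
  rcases hσ with hσ | hσ
  · have e : σ * c * σ⁻¹ = cyc (first h3 0) (first h3 1) i := by
      rw [hcval, cyc_conj σ h01 h02, hσ 0, hσ 1, hσ 2]; rfl
    show φ (PM F n _) = _
    rw [← e]; exact hconj σ
  · have e : σ * c⁻¹ * σ⁻¹ = cyc (first h3 0) (first h3 1) i := by
      rw [hcval, cyc_inv h01 h02 ((first_injective h3).ne (by decide)),
        cyc_conj σ h01.symm ((first_injective h3).ne (by decide))]
      have e0 := hσ 0
      have e1 := hσ 1
      have e2 := hσ 2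
      rw [swap_apply_of_ne_of_ne (by decide) (by decide)] at e2
      simp at e0 e1 e2
      rw [e0, e1, e2]
    show φ (PM F n _) = _
    rw [← e, show σ * c⁻¹ * σ⁻¹ = (σ * c * σ⁻¹)⁻¹ by group, map_inv, map_inv, map_inv, hconj]

end Fit

end CfsgLib.BPres
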