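import Cfsg.Agent.BPres.SLn
import Cfsg.Agent.BPres.Alt
import Cfsg.Agent.SL3Pres.Inst

/-!
A presentation of `SL n` with at most sixty relations.
-/

set_option autoImplicit false
set_option linter.style.haveILetI false

namespace CfsgLib.BPres

open Equiv Matrix
open CfsgLib.An (SLn xt xt_coe xt_eq emb emb_xt)

universe v

/-- The stabiliser of a set of points comes from the rest. -/
theorem exists_preimage {α : Type*} [Fintype α] [DecidableEq α] (s : Finset α) (σ : alternatingGroup α)
    (h : ∀ x, x ∉ s → (σ : Perm α) x = x) :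
    ∃ τ : alternatingGroup s, altEmb (valEmb s) τ = σ := by
  have hs : ∀ x, (σ : Perm α) x ∈ s ↔ x ∈ s := fun x => by
    refine ⟨fun hx => ?_, fun hx => ?_⟩
    · by_contra hn
      rw [h x hn] at hx
      exact hn hx
    · by_contra hn
      have e := (σ : Perm α).injective (h _ hn)
      rw [e] at hn
      exact hn hx
  refine ⟨⟨(σ : Perm α).subtypePerm hs, ?_⟩, ?_⟩
  · rw [Perm.mem_alternatingGroup]
    convert (Perm.sign_subtypePerm (σ : Perm α) hs fun x hx => by_contra fun hn => hx (h x hn)).trans σ.2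
  · refine Subtype.ext (Equiv.ext fun x => ?_)
    by_cases hx : x ∈ s
    · rw [show x = valEmb s ⟨x, hx⟩ from rfl, altEmb_apply]; rfl
    · rw [altEmb_apply_outside _ _ (fun ⟨z, hz⟩ => hx (hz ▸ z.2)), h x hx]

variable {F : Type v} [Field F]

/-- A permutation matrix moves a diagonal one. -/
theorem PM_diag {n : ℕ} (σ : alternatingGroup (Fin n)) (d e : Fin n → F)
    (h : ∀ i, d ((σ : Perm (Fin n)).symm i) = e i) :
    (PM F n σ).1 * Matrix.diagonal d = Matrix.diagonal e * (PM F n σ).1 := by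
  ext i j
  rw [Matrix.mul_diagonal, Matrix.diagonal_mul, PM_apply]
  by_cases hij : (σ : Perm (Fin n)).symm i = j
  · rw [if_pos hij, ← h i, hij]; ring
  · rw [if_neg hij]; ring

/-- The torus element in `SL n`. -/
theorem torus_val {n : ℕ} (hn : 4 ≤ n) (g : Fˣ) :
    (emb (first (show 3 ≤ n by omega)) (first_injective _) (h3 g)).1 =
      Matrix.diagonal fun i => if i = first hn 0 then (g : F) else if i = first hn 1 then (g : F)⁻¹ else 1 := by
  classical
  have h3n : 3 ≤ n := by omega
  show An.embM (first h3n) (first_injective _) (h3 g).1 = _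
  ext x y
  obtain ⟨x, rfl⟩ := (An.embEquiv (first h3n) (first_injective _)).surjective x
  obtain ⟨y, rfl⟩ := (An.embEquiv (first h3n) (first_injective _)).surjective y
  have h0 : first hn 0 = An.embEquiv (first h3n) (first_injective _) (Sum.inl 0) :=
    (An.embEquiv_inl (first h3n) (first_injective _) 0).symm
  have h1 : first hn 1 = An.embEquiv (first h3n) (first_injective _) (Sum.inl 1) :=
    (An.embEquiv_inl (first h3n) (first_injective _) 1).symm
  simp only [An.embM, Matrix.reindex_apply, Matrix.submatrix_apply, Equiv.symm_apply_apply,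
    Matrix.diagonal_apply, h0, h1, EmbeddingLike.apply_eq_iff_eq]
  rcases x with x | x <;> rcases y with y | y
  · rw [fromBlocks_apply₁₁, h3, SL3Pres.emb3_h]
    fin_cases x <;> fin_cases y <;> simp
  · simp
  · simp
  · simp [Matrix.one_apply]

variable [Fintype F]

theorem hasPres_SL3 : HasPres (SLn 3 F) 14 := by
  classical
  obtain ⟨p, hcp⟩ := CharP.exists F
  haveI := hcp
  haveI : Fact p.Prime := ⟨CharP.char_is_prime F p⟩
  letI := ZMod.algebra F p
  obtain ⟨rels, hr, he⟩ := SL3Pres.short_presentation (F := F) p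
  exact HasPres.of_equiv hr he

theorem hasPres_SLn {n : ℕ} (hn : 4 ≤ n) : HasPres (SLn n F) 57 := by
  classical
  obtain ⟨p, hcp⟩ := CharP.exists F
  haveI := hcp
  haveI : Fact p.Prime := ⟨CharP.char_is_prime F p⟩
  letI := ZMod.algebra F p
  obtain ⟨m, -, hm⟩ := FiniteField.card F p
  obtain ⟨g0, hg0, hg, -⟩ := SL2Pres.exists_generator (F := F)
  set g : Fˣ := Units.mk0 g0 hg0
  have hx : Algebra.adjoin (ZMod p) {(g : F) ^ 2} = ⊤ := SL2Pres.adjoin_sq hm hg
  obtain ⟨β1, R1, f1, hR1, P1⟩ := hasPres_SL3 (F := F)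
  obtain ⟨β2, R2, f2, hR2, P2⟩ := hasPres_alt (α := Fin n) (by simpa using hn)
  have hn3 : 3 ≤ n := by omega
  choose W1 hW1 using exists_word P1.gen
  choose W2 hW2 using exists_word P2.gen
  let L : SLn 3 F → FreeGroup (β1 ⊕ β2) := fun x => FreeGroup.map Sum.inl (W1 x)
  let M : alternatingGroup (Fin n) → FreeGroup (β1 ⊕ β2) := fun σ => FreeGroup.map Sum.inr (W2 σ)
  set D : Finset (Fin n) := (Finset.univ.erase (first hn 0)).erase (first hn 1)
  obtain ⟨SD, hSD, hSDgen⟩ := exists_gens D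
  let comm : FreeGroup (β1 ⊕ β2) → FreeGroup (β1 ⊕ β2) → FreeGroup (β1 ⊕ β2) :=
    fun u v => u * v * (v * u)⁻¹
  let u0 : SLn 3 F := xt 0 1 1
  let cj : alternatingGroup (Fin n) → SLn 3 F → FreeGroup (β1 ⊕ β2) := fun σ x => M σ * L x * (M σ)⁻¹
  let c := altEmb ⟨first hn3, first_injective hn3⟩ c012
  let R0 : List (FreeGroup (β1 ⊕ β2)) :=
    [M c * (L (PM F 3 c012))⁻¹, cj (τ4 hn) u0 * (L (xt 1 0 1))⁻¹,
      cj (τ4 hn) (h3 g) * L (h3 g), comm (cj (π4 hn) u0) (L u0), comm (cj (π4 hn) u0) (L (h3 g)),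
      comm (cj (π4' hn) u0) (L u0), comm (cj (π4' hn) u0) (L (h3 g))] ++
    SD.toList.map (fun σ => comm (M (altEmb (valEmb D) σ)) (L u0)) ++
    SD.toList.map (fun σ => comm (M (altEmb (valEmb D) σ)) (L (h3 g)))
  let R := R1.map (FreeGroup.map Sum.inl) ++ R2.map (FreeGroup.map Sum.inr) ++ R0
  let E := emb (F := F) (first hn3) (first_injective hn3)
  let f : β1 ⊕ β2 → SLn n F := Sum.elim (fun i => E (f1 i)) (fun i => PM F n (f2 i))
  have hmapl : ∀ {G : Type v} [Group G] (g : β1 ⊕ β2 → G) (r : FreeGroup β1),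
      FreeGroup.lift g (FreeGroup.map Sum.inl r) = FreeGroup.lift (fun i => g (Sum.inl i)) r := by
    intro G _ g r
    exact DFunLike.congr_fun (FreeGroup.ext_hom ((FreeGroup.lift g).comp (FreeGroup.map Sum.inl))
      (FreeGroup.lift fun i => g (Sum.inl i)) fun i => by simp) r
  have hmapr : ∀ {G : Type v} [Group G] (g : β1 ⊕ β2 → G) (r : FreeGroup β2),
      FreeGroup.lift g (FreeGroup.map Sum.inr r) = FreeGroup.lift (fun i => g (Sum.inr i)) r := by
    intro G _ g r
    exact DFunLike.congr_fun (FreeGroup.ext_hom ((FreeGroup.lift g).comp (FreeGroup.map Sum.inr))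
      (FreeGroup.lift fun i => g (Sum.inr i)) fun i => by simp) r
  have hfL : ∀ x, FreeGroup.lift f (L x) = E x := fun x => by
    rw [hmapl, ← hW1 x, lift_comp, hW1]; rfl
  have hfM : ∀ σ, FreeGroup.lift f (M σ) = PM F n σ := fun σ => by
    rw [hmapr, ← hW2 σ, lift_comp, hW2]; rfl
  have hD : ∀ x ∈ D, x ≠ first hn 0 ∧ x ≠ first hn 1 := fun x hx => by
    simp only [D, Finset.mem_erase] at hx; exact ⟨hx.2.1, hx.1⟩
  have hE : ∀ a b : Fin 3, a ≠ b → ∀ t, E (xt a b t) = xt (first hn3 a) (first hn3 b) t :=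
    fun a b h t => emb_xt _ _ h t
  have hτ0 : ((τ4 hn : alternatingGroup (Fin n)) : Perm (Fin n)) (first hn 0) = first hn 1 := by
    rw [τ4, dbl_apply]; rfl
  have hτ1 : ((τ4 hn : alternatingGroup (Fin n)) : Perm (Fin n)) (first hn 1) = first hn 0 := by
    rw [τ4, dbl_apply]; rfl
  have hne4 : ∀ a b : Fin 4, a ≠ b → first hn a ≠ first hn b := fun a b h => (first_injective hn).ne h
  let d : Fin n → F := fun i => if i = first hn 0 then (g : F) else if i = first hn 1 then (g : F)⁻¹ else 1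
  have hEd : (E (h3 g)).1 = Matrix.diagonal d := torus_val hn g
  have hfix : ∀ σ : alternatingGroup (Fin n), (σ : Perm (Fin n)) (first hn 0) = first hn 0 →
      (σ : Perm (Fin n)) (first hn 1) = first hn 1 →
      Commute (PM F n σ) (E u0) ∧ Commute (PM F n σ) (E (h3 g)) := by
    intro σ s0 s1
    refine ⟨?_, ?_⟩
    · rw [commute_iff_eq, ← mul_inv_eq_iff_eq_mul, hE _ _ (by decide)]
      rw [PM_conj σ ((first_injective hn3).ne (by decide))]
      rw [show first hn3 0 = first hn 0 from rfl, show first hn3 1 = first hn 1 from rfl, s0, s1]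
    · refine Subtype.ext ?_
      show (PM F n σ).1 * (E (h3 g)).1 = (E (h3 g)).1 * (PM F n σ).1
      rw [hEd, PM_diag σ d d]
      intro i
      simp only [d, Equiv.symm_apply_eq, s0, s1]
  have hcomm : ∀ i j : Fin n, i ≠ j → d i = 1 → d j = 1 → ∀ t : F, Commute (xt i j t) (E (h3 g)) := by
    intro i j hij hi hj t
    refine Subtype.ext ?_
    show (xt i j t : SLn n F).1 * (E (h3 g)).1 = (E (h3 g)).1 * (xt i j t : SLn n F).1
    rw [hEd, xt_coe hij]
    ext a b
    simp only [Matrix.mul_diagonal, Matrix.diagonal_mul, transvection, Matrix.add_apply,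
      Matrix.one_apply, Matrix.single_apply]
    by_cases h : i = a ∧ j = b
    · obtain ⟨rfl, rfl⟩ := h; simp [hij, hi, hj]
    · rw [if_neg h, add_zero]
      by_cases hab : a = b
      · subst hab; simp [mul_comm]
      · simp [hab]
  have hπ : ∀ (σ : alternatingGroup (Fin n)) (a b : Fin 4), a ≠ b →
      (σ : Perm (Fin n)) (first hn 0) = first hn a → (σ : Perm (Fin n)) (first hn 1) = first hn b →
      ∀ t, PM F n σ * E (xt 0 1 t) * (PM F n σ)⁻¹ = xt (first hn a) (first hn b) t := by
    intro σ a b hab s0 s1 t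
    rw [hE _ _ (by decide), PM_conj σ ((first_injective hn3).ne (by decide))]
    rw [show first hn3 0 = first hn 0 from rfl, show first hn3 1 = first hn 1 from rfl, s0, s1]
  have hfar : ∀ a b : Fin 4, a ≠ b → a ≠ 0 → a ≠ 1 → b ≠ 0 → b ≠ 1 →
      Commute (xt (first hn a) (first hn b) (1 : F)) (E u0) ∧
        Commute (xt (first hn a) (first hn b) (1 : F)) (E (h3 g)) := by
    intro a b hab a0 a1 b0 b1
    refine ⟨?_, hcomm _ _ (hne4 _ _ hab) ?_ ?_ 1⟩
    · rw [hE _ _ (by decide), commute_iff_eq, ← mul_inv_eq_iff_eq_mul, ← mul_inv_eq_one,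
        xt_eq (hne4 _ _ hab), xt_eq ((first_injective hn3).ne (show (0 : Fin 3) ≠ 1 by decide))]
      exact StPres.transv_far (hne4 _ _ hab) _ (hne4 a 1 a1) (hne4 b 0 b0) 1 1
    · simp only [d, if_neg (hne4 _ _ a0), if_neg (hne4 _ _ a1)]
    · simp only [d, if_neg (hne4 _ _ b0), if_neg (hne4 _ _ b1)]
  have hπ23 := hπ (π4 hn) 2 3 (by decide) (by rw [π4, dbl_apply]; rfl) (by rw [π4, dbl_apply]; rfl) 1
  have hπ32 := hπ (π4' hn) 3 2 (by decide) (by rw [π4', dbl_apply]; rfl) (by rw [π4', dbl_apply]; rfl) 1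
  have hfarP := hfar 2 3 (by decide) (by decide) (by decide) (by decide) (by decide)
  have hfarP' := hfar 3 2 (by decide) (by decide) (by decide) (by decide) (by decide)
  have hgen : Subgroup.closure (Set.range f) = ⊤ := by
    rw [← FreeGroup.range_lift_eq_closure, eq_top_iff]
    rintro y -
    refine xt_induction (by omega) (fun y => y ∈ (FreeGroup.lift f).range) (fun i j h t => ?_)
      (fun a b => Subgroup.mul_mem _) y
    obtain ⟨σ, s0, s1⟩ := exists_even_pair hn h
    refine ⟨M σ * L (xt 0 1 t) * (M σ)⁻¹, ?_⟩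
    rw [map_mul, map_mul, map_inv, hfM, hfL, hE _ _ (by decide),
      PM_conj σ ((first_injective hn3).ne (by decide))]
    rw [show (σ : Perm (Fin n)) (first hn3 0) = i from s0, show (σ : Perm (Fin n)) (first hn3 1) = j from s1]
  refine ⟨β1 ⊕ β2, R, f, ?_, fun r hr => ?_, hgen, fun G _ f' hf' => ?_⟩
  · simp only [R, R0, List.length_append, List.length_map, List.length_cons, List.length_nil,
      Finset.length_toList]
    omega
  · simp only [R, List.mem_append, List.mem_map] at hr
    rcases hr with (⟨s, hs, rfl⟩ | ⟨s, hs, rfl⟩) | hr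
    · rw [hmapl]
      exact (lift_comp E f1 s).symm.trans (by rw [P1.rel s hs, map_one])
    · rw [hmapr]
      exact (lift_comp (PM F n) f2 s).symm.trans (by rw [P2.rel s hs, map_one])
    · simp only [R0, List.mem_append, List.mem_map, List.mem_cons, List.not_mem_nil, or_false] at hr
      rcases hr with ((rfl | rfl | rfl | rfl | rfl | rfl | rfl) | ⟨σ, -, rfl⟩) | ⟨σ, -, rfl⟩ <;>
        simp only [comm, cj, map_mul, map_inv, hfL, hfM, mul_inv_eq_one]
      · exact (emb_PM _ _ _).symm
      · rw [hπ (τ4 hn) 1 0 (by decide) hτ0 hτ1, hE _ _ (by decide)]; rfl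
      · rw [mul_eq_one_iff_eq_inv, mul_inv_eq_iff_eq_mul, eq_inv_mul_iff_mul_eq, ← mul_assoc]
        refine Subtype.ext ?_
        show (E (h3 g)).1 * (PM F n (τ4 hn)).1 * (E (h3 g)).1 = (PM F n (τ4 hn)).1
        rw [hEd, mul_assoc, PM_diag (τ4 hn) d (fun i => (d i)⁻¹), ← mul_assoc, Matrix.diagonal_mul_diagonal]
        · have hd : ∀ i, d i * (d i)⁻¹ = 1 := fun i => mul_inv_cancel₀ (by
            simp only [d]; split_ifs <;> simp [g.ne_zero])
          simp only [hd, Matrix.diagonal_one, one_mul]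
        · intro i
          simp only [d, Equiv.symm_apply_eq, hτ0, hτ1]
          split_ifs with h1 h2 <;> simp_all [hne4 0 1 (by decide)]
      · rw [hπ23]; exact hfarP.1
      · rw [hπ23]; exact hfarP.2
      · rw [hπ32]; exact hfarP'.1
      · rw [hπ32]; exact hfarP'.2
      · exact (hfix _ (altEmb_apply_outside _ _ fun ⟨z, hz⟩ => (hD _ z.2).1 hz)
          (altEmb_apply_outside _ _ fun ⟨z, hz⟩ => (hD _ z.2).2 hz)).1
      · exact (hfix _ (altEmb_apply_outside _ _ fun ⟨z, hz⟩ => (hD _ z.2).1 hz)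
          (altEmb_apply_outside _ _ fun ⟨z, hz⟩ => (hD _ z.2).2 hz)).2
  have hmapl' : ∀ r : FreeGroup β1,
      FreeGroup.lift f' (FreeGroup.map Sum.inl r) = FreeGroup.lift (fun i => f' (Sum.inl i)) r :=
    fun r => DFunLike.congr_fun (FreeGroup.ext_hom ((FreeGroup.lift f').comp (FreeGroup.map Sum.inl))
      (FreeGroup.lift fun i => f' (Sum.inl i)) fun i => by simp) r
  have hmapr' : ∀ r : FreeGroup β2,
      FreeGroup.lift f' (FreeGroup.map Sum.inr r) = FreeGroup.lift (fun i => f' (Sum.inr i)) r :=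
    fun r => DFunLike.congr_fun (FreeGroup.ext_hom ((FreeGroup.lift f').comp (FreeGroup.map Sum.inr))
      (FreeGroup.lift fun i => f' (Sum.inr i)) fun i => by simp) r
  obtain ⟨ψ, hψ⟩ := P1.univ G (fun i => f' (Sum.inl i)) fun s hs => by
    rw [← hmapl']; exact hf' _ (List.mem_append.2 (Or.inl (List.mem_append.2 (Or.inl (List.mem_map.2 ⟨s, hs, rfl⟩)))))
  obtain ⟨A, hA⟩ := P2.univ G (fun i => f' (Sum.inr i)) fun s hs => by
    rw [← hmapr']; exact hf' _ (List.mem_append.2 (Or.inl (List.mem_append.2 (Or.inr (List.mem_map.2 ⟨s, hs, rfl⟩)))))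
  have hL : ∀ x, FreeGroup.lift f' (L x) = ψ x := fun x => by
    rw [hmapl', ← hW1 x, lift_comp, hW1, show (fun i => ψ (f1 i)) = _ from funext hψ]
  have hM : ∀ σ, FreeGroup.lift f' (M σ) = A σ := fun σ => by
    rw [hmapr', ← hW2 σ, lift_comp, hW2, show (fun i => A (f2 i)) = _ from funext hA]
  have h0 : ∀ r ∈ R0, FreeGroup.lift f' r = 1 := fun r hr => hf' r (List.mem_append.2 (Or.inr hr))
  simp only [R0, List.forall_mem_append, List.forall_mem_map, List.forall_mem_cons, List.not_mem_nil,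
    false_imp_iff, implies_true, and_true, comm, cj, map_mul, map_inv, hL, hM, mul_inv_eq_one,
    Finset.mem_toList] at h0
  obtain ⟨⟨⟨r1, r2, r3, r4, r5, r6, r7⟩, r8⟩, r9⟩ := h0
  have hDfix : ∀ τ : alternatingGroup D,
      Commute (A (altEmb (valEmb D) τ)) (ψ u0) ∧ Commute (A (altEmb (valEmb D) τ)) (ψ (h3 g)) := by
    intro τ
    have hτ : τ ∈ Subgroup.closure (SD : Set (alternatingGroup D)) := by rw [hSDgen]; trivial
    induction hτ using Subgroup.closure_induction with
    | mem t ht => exact ⟨r8 t ht, r9 t ht⟩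
    | one => simp only [map_one]; exact ⟨Commute.one_left _, Commute.one_left _⟩
    | mul x y _ _ hx hy =>
      simp only [map_mul]; exact ⟨hx.1.mul_left hy.1, hx.2.mul_left hy.2⟩
    | inv x _ hx => simp only [map_inv]; exact ⟨hx.1.inv_left, hx.2.inv_left⟩
  let Fd : Fit F g hn G :=
    { ψ := ψ
      A := A
      rot := r1
      fix := fun σ s0 s1 => by
        obtain ⟨τ, rfl⟩ := exists_preimage D σ fun x hx => by
          by_cases h0 : x = first hn 0
          · subst h0; exact s0
          by_cases h1 : x = first hn 1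
          · subst h1; exact s1
          exact absurd (by simp [D, h0, h1]) hx
        exact hDfix τ
      flip_u := r2
      flip_h := eq_inv_of_mul_eq_one_left r3
      far_u := r4
      far_h := r5
      far_u' := r6
      far_h' := r7 }
  obtain ⟨φ, hφ1, hφ2⟩ := Fd.exists_map hx
  refine ⟨φ, fun i => ?_⟩
  rcases i with i | i
  · exact (DFunLike.congr_fun hφ1 (f1 i)).trans (hψ i)
  · exact (DFunLike.congr_fun hφ2 (f2 i)).trans (hA i)

end CfsgLib.BPres
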