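import Cfsg.Agent.BPres.Sp4Target
import Cfsg.Agent.BPres.SLn

/-!
A criterion for maps out of `Sp 4`: a copy of `SL 2`, an involution, and one short root group.
-/

set_option autoImplicit false
set_option linter.unusedSectionVars false

namespace CfsgLib.BPres.Sp4

open Matrix Subgroup CfsgLib.SpPres

universe v w

variable {F : Type v} [Field F]

theorem act2_mul (x y : SpecialLinearGroup (Fin 2) F) (a : F × F) :
    act2 (x * y) a = act2 x (act2 y a) := by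
  simp [act2, sl_mul]; constructor <;> ring

theorem act2_one (a : F × F) : act2 (1 : SpecialLinearGroup (Fin 2) F) a = a := by simp [act2]

theorem SL2_induction (P : SpecialLinearGroup (Fin 2) F → Prop) (hsa : ∀ d, P (sa d)) (hsw : P sw)
    (hinv : ∀ x, P x → P x⁻¹) (hmul : ∀ x y, P x → P y → P (x * y)) (x : SpecialLinearGroup (Fin 2) F) :
    P x := by
  refine xt_induction le_rfl P (fun i j hij t => ?_) hmul x
  fin_cases i <;> fin_cases j <;> try exact absurd rfl hij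
  · have : (An.xt 0 1 t : An.SLn 2 F) = sa t := Subtype.ext (by
      rw [An.xt_coe (by decide)]
      ext a b; fin_cases a <;> fin_cases b <;> simp [transvection, sa, mk2_apply])
    show P (An.xt 0 1 t : An.SLn 2 F)
    rw [this]; exact hsa t
  · have : (An.xt 1 0 t : An.SLn 2 F) = sb t := Subtype.ext (by
      rw [An.xt_coe (by decide)]
      ext a b; fin_cases a <;> fin_cases b <;> simp [transvection, sb, mk2_apply])
    show P (An.xt 1 0 t : An.SLn 2 F)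
    rw [this, sb_eq]
    exact hmul _ _ (hmul _ _ hsw (hsa _)) (hinv _ hsw)

/-- A homomorphism read off a relation that is single-valued. -/
theorem hom_of_pairs {A B : Type*} [Group A] [Group B] (T : Subgroup (A × B))
    (inj : ∀ b, ((1 : A), b) ∈ T → b = 1) (K : Subgroup A) (hK : K ≤ T.map (MonoidHom.fst A B)) :
    ∃ Ψ : K →* B, ∀ g b, (g, b) ∈ T → ∀ hg : g ∈ K, Ψ ⟨g, hg⟩ = b := by
  classical
  have h : ∀ g : K, ∃ b, ((g : A), b) ∈ T := fun g => by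
    obtain ⟨⟨a, b⟩, hz, hab⟩ := hK g.2
    obtain rfl : a = g.1 := hab
    exact ⟨b, hz⟩
  choose b hb using h
  have huniq : ∀ (g : A) (x y : B), (g, x) ∈ T → (g, y) ∈ T → x = y := fun g x y hx hy => by
    have := inj (x * y⁻¹) (by simpa using T.mul_mem hx (T.inv_mem hy))
    exact mul_inv_eq_one.1 this
  refine ⟨MonoidHom.mk' b fun g g' => huniq _ _ _ (hb _) ?_, fun g x hx hg => huniq g _ _ (hb ⟨g, hg⟩) hx⟩
  simpa using T.mul_mem (hb g) (hb g')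

/-- The data. -/
structure Sp4D (F : Type v) [Field F] (G : Type w) [Group G] where
  /-- the copy of `SL 2` -/
  σ : SpecialLinearGroup (Fin 2) F →* G
  /-- the exchange -/
  s : G
  /-- the short root group -/
  R : F → G
  ssq : s * s = 1
  comm : ∀ x y, Commute (σ x) (s * σ y * s)
  R_add : ∀ t u, R (t + u) = R t * R u
  R_up : ∀ d t, Commute (σ (sa d)) (R t)
  R_tor : ∀ (l : Fˣ) t, σ (sh l) * R t * (σ (sh l))⁻¹ = R (l * t)
  R_opp : ∀ t u, R t * (σ sw * R u * (σ sw)⁻¹) =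
    σ sw * R u * (σ sw)⁻¹ * R t * (s * σ (sa (2 * t * u)) * s)
  R_low : ∀ r t, σ (sb r) * R t * (σ (sb r))⁻¹ =
    R t * (σ sw * R (r * t) * (σ sw)⁻¹) * (s * σ (sa (-(r * t * t))) * s)
  R_sym : ∀ t, s * R t * s = R t

namespace Sp4D

variable {G : Type w} [Group G] (D : Sp4D F G)

/-- the second copy -/
def σ' : SpecialLinearGroup (Fin 2) F →* G :=
  MonoidHom.mk' (fun y => D.s * D.σ y * D.s) fun x y => by
    rw [map_mul]
    calc D.s * (D.σ x * D.σ y) * D.s = D.s * D.σ x * (D.s * D.s) * D.σ y * D.s := by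
          rw [D.ssq]; group
      _ = _ := by group

/-- the opposite group -/
def M (t : F) : G := D.σ sw * D.R t * (D.σ sw)⁻¹

/-- the radical -/
def ν (a : F × F) (b : F) : G := D.R a.1 * D.M a.2 * D.σ' (sa (b - a.1 * a.2))

theorem R_zero : D.R 0 = 1 := by
  have := D.R_add 0 0
  rwa [add_zero, left_eq_mul] at this

theorem comm' (x y : SpecialLinearGroup (Fin 2) F) : Commute (D.σ x) (D.σ' y) := D.comm x y

theorem s_inv : D.s⁻¹ = D.s := inv_eq_of_mul_eq_one_right D.ssq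

theorem R_up' (d t : F) : Commute (D.σ' (sa d)) (D.R t) := by
  rw [← D.R_sym t, commute_iff_eq]
  show D.s * D.σ (sa d) * D.s * (D.s * D.R t * D.s) = D.s * D.R t * D.s * (D.s * D.σ (sa d) * D.s)
  calc D.s * D.σ (sa d) * D.s * (D.s * D.R t * D.s) = D.s * D.σ (sa d) * (D.s * D.s) * D.R t * D.s := by group
    _ = D.s * (D.R t * D.σ (sa d)) * D.s := by rw [D.ssq, mul_one, mul_assoc D.s, (D.R_up d t).eq]
    _ = D.s * D.R t * (D.s * D.s) * D.σ (sa d) * D.s := by rw [D.ssq]; group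
    _ = _ := by group

theorem M_up' (d t : F) : Commute (D.σ' (sa d)) (D.M t) :=
  ((D.comm' _ _).symm.mul_right (D.R_up' d t)).mul_right (D.comm' _ _).symm.inv_right

theorem R_M (t u : F) : D.M u * D.R t = D.R t * D.M u * D.σ' (sa (-(2 * t * u))) := by
  have h : D.R t * D.M u = D.M u * D.R t * D.σ' (sa (2 * t * u)) := D.R_opp t u
  rw [h, mul_assoc, ← map_mul, sa_mul, add_neg_cancel, sa_zero, map_one, mul_one]

theorem M_add (t u : F) : D.M (t + u) = D.M t * D.M u := by rw [M, M, M, D.R_add]; group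

theorem ν_mul (a : F × F) (b : F) (a' : F × F) (b' : F) :
    D.ν a b * D.ν a' b' = D.ν (a + a') (b + b' + (a.1 * a'.2 - a.2 * a'.1)) := by
  have h1 : D.σ' (sa (b - a.1 * a.2)) * (D.R a'.1 * D.M a'.2) =
      D.R a'.1 * D.M a'.2 * D.σ' (sa (b - a.1 * a.2)) :=
    ((D.R_up' _ _).mul_right (D.M_up' _ _)).eq
  calc D.ν a b * D.ν a' b' = D.R a.1 * D.M a.2 * (D.σ' (sa (b - a.1 * a.2)) * (D.R a'.1 * D.M a'.2)) *
        D.σ' (sa (b' - a'.1 * a'.2)) := by simp only [ν]; group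
    _ = D.R a.1 * (D.M a.2 * D.R a'.1) * D.M a'.2 * D.σ' (sa (b - a.1 * a.2)) *
        D.σ' (sa (b' - a'.1 * a'.2)) := by rw [h1]; group
    _ = D.R a.1 * D.R a'.1 * D.M a.2 * (D.σ' (sa (-(2 * a'.1 * a.2))) * D.M a'.2) *
        D.σ' (sa (b - a.1 * a.2)) * D.σ' (sa (b' - a'.1 * a'.2)) := by rw [D.R_M]; group
    _ = D.R a.1 * D.R a'.1 * (D.M a.2 * D.M a'.2) * (D.σ' (sa (-(2 * a'.1 * a.2))) *
        D.σ' (sa (b - a.1 * a.2)) * D.σ' (sa (b' - a'.1 * a'.2))) := by rw [(D.M_up' _ _).eq]; group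
    _ = _ := by
        rw [ν, Prod.fst_add, Prod.snd_add, D.R_add, D.M_add, ← map_mul, ← map_mul, sa_mul, sa_mul]
        congr 2; congr 1; ring

theorem ν_zero : D.ν 0 0 = 1 := by
  simp [ν, D.R_zero, M, sa_zero]

theorem ν_R (t : F) : D.ν (t, 0) 0 = D.R t := by simp [ν, M, D.R_zero, sa_zero]

theorem ν_M (t : F) : D.ν (0, t) 0 = D.M t := by simp [ν, D.R_zero, sa_zero]

theorem ν_A (b : F) : D.ν 0 b = D.σ' (sa b) := by simp [ν, D.R_zero, M]

/-- the covariance -/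
def Cov (x : SpecialLinearGroup (Fin 2) F) : Prop :=
  ∀ a b, D.σ x * D.ν a b * (D.σ x)⁻¹ = D.ν (act2 x a) b

theorem cov_of_gens (x : SpecialLinearGroup (Fin 2) F)
    (hR : ∀ t, D.σ x * D.R t * (D.σ x)⁻¹ = D.ν (act2 x (t, 0)) 0)
    (hM : ∀ t, D.σ x * D.M t * (D.σ x)⁻¹ = D.ν (act2 x (0, t)) 0) : D.Cov x := by
  intro a b
  have hA : D.σ x * D.σ' (sa (b - a.1 * a.2)) * (D.σ x)⁻¹ = D.ν 0 (b - a.1 * a.2) := by
    rw [(D.comm' _ _).eq, mul_inv_cancel_right, ν_A]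
  calc D.σ x * D.ν a b * (D.σ x)⁻¹ = (D.σ x * D.R a.1 * (D.σ x)⁻¹) * (D.σ x * D.M a.2 * (D.σ x)⁻¹) *
        (D.σ x * D.σ' (sa (b - a.1 * a.2)) * (D.σ x)⁻¹) := by rw [ν]; group
    _ = _ := by
      rw [hR, hM, hA, D.ν_mul, D.ν_mul]
      congr 1
      · simp [act2]
      · simp only [act2, Prod.fst_zero, Prod.snd_zero]
        linear_combination (a.1 * a.2) * sl_det x

theorem cov_sa (d : F) : D.Cov (sa d) := by
  refine D.cov_of_gens _ (fun t => ?_) fun t => ?_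
  · rw [(D.R_up d t).eq, mul_inv_cancel_right]
    simp [act2, sa, mk2_apply, ν_R]
  · have hneg : (sa (F := F) d) * sw = sw * sb (-d) := by
      refine sl_ext ?_ ?_ ?_ ?_ <;> simp [sl_mul, sa, sb, sw, mk2_apply]
    have hsw2 : ∀ t, D.σ sw * D.M t * (D.σ sw)⁻¹ = D.R (-t) := fun t => by
      rw [M, show D.σ sw * (D.σ sw * D.R t * (D.σ sw)⁻¹) * (D.σ sw)⁻¹ =
        (D.σ sw * D.σ sw) * D.R t * (D.σ sw * D.σ sw)⁻¹ by group, ← map_mul, sw_sq, D.R_tor]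
      simp
    calc D.σ (sa d) * D.M t * (D.σ (sa d))⁻¹
        = D.σ (sa d * sw) * D.R t * (D.σ (sa d * sw))⁻¹ := by rw [M, map_mul]; group
      _ = D.σ sw * (D.σ (sb (-d)) * D.R t * (D.σ (sb (-d)))⁻¹) * (D.σ sw)⁻¹ := by rw [hneg, map_mul]; group
      _ = D.M t * D.R (d * t) * D.σ' (sa (d * t * t)) := by
        rw [D.R_low]
        show D.σ sw * (D.R t * D.M (-d * t) * D.σ' (sa (-(-d * t * t)))) * (D.σ sw)⁻¹ = _
        calc D.σ sw * (D.R t * D.M (-d * t) * D.σ' (sa (-(-d * t * t)))) * (D.σ sw)⁻¹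
            = (D.σ sw * D.R t * (D.σ sw)⁻¹) * (D.σ sw * D.M (-d * t) * (D.σ sw)⁻¹) *
              (D.σ sw * D.σ' (sa (-(-d * t * t))) * (D.σ sw)⁻¹) := by group
          _ = _ := by
            rw [hsw2, (D.comm' _ _).eq, mul_inv_cancel_right]
            simp [M]
      _ = _ := by
        rw [D.R_M, mul_assoc, ← map_mul, sa_mul, ν]
        simp [act2, sa, mk2_apply]
        ring_nf

theorem cov_sw : D.Cov sw := by
  refine D.cov_of_gens _ (fun t => ?_) fun t => ?_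
  · simp [act2, sw, mk2_apply, ν_M]
    rfl
  · rw [M, show D.σ sw * (D.σ sw * D.R t * (D.σ sw)⁻¹) * (D.σ sw)⁻¹ =
      (D.σ sw * D.σ sw) * D.R t * (D.σ sw * D.σ sw)⁻¹ by group, ← map_mul, sw_sq, D.R_tor]
    simp [act2, sw, mk2_apply, ν_R]

theorem cov (x : SpecialLinearGroup (Fin 2) F) : D.Cov x := by
  refine SL2_induction _ D.cov_sa D.cov_sw (fun x hx a b => ?_) (fun x y hx hy a b => ?_) x
  · have := hx (act2 x⁻¹ a) b
    rw [← act2_mul, mul_inv_cancel, act2_one] at this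
    rw [map_inv, ← this]; group
  · have e := hx (act2 y a) b
    rw [← hy, ← act2_mul] at e
    rw [map_mul, ← e]; group

theorem qU_mul (a : F × F) (b : F) (a' : F × F) (b' : F) :
    qU a b * qU a' b' = qU (a + a') (b + b' + (a.1 * a'.2 - a.2 * a'.1)) :=
  ext4 fun p q x y => by
    simp [Equiv.Perm.mul_apply, ρ_qU, mkv_inj]
    refine ⟨⟨?_, ?_⟩, ?_⟩ <;> ring

theorem qU_cov (x : SpecialLinearGroup (Fin 2) F) (a : F × F) (b : F) :
    P0 x * qU a b = qU (act2 x a) b * P0 x :=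
  ext4 fun p q X Y => by
    simp [Equiv.Perm.mul_apply, ρ_qU, ρ_P0, act2, mkv_inj]
    refine ⟨⟨?_, ?_⟩, ?_⟩
    · ring
    · ring
    · linear_combination -(a.1 * q - a.2 * p) * sl_det x

theorem qU_zero : (qU 0 0 : Spn F 2) = 1 := ext4 fun p q x y => by simp [ρ_qU]

/-- the first piece of the graph -/
def T : Subgroup (Spn F 2 × G) where
  carrier := {z | ∃ x a b, z = (P0 x * qU a b, D.σ x * D.ν a b)}
  one_mem' := ⟨1, 0, 0, Prod.ext (by simp [qU_zero]) (by simp [D.ν_zero])⟩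
  mul_mem' := by
    rintro _ _ ⟨x, a, b, rfl⟩ ⟨y, c, d, rfl⟩
    refine ⟨x * y, act2 y⁻¹ a + c, b + d + ((act2 y⁻¹ a).1 * c.2 - (act2 y⁻¹ a).2 * c.1), ?_⟩
    have e1 := qU_cov y⁻¹ a b
    have e2 := D.cov y⁻¹ a b
    rw [map_inv] at e1 e2
    refine Prod.ext ?_ ?_
    · show P0 x * qU a b * (P0 y * qU c d) = _
      rw [← qU_mul, map_mul]
      calc P0 x * qU a b * (P0 y * qU c d) = P0 x * P0 y * ((P0 y)⁻¹ * qU a b) * P0 y * qU c d := by group
        _ = _ := by rw [e1]; group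
    · show D.σ x * D.ν a b * (D.σ y * D.ν c d) = _
      rw [← D.ν_mul, ← e2, map_mul D.σ]; group
  inv_mem' := by
    rintro _ ⟨x, a, b, rfl⟩
    refine ⟨x⁻¹, act2 x (-a), -b, ?_⟩
    have hν : D.ν (-a) (-b) = (D.ν a b)⁻¹ := eq_inv_of_mul_eq_one_left (by
      rw [D.ν_mul, neg_add_cancel, ← D.ν_zero]; congr 1; simp; ring)
    have hq : qU (-a) (-b) = (qU a b : Spn F 2)⁻¹ := eq_inv_of_mul_eq_one_left (by
      rw [qU_mul, neg_add_cancel, ← qU_zero]; congr 1; simp; ring)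
    refine Prod.ext ?_ ?_
    · show (P0 x * qU a b)⁻¹ = P0 x⁻¹ * qU (act2 x (-a)) (-b)
      have e1 := qU_cov x (-a) (-b)
      rw [map_inv, _root_.mul_inv_rev, ← hq, eq_inv_mul_iff_mul_eq, ← mul_assoc, e1, mul_inv_cancel_right]
    · show (D.σ x * D.ν a b)⁻¹ = D.σ x⁻¹ * D.ν (act2 x (-a)) (-b)
      rw [map_inv, ← D.cov x (-a) (-b), hν]; group

theorem T_inj (b : G) (h : ((1 : Spn F 2), b) ∈ D.T) : b = 1 := by
  obtain ⟨x, a, d, e⟩ := h
  rw [Prod.mk.injEq] at e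
  obtain ⟨e1, rfl⟩ := e
  obtain ⟨rfl, rfl, rfl⟩ := qU_eq_one e1.symm
  rw [map_one, one_mul]; exact D.ν_zero

theorem P0_mem (x : SpecialLinearGroup (Fin 2) F) : (P0 x, D.σ x) ∈ D.T :=
  ⟨x, 0, 0, by simp [qU_zero, D.ν_zero]⟩

theorem qR_mem (t : F) : (qR t, D.R t) ∈ D.T :=
  ⟨1, (t, 0), 0, by
    rw [map_one, one_mul, map_one, one_mul, D.ν_R]
    refine Prod.ext (ext4 fun p q x y => ?_) rfl
    simp [ρ_qU, ρ_qR, mkv_inj]; ring⟩

theorem P1a_mem (b : F) : (P1 (sa b), D.σ' (sa b)) ∈ D.T :=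
  ⟨1, 0, b, by
    rw [map_one, one_mul, map_one, one_mul, D.ν_A]
    refine Prod.ext (ext4 fun p q x y => ?_) rfl
    simp [ρ_qU, ρ_P1, mkv_inj, act2, sa, mk2_apply]⟩

/-- the exchange on pairs -/
def flip : Spn F 2 × G →* Spn F 2 × G :=
  MonoidHom.mk' (fun z => (swp * z.1 * swp, D.s * z.2 * D.s)) fun z z' => by
    refine Prod.ext ?_ ?_
    · show swp * (z.1 * z'.1) * swp = swp * z.1 * swp * (swp * z'.1 * swp)
      calc swp * (z.1 * z'.1) * swp = swp * z.1 * (swp * swp) * z'.1 * swp := by rw [swp_sq]; group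
        _ = _ := by group
    · show D.s * (z.2 * z'.2) * D.s = D.s * z.2 * D.s * (D.s * z'.2 * D.s)
      calc D.s * (z.2 * z'.2) * D.s = D.s * z.2 * (D.s * D.s) * z'.2 * D.s := by rw [D.ssq]; group
        _ = _ := by group

/-- the pairs of the two planes -/
def T01 : Subgroup (Spn F 2 × G) where
  carrier := {z | ∃ x y, z = (P0 x * P1 y, D.σ x * D.σ' y)}
  one_mem' := ⟨1, 1, Prod.ext (by simp) (by simp)⟩
  mul_mem' := by
    rintro _ _ ⟨x, y, rfl⟩ ⟨x', y', rfl⟩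
    refine ⟨x * x', y * y', Prod.ext ?_ ?_⟩
    · show P0 x * P1 y * (P0 x' * P1 y') = _
      rw [map_mul P0, map_mul P1, mul_assoc, ← mul_assoc (P1 y), ← (comm01 x' y).eq]; group
    · show D.σ x * D.σ' y * (D.σ x' * D.σ' y') = _
      rw [map_mul D.σ, map_mul D.σ', mul_assoc, ← mul_assoc (D.σ' y), ← (D.comm' x' y).eq]; group
  inv_mem' := by
    rintro _ ⟨x, y, rfl⟩
    refine ⟨x⁻¹, y⁻¹, Prod.ext ?_ ?_⟩
    · show (P0 x * P1 y)⁻¹ = _
      rw [(comm01 x y).eq, _root_.mul_inv_rev, map_inv, map_inv]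
    · show (D.σ x * D.σ' y)⁻¹ = _
      rw [(D.comm' x y).eq, _root_.mul_inv_rev, map_inv D.σ, map_inv D.σ']

theorem T01_inj (b : G) (h : ((1 : Spn F 2), b) ∈ D.T01) : b = 1 := by
  obtain ⟨x, y, e⟩ := h
  rw [Prod.mk.injEq] at e
  obtain ⟨e1, rfl⟩ := e
  have h1 := congrArg (fun A => ρW A ((1, 0), mkv 0 0)) e1
  have h2 := congrArg (fun A => ρW A ((0, 1), mkv 0 0)) e1
  have h3 := congrArg (fun A => ρW A ((0, 0), mkv 1 0)) e1
  have h4 := congrArg (fun A => ρW A ((0, 0), mkv 0 1)) e1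
  simp [map_mul, Equiv.Perm.mul_apply, ρ_P0, ρ_P1, act2, Prod.ext_iff, mkv_inj] at h1 h2 h3 h4
  have hx : x = 1 := sl_ext (by simpa using h1.1.symm) (by simpa using h2.1.symm) (by simpa using h1.2.symm)
    (by simpa using h2.2.symm)
  have hy : y = 1 := sl_ext (by simpa using h3.1.symm) (by simpa using h4.1.symm) (by simpa using h3.2.symm)
    (by simpa using h4.2.symm)
  rw [hx, hy, map_one, map_one, one_mul]

theorem mset_first {A : Spn F 2} (h : A ∈ mset (SpPres.first 0)) :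
    ∃ r d e, A = qR r * P0 (sa d) * P1 (sa e) := by
  obtain ⟨r, d, g, rfl, hg, hg'⟩ := exists_of_first h
  obtain ⟨x, rfl⟩ := exists_of_zero hg
  refine ⟨r, d, x.1 0 1, ?_⟩
  have he := hg'.1 1
  rw [show (1 : Fin 2) = (0 : Fin 1).succ from rfl, fix_iff, split_eB_succ, ρ_emb] at he
  have he' := congrArg split (congrArg Prod.snd he)
  rw [α_sPl, split_eB_zero] at he'
  simp [act2, Prod.ext_iff] at he'
  have hx : x = sa (x.1 0 1) := sl_ext (by simpa [sa, mk2_apply] using he'.1)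
    (by simp [sa, mk2_apply]) (by simpa [sa, mk2_apply] using he'.2) (by
      have hd := sl_det x
      rw [he'.1, he'.2] at hd
      simpa [sa, mk2_apply] using hd)
  conv_lhs => rw [hx]
  rfl

/-- **The criterion.** -/
theorem exists_map : ∃ Φ : Spn F 2 →* G, (∀ x, Φ (P0 x) = D.σ x) ∧ (∀ t, Φ (qR t) = D.R t) ∧
    ∀ y, Φ (P1 y) = D.σ' y := by
  let k0 : Idx 2 := Sum.inl 0
  let k1 : Idx 2 := SpPres.shift (Sum.inl 0)
  let km : Idx 2 := SpPres.first 0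
  have m0 : ∀ x, P0 x ∈ mem' (F := F) k0 := fun x => subset_closure (sPl_mem_zero x)
  have m1 : ∀ y, P1 y ∈ mem' (F := F) k1 := fun y =>
    subset_closure (emb_mem_mset (sPl_mem_zero y))
  have mR : ∀ t, qR t ∈ mem' (F := F) km := fun t => subset_closure (qEl_mem_first t)
  have cases0 : ∀ A ∈ mset (F := F) k0, ∃ x, A = P0 x := fun A hA => exists_of_zero hA
  have cases1 : ∀ A ∈ mset (F := F) k1, ∃ y, A = P1 y := fun A hA => by
    obtain ⟨g, hg, rfl⟩ := exists_of_shift hA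
    obtain ⟨y, rfl⟩ := exists_of_zero hg
    exact ⟨y, rfl⟩
  have hm : ∀ r d e, (qR r * P0 (sa d) * P1 (sa e), D.R r * D.σ (sa d) * D.σ' (sa e)) ∈ D.T := fun r d e => by
    simpa using D.T.mul_mem (D.T.mul_mem (D.qR_mem r) (D.P0_mem (sa d))) (D.P1a_mem e)
  have hflipR : ∀ t, (qR t, D.R t) ∈ D.T.map D.flip := fun t =>
    ⟨_, D.qR_mem t, Prod.ext (swp_qR t) (D.R_sym t)⟩
  have hflip1 : ∀ y, (P1 y, D.σ' y) ∈ D.T.map D.flip := fun y =>
    ⟨_, D.P0_mem y, Prod.ext (swp_P0 y) rfl⟩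
  have hflip0 : ∀ b, (P0 (sa b), D.σ (sa b)) ∈ D.T.map D.flip := fun b => by
    refine ⟨_, D.P1a_mem b, Prod.ext ?_ ?_⟩
    · show swp * P1 (sa b) * swp = P0 (sa b)
      rw [← swp_P0, show swp * (swp * P0 (sa b) * swp) * swp = swp * swp * P0 (sa b) * (swp * swp) by group,
        swp_sq]; group
    · show D.s * (D.s * D.σ (sa b) * D.s) * D.s = D.σ (sa b)
      rw [show D.s * (D.s * D.σ (sa b) * D.s) * D.s = D.s * D.s * D.σ (sa b) * (D.s * D.s) by group,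
        D.ssq]; group
  have hm' : ∀ r d e, (qR r * P0 (sa d) * P1 (sa e), D.R r * D.σ (sa d) * D.σ' (sa e)) ∈ D.T.map D.flip :=
    fun r d e => by
      simpa using (D.T.map D.flip).mul_mem ((D.T.map D.flip).mul_mem (hflipR r) (hflip0 d)) (hflip1 (sa e))
  have hinjf : ∀ b, ((1 : Spn F 2), b) ∈ D.T.map D.flip → b = 1 := by
    rintro b ⟨⟨g, c⟩, hz, e⟩
    obtain ⟨e1, e2⟩ := Prod.mk.injEq .. ▸ e
    have hg : g = 1 := by
      have : swp * g * swp = 1 := e1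
      calc g = (swp * swp) * g * (swp * swp) := by rw [swp_sq]; group
        _ = swp * (swp * g * swp) * swp := by group
        _ = 1 := by rw [this, mul_one, swp_sq]
    subst hg
    rw [← show D.s * c * D.s = b from e2, D.T_inj c hz, mul_one, D.ssq]
  have le0 : mem' (F := F) km ⊔ mem' k0 ≤ D.T.map (MonoidHom.fst _ _) :=
    sup_le ((closure_le _).2 fun A hA => by
      obtain ⟨r, d, e, rfl⟩ := mset_first hA
      exact ⟨_, hm r d e, rfl⟩) ((closure_le _).2 fun A hA => by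
      obtain ⟨x, rfl⟩ := cases0 A hA
      exact ⟨_, D.P0_mem x, rfl⟩)
  have le1 : mem' (F := F) km ⊔ mem' k1 ≤ (D.T.map D.flip).map (MonoidHom.fst _ _) :=
    sup_le ((closure_le _).2 fun A hA => by
      obtain ⟨r, d, e, rfl⟩ := mset_first hA
      exact ⟨_, hm' r d e, rfl⟩) ((closure_le _).2 fun A hA => by
      obtain ⟨y, rfl⟩ := cases1 A hA
      exact ⟨_, hflip1 y, rfl⟩)
  have h01a : ∀ x, (P0 x, D.σ x) ∈ D.T01 := fun x => ⟨x, 1, by simp⟩
  have h01b : ∀ y, (P1 y, D.σ' y) ∈ D.T01 := fun y => ⟨1, y, by simp⟩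
  have le01 : mem' (F := F) k0 ⊔ mem' k1 ≤ D.T01.map (MonoidHom.fst _ _) :=
    sup_le ((closure_le _).2 fun A hA => by
      obtain ⟨x, rfl⟩ := cases0 A hA
      exact ⟨_, h01a x, rfl⟩) ((closure_le _).2 fun A hA => by
      obtain ⟨y, rfl⟩ := cases1 A hA
      exact ⟨_, h01b y, rfl⟩)
  obtain ⟨Ψ0, h0⟩ := hom_of_pairs D.T D.T_inj _ le0
  obtain ⟨Ψ1, h1⟩ := hom_of_pairs _ hinjf _ le1
  obtain ⟨Ψ01, h01⟩ := hom_of_pairs _ D.T01_inj _ le01
  let f0 : mem' (F := F) k0 →* G := Ψ01.comp (inclusion le_sup_left)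
  let f1 : mem' (F := F) k1 →* G := Ψ01.comp (inclusion le_sup_right)
  let fm : mem' (F := F) km →* G := Ψ0.comp (inclusion le_sup_left)
  have hext : ∀ (k : Idx 2) (φ ψ : mem' (F := F) k →* G),
      (∀ g (hg : g ∈ mem' k), g ∈ mset k → φ ⟨g, hg⟩ = ψ ⟨g, hg⟩) → φ = ψ := fun k φ ψ h =>
    MonoidHom.eq_of_eqOn_dense (s := ((mem' k).subtype ⁻¹' mset k)) closure_closure_coe_preimage
      fun g hg => h g.1 g.2 hg
  have e0 : Ψ0.comp (inclusion le_sup_right) = f0 := hext k0 _ _ fun g hg hA => by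
    obtain ⟨x, rfl⟩ := cases0 g hA
    exact (h0 _ _ (D.P0_mem x) _).trans (h01 _ _ (h01a x) _).symm
  have e1 : Ψ1.comp (inclusion le_sup_right) = f1 := hext k1 _ _ fun g hg hA => by
    obtain ⟨x, rfl⟩ := cases1 g hA
    exact (h1 _ _ (hflip1 x) _).trans (h01 _ _ (h01b x) _).symm
  have em : Ψ1.comp (inclusion le_sup_left) = fm := hext km _ _ fun g hg hA => by
    obtain ⟨r, d, e, rfl⟩ := mset_first hA
    exact (h1 _ _ (hm' r d e) _).trans (h0 _ _ (hm r d e) _).symm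
  let f : ∀ k : Idx 2, mem' (F := F) k →* G := fun k => match k with
    | Sum.inl ⟨0, _⟩ => f0
    | Sum.inl ⟨1, _⟩ => f1
    | Sum.inr ⟨⟨0, _⟩, _⟩ => fm
    | Sum.inr ⟨⟨1, _⟩, h⟩ => absurd h (by simp)
  have hk : ∀ k : Idx 2, k = k0 ∨ k = k1 ∨ k = km := fun k => by
    rcases idx_cases k with h | h | ⟨k', h⟩
    · exact Or.inl h
    · exact Or.inr (Or.inr h)
    · subst h
      rcases k' with j | ⟨i, hi⟩
      · obtain rfl : j = 0 := Fin.ext (Nat.lt_one_iff.1 j.isLt); exact Or.inr (Or.inl rfl)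
      · exact absurd hi (by omega)
  have hsame : ∀ k, ∃ Ψ : ↥(mem' (F := F) k ⊔ mem' k) →* G,
      (∀ g (hg : g ∈ mem' k), Ψ ⟨g, mem_sup_left hg⟩ = f k ⟨g, hg⟩) ∧
        ∀ g (hg : g ∈ mem' k), Ψ ⟨g, mem_sup_right hg⟩ = f k ⟨g, hg⟩ := fun k =>
    ⟨(f k).comp (inclusion (sup_idem _).le), fun g hg => rfl, fun g hg => rfl⟩
  have hswap : ∀ {k l}, (∃ Ψ : ↥(mem' (F := F) k ⊔ mem' l) →* G,
      (∀ g (hg : g ∈ mem' k), Ψ ⟨g, mem_sup_left hg⟩ = f k ⟨g, hg⟩) ∧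
        ∀ g (hg : g ∈ mem' l), Ψ ⟨g, mem_sup_right hg⟩ = f l ⟨g, hg⟩) →
      ∃ Ψ : ↥(mem' (F := F) l ⊔ mem' k) →* G,
      (∀ g (hg : g ∈ mem' l), Ψ ⟨g, mem_sup_left hg⟩ = f l ⟨g, hg⟩) ∧
        ∀ g (hg : g ∈ mem' k), Ψ ⟨g, mem_sup_right hg⟩ = f k ⟨g, hg⟩ := fun ⟨Ψ, a, b⟩ =>
    ⟨Ψ.comp (inclusion (sup_comm _ _).le), fun g hg => b g hg, fun g hg => a g hg⟩
  have h_m0 : ∃ Ψ : ↥(mem' (F := F) km ⊔ mem' k0) →* G,
      (∀ g (hg : g ∈ mem' km), Ψ ⟨g, mem_sup_left hg⟩ = f km ⟨g, hg⟩) ∧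
        ∀ g (hg : g ∈ mem' k0), Ψ ⟨g, mem_sup_right hg⟩ = f k0 ⟨g, hg⟩ :=
    ⟨Ψ0, fun g hg => rfl, fun g hg => DFunLike.congr_fun e0 ⟨g, hg⟩⟩
  have h_m1 : ∃ Ψ : ↥(mem' (F := F) km ⊔ mem' k1) →* G,
      (∀ g (hg : g ∈ mem' km), Ψ ⟨g, mem_sup_left hg⟩ = f km ⟨g, hg⟩) ∧
        ∀ g (hg : g ∈ mem' k1), Ψ ⟨g, mem_sup_right hg⟩ = f k1 ⟨g, hg⟩ :=
    ⟨Ψ1, fun g hg => DFunLike.congr_fun em ⟨g, hg⟩, fun g hg => DFunLike.congr_fun e1 ⟨g, hg⟩⟩
  have h_01 : ∃ Ψ : ↥(mem' (F := F) k0 ⊔ mem' k1) →* G,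
      (∀ g (hg : g ∈ mem' k0), Ψ ⟨g, mem_sup_left hg⟩ = f k0 ⟨g, hg⟩) ∧
        ∀ g (hg : g ∈ mem' k1), Ψ ⟨g, mem_sup_right hg⟩ = f k1 ⟨g, hg⟩ :=
    ⟨Ψ01, fun g hg => rfl, fun g hg => rfl⟩
  have hf : ∀ k l, ∃ Ψ : ↥(mem' (F := F) k ⊔ mem' l) →* G,
      (∀ g (hg : g ∈ mem' k), Ψ ⟨g, mem_sup_left hg⟩ = f k ⟨g, hg⟩) ∧
        ∀ g (hg : g ∈ mem' l), Ψ ⟨g, mem_sup_right hg⟩ = f l ⟨g, hg⟩ := by
    intro k l
    rcases hk k with rfl | rfl | rfl <;> rcases hk l with rfl | rfl | rfl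
    exacts [hsame _, h_01, hswap h_m0, hswap h_01, hsame _, hswap h_m1, h_m0, h_m1, hsame _]
  have hmem1 : ∀ g : Spn F 1, emb g ∈ mem' (F := F) k1 := fun g =>
    map_emb_le _ (mem_map_of_mem emb (subset_closure fun l hl => absurd (Subsingleton.elim l 0) hl))
  let Φ' : Spn F 1 →* G := f1.comp (emb.codRestrict _ hmem1)
  obtain ⟨Φ, hΦ⟩ := exists_hom' f hf Φ' (Or.inr fun w hw hw0 g g' _ _ => absurd (show w = w (Sum.inl 0) • eB 0 by
      funext i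
      rcases i with i | i <;> obtain rfl : i = 0 := Fin.ext (Nat.lt_one_iff.1 i.isLt)
      · simp [eB]
      · rw [bl_eB_left] at hw0; simp [eB, hw0]) (hw _))
    (fun k g hg => by
      rcases k with j | ⟨i, hi⟩
      · obtain rfl : j = 0 := Fin.ext (Nat.lt_one_iff.1 j.isLt); rfl
      · exact absurd hi (by omega))
  exact ⟨Φ, fun x => (hΦ k0 _ (m0 x)).trans (h01 _ _ (h01a x) _),
    fun t => (hΦ km _ (mR t)).trans (h0 _ _ (D.qR_mem t) _),
    fun y => (hΦ k1 _ (m1 y)).trans (h01 _ _ (h01b y) _)⟩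

end Sp4D

end CfsgLib.BPres.Sp4
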