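import Cfsg.Agent.BPres.Sp4Crit
import Cfsg.Agent.SL3Pres.Derive

/-!
The data of the criterion for `Sp 4` from seven relations.
-/

set_option autoImplicit false
set_option linter.unusedSectionVars false
set_option linter.unnecessarySeqFocus false
set_option linter.unusedSimpArgs false

namespace CfsgLib.BPres.Sp4

open Matrix CfsgLib.SpPres
open CfsgLib.SL3Pres (all_of_stable)

universe v w

variable {F : Type v} [Field F]

theorem sh_sa (g : Fˣ) (t : F) : sh g * sa t * (sh g)⁻¹ = sa ((g : F) ^ 2 * t) := by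
  rw [mul_inv_eq_iff_eq_mul]
  refine sl_ext ?_ ?_ ?_ ?_ <;> simp [sl_mul, sa, sh, mk2_apply] <;> field_simp

theorem sh_sb (g : Fˣ) (t : F) : sh g * sb t * (sh g)⁻¹ = sb (((g⁻¹ : Fˣ) : F) ^ 2 * t) := by
  rw [mul_inv_eq_iff_eq_mul]
  refine sl_ext ?_ ?_ ?_ ?_ <;> simp [sl_mul, sb, sh, mk2_apply] <;> field_simp

theorem sa_via_sb (t : F) : sa t = sw⁻¹ * sb (-t) * sw := by
  rw [sb_eq, neg_neg]; group

theorem sw_sh (g : Fˣ) : (sw : SpecialLinearGroup (Fin 2) F)⁻¹ * sh g * sw = (sh g)⁻¹ := by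
  rw [mul_assoc, inv_mul_eq_iff_eq_mul, eq_mul_inv_iff_mul_eq]
  refine sl_ext ?_ ?_ ?_ ?_ <;> simp [sl_mul, sw, sh, mk2_apply]

/-- The relations. -/
structure Rels (F : Type v) [Field F] (g : Fˣ) (G : Type w) [Group G] where
  /-- the copy of `SL 2` -/
  σ : SpecialLinearGroup (Fin 2) F →* G
  /-- the exchange -/
  s : G
  /-- one short root element -/
  e : G
  ssq : s * s = 1
  comm : ∀ x y, Commute (σ x) (s * σ y * s)
  r1 : Commute e (σ (sa 1))
  r2 : Commute e (σ (sh g) * (s * σ (sh g) * s)⁻¹)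
  r3 : s * e * s = e
  r4 : e⁻¹ * σ (sb 1) * e * (σ (sb 1))⁻¹ * (s * σ (sa 1) * s) = σ sw * e * (σ sw)⁻¹
  r5 : σ (sh g) * e * (σ (sh g))⁻¹ =
    (σ sw)⁻¹ * (e⁻¹ * σ (sb (g : F)) * e * (σ (sb (g : F)))⁻¹ * (s * σ (sa (g : F)) * s)) * σ sw
  r6 : e * (σ sw * e * (σ sw)⁻¹) = σ sw * e * (σ sw)⁻¹ * e * (s * σ (sa 2) * s)

namespace Rels

variable {p : ℕ} [Fact p.Prime] [Algebra (ZMod p) F] {g : Fˣ} {G : Type w} [Group G] (X : Rels F g G)

/-- the second copy -/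
def τ : SpecialLinearGroup (Fin 2) F →* G :=
  MonoidHom.mk' (fun y => X.s * X.σ y * X.s) fun x y => by
    rw [map_mul]
    calc X.s * (X.σ x * X.σ y) * X.s = X.s * X.σ x * (X.s * X.s) * X.σ y * X.s := by
          rw [X.ssq]; group
      _ = _ := by group

theorem comm' (x y : SpecialLinearGroup (Fin 2) F) : Commute (X.σ x) (X.τ y) := X.comm x y

/-- the opposite root group -/
def L (r : F) : G := X.e⁻¹ * X.σ (sb r) * X.e * (X.σ (sb r))⁻¹ * X.τ (sa r)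

/-- the torus element fixing the short root -/
def h' : G := X.σ (sh g) * (X.τ (sh g))⁻¹

theorem h'_σ (x : SpecialLinearGroup (Fin 2) F) :
    X.h' * X.σ x * X.h'⁻¹ = X.σ (sh g * x * (sh g)⁻¹) := by
  rw [h', map_mul, map_mul, map_inv]
  calc X.σ (sh g) * (X.τ (sh g))⁻¹ * X.σ x * (X.σ (sh g) * (X.τ (sh g))⁻¹)⁻¹
      = X.σ (sh g) * ((X.τ (sh g))⁻¹ * X.σ x * X.τ (sh g)) * (X.σ (sh g))⁻¹ := by group
    _ = _ := by rw [mul_assoc (X.τ (sh g))⁻¹, (X.comm' x (sh g)).eq, inv_mul_cancel_left]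

theorem h'_τ (x : SpecialLinearGroup (Fin 2) F) :
    X.h' * X.τ x * X.h'⁻¹ = X.τ ((sh g)⁻¹ * x * sh g) := by
  rw [h', map_mul, map_mul, map_inv]
  calc X.σ (sh g) * (X.τ (sh g))⁻¹ * X.τ x * (X.σ (sh g) * (X.τ (sh g))⁻¹)⁻¹
      = X.σ (sh g) * ((X.τ (sh g))⁻¹ * X.τ x * X.τ (sh g)) * (X.σ (sh g))⁻¹ := by group
    _ = _ := by
      rw [← map_inv X.τ, ← map_mul, ← map_mul, (X.comm' _ _).eq, mul_inv_cancel_right]

theorem h'_e : X.h' * X.e * X.h'⁻¹ = X.e := by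
  rw [← (show Commute X.e X.h' from X.r2).eq, mul_inv_cancel_right]

theorem h'_L (r : F) : X.h' * X.L r * X.h'⁻¹ = X.L (((g⁻¹ : Fˣ) : F) ^ 2 * r) := by
  have e1 := X.h'_σ (sb r)
  rw [sh_sb] at e1
  have e2 := X.h'_τ (sa r)
  have h3 : (sh g)⁻¹ * sa r * sh g = sa (((g⁻¹ : Fˣ) : F) ^ 2 * r) := by
    rw [mul_assoc, inv_mul_eq_iff_eq_mul]
    refine sl_ext ?_ ?_ ?_ ?_ <;> simp [sl_mul, sa, sh, mk2_apply] <;> field_simp
  rw [h3] at e2
  rw [L, L]
  calc X.h' * (X.e⁻¹ * X.σ (sb r) * X.e * (X.σ (sb r))⁻¹ * X.τ (sa r)) * X.h'⁻¹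
      = (X.h' * X.e * X.h'⁻¹)⁻¹ * (X.h' * X.σ (sb r) * X.h'⁻¹) * (X.h' * X.e * X.h'⁻¹) *
        (X.h' * X.σ (sb r) * X.h'⁻¹)⁻¹ * (X.h' * X.τ (sa r) * X.h'⁻¹) := by group
    _ = _ := by rw [X.h'_e, e1, e2]

variable (hx : Algebra.adjoin (ZMod p) {(g : F) ^ 2} = ⊤)
  (hx' : Algebra.adjoin (ZMod p) {((g⁻¹ : Fˣ) : F) ^ 2} = ⊤)

include hx in
theorem e_A (t : F) : Commute X.e (X.σ (sa t)) := by
  let S : AddSubgroup F :=
    { carrier := {t | Commute X.e (X.σ (sa t))}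
      add_mem' := fun {a b} ha hb => by
        show Commute _ _
        rw [← sa_mul, map_mul]; exact ha.mul_right hb
      zero_mem' := by show Commute _ _; rw [sa_zero, map_one]; exact Commute.one_right _
      neg_mem' := fun {a} ha => by
        show Commute _ _
        rw [show sa (-a) = (sa a)⁻¹ from eq_inv_of_mul_eq_one_left (by rw [sa_mul, neg_add_cancel, sa_zero]),
          map_inv]
        exact ha.inv_right }
  refine all_of_stable hx S X.r1 (fun t ht => ?_) t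
  show Commute _ _
  have e1 := X.h'_σ (sa t)
  rw [sh_sa] at e1
  rw [← e1]
  exact ((show Commute X.e X.h' from X.r2).mul_right ht).mul_right (show Commute X.e X.h' from X.r2).inv_right

theorem τ_s (x : SpecialLinearGroup (Fin 2) F) : X.s * X.τ x * X.s = X.σ x := by
  show X.s * (X.s * X.σ x * X.s) * X.s = X.σ x
  rw [show X.s * (X.s * X.σ x * X.s) * X.s = X.s * X.s * X.σ x * (X.s * X.s) by group, X.ssq]
  group

include hx in
theorem e_A' (t : F) : Commute X.e (X.τ (sa t)) := by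
  rw [← X.r3, commute_iff_eq]
  calc X.s * X.e * X.s * X.τ (sa t) = X.s * X.e * (X.s * X.τ (sa t) * X.s) * X.s⁻¹ := by group
    _ = X.s * (X.σ (sa t) * X.e) * X.s := by
        rw [X.τ_s, inv_eq_of_mul_eq_one_right X.ssq, mul_assoc X.s, ((X.e_A hx t).eq)]
    _ = X.s * X.σ (sa t) * (X.s * X.s) * X.e * X.s := by rw [X.ssq]; group
    _ = _ := by
        show _ = X.s * X.σ (sa t) * X.s * (X.s * X.e * X.s)
        group

include hx in
theorem A'_L (d r : F) : Commute (X.τ (sa d)) (X.L r) := by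
  have h1 := (X.e_A' hx d).symm
  have h2 : Commute (X.τ (sa d)) (X.σ (sb r)) := (X.comm' _ _).symm
  have h3 : Commute (X.τ (sa d)) (X.τ (sa r)) := by
    rw [commute_iff_eq, ← map_mul, ← map_mul, sa_mul, sa_mul, add_comm]
  exact (((h1.inv_right.mul_right h2).mul_right h1).mul_right h2.inv_right).mul_right h3

include hx in
theorem L_add_of (r t : F) (ht : ∀ x, Commute (X.σ (sb x)) (X.L t)) : X.L (r + t) = X.L r * X.L t := by
  have hC : X.σ (sb t) * X.e * (X.σ (sb t))⁻¹ = X.e * X.L t * (X.τ (sa t))⁻¹ := by rw [L]; group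
  have hs : sb (F := F) r * sb t = sb (r + t) := by
    refine sl_ext ?_ ?_ ?_ ?_ <;> simp [sl_mul, sb, mk2_apply]
  calc X.L (r + t) = X.e⁻¹ * X.σ (sb r) * (X.σ (sb t) * X.e * (X.σ (sb t))⁻¹) * (X.σ (sb r))⁻¹ *
        (X.τ (sa r) * X.τ (sa t)) := by
        rw [L, ← hs, ← map_mul, sa_mul, map_mul]; group
    _ = X.e⁻¹ * X.σ (sb r) * X.e * (X.L t * (X.σ (sb r))⁻¹) * ((X.τ (sa t))⁻¹ *
        (X.τ (sa r) * X.τ (sa t))) := by
        rw [hC]
        calc _ = X.e⁻¹ * X.σ (sb r) * X.e * X.L t * ((X.τ (sa t))⁻¹ * (X.σ (sb r))⁻¹) *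
              (X.τ (sa r) * X.τ (sa t)) := by group
          _ = _ := by rw [((X.comm' (sb r) (sa t)).inv_inv).symm.eq]; group
    _ = X.e⁻¹ * X.σ (sb r) * X.e * (X.σ (sb r))⁻¹ * (X.L t * X.τ (sa r)) := by
        rw [← (ht r).inv_left.eq, show (X.τ (sa t))⁻¹ * (X.τ (sa r) * X.τ (sa t)) = X.τ (sa r) by
          rw [← map_mul, sa_mul, add_comm, ← sa_mul, map_mul, inv_mul_cancel_left]]
        group
    _ = _ := by
        rw [← (X.A'_L hx r t).eq]
        show _ = X.e⁻¹ * X.σ (sb r) * X.e * (X.σ (sb r))⁻¹ * X.τ (sa r) * X.L t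
        group

include hx in
theorem L_one_C (x : F) : Commute (X.σ (sb x)) (X.L 1) := by
  rw [show X.L 1 = X.σ sw * X.e * (X.σ sw)⁻¹ from X.r4, sb_eq, map_mul, map_mul, map_inv]
  exact (Commute.conj_iff (X.σ sw)).2 (X.e_A hx (-x)).symm

include hx hx' in
theorem L_C (x r : F) : Commute (X.σ (sb x)) (X.L r) := by
  have h0 : X.L 0 = 1 := by
    have : sb (0 : F) = 1 := sl_ext (by simp [sb, mk2_apply]) (by simp [sb, mk2_apply])
      (by simp [sb, mk2_apply]) (by simp [sb, mk2_apply])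
    rw [L, this, sa_zero, map_one, map_one]; group
  let S : AddSubgroup F :=
    { carrier := {r | ∀ x, Commute (X.σ (sb x)) (X.L r)}
      add_mem' := fun {a b} ha hb x => by rw [X.L_add_of hx a b hb]; exact (ha x).mul_right (hb x)
      zero_mem' := fun x => by rw [h0]; exact Commute.one_right _
      neg_mem' := fun {a} ha x => by
        have := X.L_add_of hx (-a) a ha
        rw [neg_add_cancel, h0] at this
        rw [eq_inv_of_mul_eq_one_left this.symm]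
        exact (ha x).inv_right }
  refine all_of_stable hx' S (X.L_one_C hx) (fun t ht x => ?_) r x
  rw [← X.h'_L]
  have hy : X.h' * X.σ (sb ((g : F) ^ 2 * x)) * X.h'⁻¹ = X.σ (sb x) := by
    rw [X.h'_σ, sh_sb]; congr 2; simp [← mul_assoc, ← mul_pow]
  rw [← hy]
  exact (Commute.conj_iff X.h').2 (ht _)

include hx hx' in
theorem L_add (r t : F) : X.L (r + t) = X.L r * X.L t := X.L_add_of hx r t fun x => X.L_C hx hx' x t

/-- the root group -/
def R (t : F) : G := (X.σ sw)⁻¹ * X.L t * X.σ sw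

theorem R_one : X.R 1 = X.e := by
  rw [R, show X.L 1 = X.σ sw * X.e * (X.σ sw)⁻¹ from X.r4]; group

/-- the torus element acting on the root group -/
def k : G := (X.σ (sh g))⁻¹ * (X.τ (sh g))⁻¹

theorem k_R (t : F) : X.k * X.R t * X.k⁻¹ = X.R (((g⁻¹ : Fˣ) : F) ^ 2 * t) := by
  have hk : X.k = (X.σ sw)⁻¹ * X.h' * X.σ sw := by
    rw [k, h', ← map_inv X.σ sw]
    calc (X.σ (sh g))⁻¹ * (X.τ (sh g))⁻¹ = X.σ (sw⁻¹ * sh g * sw) * (X.τ (sh g))⁻¹ := by
          rw [sw_sh, map_inv]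
      _ = _ := by
        rw [map_mul, map_mul]
        calc X.σ sw⁻¹ * X.σ (sh g) * X.σ sw * (X.τ (sh g))⁻¹
            = X.σ sw⁻¹ * X.σ (sh g) * (X.σ sw * (X.τ (sh g))⁻¹) := by group
          _ = _ := by rw [(X.comm' sw (sh g)).inv_right.eq]; group
  rw [hk, R, R, ← X.h'_L t]; group

include hx' in
theorem R_induction (P : F → Prop) (h0 : P 0) (hadd : ∀ a b, P a → P b → P (a + b))
    (hneg : ∀ a, P a → P (-a)) (h1 : P 1) (hk : ∀ a, P a → P (((g⁻¹ : Fˣ) : F) ^ 2 * a)) (t : F) : P t :=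
  let S : AddSubgroup F :=
    { carrier := {t | P t}
      add_mem' := @fun a b => hadd a b
      zero_mem' := h0
      neg_mem' := @fun a => hneg a }
  all_of_stable hx' S h1 hk t

include hx hx' in
theorem R_add (t u : F) : X.R (t + u) = X.R t * X.R u := by
  rw [R, R, R, X.L_add hx hx']; group

include hx hx' in
theorem R_zero : X.R 0 = 1 := by
  have := X.R_add hx hx' 0 0
  rwa [add_zero, left_eq_mul] at this

include hx hx' in
theorem R_neg (t : F) : X.R (-t) = (X.R t)⁻¹ :=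
  eq_inv_of_mul_eq_one_left (by rw [← X.R_add hx hx', neg_add_cancel, X.R_zero hx hx'])

include hx hx' in
theorem conj_R {a : G} {c : F} (hc : Commute a X.k) (h1 : a * X.R 1 * a⁻¹ = X.R c) (t : F) :
    a * X.R t * a⁻¹ = X.R (c * t) := by
  refine R_induction hx' (fun t => a * X.R t * a⁻¹ = X.R (c * t)) ?_ ?_ ?_ (by rw [mul_one]; exact h1) ?_ t
  · rw [mul_zero, X.R_zero hx hx']; group
  · intro x y hx1 hy1
    rw [X.R_add hx hx', mul_add, X.R_add hx hx', ← hx1, ← hy1]; group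
  · intro x hx1
    rw [X.R_neg hx hx', mul_neg, X.R_neg hx hx', ← hx1]; group
  · intro x hx1
    rw [mul_left_comm, ← X.k_R, ← X.k_R, ← hx1]
    calc a * (X.k * X.R x * X.k⁻¹) * a⁻¹ = (a * X.k) * X.R x * (a * X.k)⁻¹ := by group
      _ = _ := by rw [hc.eq]; group

include hx hx' in
theorem R_tor_g (t : F) : X.σ (sh g) * X.R t * (X.σ (sh g))⁻¹ = X.R ((g : F) * t) := by
  refine X.conj_R hx hx' ?_ ?_ t
  · exact ((Commute.refl _).inv_right).mul_right (X.comm' _ _).inv_right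
  · rw [R_one, R]; exact X.r5

include hx hx' in
theorem R_sym (t : F) : X.s * X.R t * X.s = X.R t := by
  have hs : X.s⁻¹ = X.s := inv_eq_of_mul_eq_one_right X.ssq
  have := X.conj_R hx hx' (a := X.s) (c := 1) ?_ (by rw [hs, R_one]; exact X.r3) t
  · rwa [one_mul, hs] at this
  · rw [commute_iff_eq, ← mul_inv_eq_iff_eq_mul, hs, k]
    calc X.s * ((X.σ (sh g))⁻¹ * (X.τ (sh g))⁻¹) * X.s
        = (X.s * X.σ (sh g) * X.s⁻¹)⁻¹ * (X.s * X.τ (sh g) * X.s⁻¹)⁻¹ * (X.s * X.s) := by group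
      _ = _ := by
        rw [hs, X.τ_s, X.ssq, mul_one]
        exact ((X.comm' (sh g) (sh g)).symm.inv_inv).eq

include hx hx' in
theorem R_tor (hgen : ∀ t : F, t ≠ 0 → ∃ k : ℕ, t = (g : F) ^ k) (l : Fˣ) (t : F) :
    X.σ (sh l) * X.R t * (X.σ (sh l))⁻¹ = X.R (l * t) := by
  obtain ⟨k, hk⟩ := hgen l l.ne_zero
  obtain rfl : l = g ^ k := Units.ext (by simpa using hk)
  clear hk
  induction k generalizing t with
  | zero =>
    rw [pow_zero, show (sh (1 : Fˣ) : SpecialLinearGroup (Fin 2) F) = 1 from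
      sl_ext (by simp [sh, mk2_apply]) (by simp [sh, mk2_apply]) (by simp [sh, mk2_apply])
        (by simp [sh, mk2_apply]), map_one]
    simp
  | succ k ih =>
    have e : (sh (g ^ (k + 1)) : SpecialLinearGroup (Fin 2) F) = sh g * sh (g ^ k) := by
      refine sl_ext ?_ ?_ ?_ ?_ <;> simp [sl_mul, sh, mk2_apply] <;> ring
    rw [e, map_mul, show X.σ (sh g) * X.σ (sh (g ^ k)) * X.R t * (X.σ (sh g) * X.σ (sh (g ^ k)))⁻¹ =
      X.σ (sh g) * (X.σ (sh (g ^ k)) * X.R t * (X.σ (sh (g ^ k)))⁻¹) * (X.σ (sh g))⁻¹ by group,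
      ih, X.R_tor_g hx hx', ← mul_assoc, Units.val_pow_eq_pow_val, Units.val_pow_eq_pow_val, pow_succ']

include hx hx' in
theorem e_L (u : F) : X.e * X.L u = X.L u * X.e * X.τ (sa (2 * u)) := by
  have hL0 : X.L 0 = 1 := by
    have := X.L_add hx hx' 0 0
    rwa [add_zero, left_eq_mul] at this
  refine R_induction hx' (fun u => X.e * X.L u = X.L u * X.e * X.τ (sa (2 * u))) ?_ ?_ ?_ ?_ ?_ u
  · simp [hL0, sa_zero]
  · intro a b ha hb
    rw [X.L_add hx hx', ← mul_assoc, ha, mul_assoc _ (X.τ _) (X.L b), (X.A'_L hx _ b).eq,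
      show X.L a * X.e * (X.L b * X.τ (sa (2 * a))) = X.L a * (X.e * X.L b) * X.τ (sa (2 * a)) by group,
      hb, mul_add, add_comm (2 * a), ← sa_mul, map_mul]
    group
  · intro a ha
    have h1 : X.L a * X.L (-a) = 1 := by rw [← X.L_add hx hx', add_neg_cancel, hL0]
    rw [← inv_eq_of_mul_eq_one_right h1, mul_neg,
      show sa (-(2 * a)) = (sa (2 * a))⁻¹ from
        eq_inv_of_mul_eq_one_left (by rw [sa_mul, neg_add_cancel, sa_zero]), map_inv]
    calc X.e * (X.L a)⁻¹ = X.e * (X.τ (sa (2 * a)) * (X.L a)⁻¹ * (X.τ (sa (2 * a)))⁻¹) := by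
          rw [(X.A'_L hx (2 * a) a).inv_right.eq, mul_inv_cancel_right]
      _ = (X.L a)⁻¹ * (X.L a * X.e * X.τ (sa (2 * a))) * (X.L a)⁻¹ * (X.τ (sa (2 * a)))⁻¹ := by group
      _ = (X.L a)⁻¹ * (X.e * X.L a) * (X.L a)⁻¹ * (X.τ (sa (2 * a)))⁻¹ := by rw [ha]
      _ = _ := by group
  · rw [mul_one, show X.L 1 = X.σ sw * X.e * (X.σ sw)⁻¹ from X.r4]; exact X.r6
  · intro a ha
    have e2 := X.h'_τ (sa (2 * a))
    have h3 : (sh g)⁻¹ * sa (2 * a) * sh g = sa (2 * (((g⁻¹ : Fˣ) : F) ^ 2 * a)) := by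
      rw [mul_assoc, inv_mul_eq_iff_eq_mul]
      refine sl_ext ?_ ?_ ?_ ?_ <;> simp [sl_mul, sa, sh, mk2_apply] <;> field_simp
    rw [h3] at e2
    calc X.e * X.L (((g⁻¹ : Fˣ) : F) ^ 2 * a) = X.h' * (X.e * X.L a) * X.h'⁻¹ := by
          rw [← X.h'_L]
          calc X.e * (X.h' * X.L a * X.h'⁻¹) = (X.h' * X.e * X.h'⁻¹) * (X.h' * X.L a * X.h'⁻¹) := by
                rw [X.h'_e]
            _ = _ := by group
      _ = _ := by
          rw [ha, show X.h' * (X.L a * X.e * X.τ (sa (2 * a))) * X.h'⁻¹ = (X.h' * X.L a * X.h'⁻¹) *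
            (X.h' * X.e * X.h'⁻¹) * (X.h' * X.τ (sa (2 * a)) * X.h'⁻¹) by group, X.h'_L, X.h'_e, e2]

include hx hx' in
theorem L_eq (t : F) : X.σ sw * X.R t * (X.σ sw)⁻¹ = X.L t := by rw [R]; group

include hx hx' in
/-- conjugating the opposite group by the torus -/
theorem tor_L (hgen : ∀ t : F, t ≠ 0 → ∃ k : ℕ, t = (g : F) ^ k) (l : Fˣ) (t : F) :
    X.σ (sh l) * X.L t * (X.σ (sh l))⁻¹ = X.L (((l⁻¹ : Fˣ) : F) * t) := by
  have e : X.σ (sh l) * X.σ sw = X.σ sw * X.σ (sh l⁻¹) := by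
    rw [← map_mul, ← map_mul]
    congr 1
    refine sl_ext ?_ ?_ ?_ ?_ <;> simp [sl_mul, sw, sh, mk2_apply]
  rw [← X.L_eq hx hx', ← X.L_eq hx hx',
    show X.σ (sh l) * (X.σ sw * X.R t * (X.σ sw)⁻¹) * (X.σ (sh l))⁻¹ =
      (X.σ (sh l) * X.σ sw) * X.R t * (X.σ (sh l) * X.σ sw)⁻¹ by group, e,
    show X.σ sw * X.σ (sh l⁻¹) * X.R t * (X.σ sw * X.σ (sh l⁻¹))⁻¹ =
      X.σ sw * (X.σ (sh l⁻¹) * X.R t * (X.σ (sh l⁻¹))⁻¹) * (X.σ sw)⁻¹ by group, X.R_tor hx hx' hgen]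

include hx hx' in
/-- The data of the criterion. -/
def data (hgen : ∀ t : F, t ≠ 0 → ∃ k : ℕ, t = (g : F) ^ k) : Sp4D F G where
  σ := X.σ
  s := X.s
  R := X.R
  ssq := X.ssq
  comm := X.comm
  R_add := X.R_add hx hx'
  R_up d t := by
    rw [R, sa_via_sb, map_mul, map_mul, map_inv]
    have := (Commute.conj_iff (X.σ sw)⁻¹).2 (X.L_C hx hx' (-d) t)
    rwa [inv_inv] at this
  R_tor := X.R_tor hx hx' hgen
  R_opp t u := by
    rw [X.L_eq hx hx']
    show X.R t * X.L u = X.L u * X.R t * X.τ (sa (2 * t * u))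
    by_cases ht : t = 0
    · subst ht; simp [X.R_zero hx hx', sa_zero]
    set l := Units.mk0 t ht
    have e1 : X.σ (sh l) * X.e * (X.σ (sh l))⁻¹ = X.R t := by
      rw [← X.R_one, X.R_tor hx hx' hgen, mul_one]; rfl
    have e2 : X.σ (sh l) * X.L (t * u) * (X.σ (sh l))⁻¹ = X.L u := by
      rw [X.tor_L hx hx' hgen]; congr 1; simp [l, ← mul_assoc, ht]
    have e3 : X.σ (sh l) * X.τ (sa (2 * t * u)) * (X.σ (sh l))⁻¹ = X.τ (sa (2 * t * u)) := by
      rw [(X.comm' _ _).eq, mul_inv_cancel_right]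
    rw [← e1, ← e2]
    calc _ = X.σ (sh l) * (X.e * X.L (t * u)) * (X.σ (sh l))⁻¹ := by group
      _ = X.σ (sh l) * (X.L (t * u) * X.e * X.τ (sa (2 * t * u))) * (X.σ (sh l))⁻¹ := by
        rw [X.e_L hx hx', mul_assoc 2 t u]
      _ = (X.σ (sh l) * X.L (t * u) * (X.σ (sh l))⁻¹) * (X.σ (sh l) * X.e * (X.σ (sh l))⁻¹) *
          (X.σ (sh l) * X.τ (sa (2 * t * u)) * (X.σ (sh l))⁻¹) := by group
      _ = _ := by rw [e3]
  R_low r t := by
    rw [X.L_eq hx hx']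
    show X.σ (sb r) * X.R t * (X.σ (sb r))⁻¹ = X.R t * X.L (r * t) * X.τ (sa (-(r * t * t)))
    by_cases ht : t = 0
    · subst ht
      have := X.L_add hx hx' 0 0
      rw [add_zero, left_eq_mul] at this
      simp [X.R_zero hx hx', sa_zero, this]
    set l := Units.mk0 t ht
    set x := r * t * t
    have e1 : X.σ (sh l) * X.e * (X.σ (sh l))⁻¹ = X.R t := by
      rw [← X.R_one, X.R_tor hx hx' hgen, mul_one]; rfl
    have e2 : X.σ (sh l) * X.L x * (X.σ (sh l))⁻¹ = X.L (r * t) := by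
      rw [X.tor_L hx hx' hgen]; congr 1; simp [l, x]; field_simp
    have e3 : X.σ (sh l) * X.τ (sa (-x)) * (X.σ (sh l))⁻¹ = X.τ (sa (-x)) := by
      rw [(X.comm' _ _).eq, mul_inv_cancel_right]
    have e4 : X.σ (sh l) * X.σ (sb x) * (X.σ (sh l))⁻¹ = X.σ (sb r) := by
      rw [← map_inv, ← map_mul, ← map_mul, sh_sb]; congr 2; simp [l, x]; field_simp
    have hdef : X.σ (sb x) * X.e * (X.σ (sb x))⁻¹ = X.e * X.L x * X.τ (sa (-x)) := by
      rw [show sa (-x) = (sa x)⁻¹ from eq_inv_of_mul_eq_one_left (by rw [sa_mul, neg_add_cancel, sa_zero]),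
        map_inv, L]
      group
    rw [← e1, ← e2, ← e3, ← e4]
    calc _ = X.σ (sh l) * (X.σ (sb x) * X.e * (X.σ (sb x))⁻¹) * (X.σ (sh l))⁻¹ := by group
      _ = X.σ (sh l) * (X.e * X.L x * X.τ (sa (-x))) * (X.σ (sh l))⁻¹ := by rw [hdef]
      _ = _ := by group
  R_sym := X.R_sym hx hx'

end Rels

end CfsgLib.BPres.Sp4
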