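import Cfsg.Agent.BPres.Sp4Derive
import Cfsg.Agent.BPres.Gens
import Cfsg.Agent.BPres.PSL
import Cfsg.Agent.Classical.SymplecticBasic

/-!
`Sp 4` has a presentation with five generators and twenty-one relations.
-/

set_option autoImplicit false
set_option linter.style.haveILetI false
set_option linter.unusedSimpArgs false
set_option linter.unnecessarySeqFocus false
set_option linter.unusedTactic false

namespace CfsgLib.BPres

open Matrix CfsgLib.SpPres

universe v

variable {F : Type v} [Field F]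

theorem center_sp_zpowers (m : ℕ) :
    ∃ z : Matrix.symplecticGroup (Fin m) F,
      Subgroup.center (Matrix.symplecticGroup (Fin m) F) = Subgroup.zpowers z := by
  let z : Matrix.symplecticGroup (Fin m) F :=
    ⟨-1, by rw [SymplecticGroup.mem_iff]; simp⟩
  refine ⟨z, le_antisymm (fun g hg => ?_) ?_⟩
  · rcases CfsgLib.Symp.mem_center_iff.1 hg with h | h
    · rw [show g = 1 from Subtype.ext h]; exact one_mem _
    · rw [show g = z from Subtype.ext h]; exact Subgroup.mem_zpowers z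
  · rw [Subgroup.zpowers_le]
    exact CfsgLib.Symp.mem_center_iff.2 (Or.inr rfl)

variable [Fintype F]

theorem SL2_gen_two : ∃ a b : An.SLn 2 F, Subgroup.closure ({a, b} : Set (An.SLn 2 F)) = ⊤ := by
  classical
  rcases Nat.lt_or_ge (Fintype.card F) 4 with hq | hq
  swap
  · exact SL2_two_gen hq
  obtain ⟨p, hcp⟩ := CharP.exists F
  haveI := hcp
  haveI : Fact p.Prime := ⟨CharP.char_is_prime F p⟩
  letI := ZMod.algebra F p
  obtain ⟨m, -, hm⟩ := FiniteField.card F p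
  obtain ⟨g0, hg0, hg, -⟩ := SL2Pres.exists_generator (F := F)
  have hx : Algebra.adjoin (ZMod p) {g0 ^ 2} = ⊤ := SL2Pres.adjoin_sq hm hg
  have h1 : g0 ^ 2 = 1 := by
    have h2 : Fintype.card F - 1 ∣ 2 := by
      have := Fintype.one_lt_card (α := F)
      interval_cases (Fintype.card F) <;> simp
    exact orderOf_dvd_iff_pow_eq_one.1 (hg ▸ h2)
  refine ⟨(sa (1 : F) : An.SLn 2 F), (sw : An.SLn 2 F), ?_⟩
  set K := Subgroup.closure ({(sa (1 : F) : An.SLn 2 F), (sw : An.SLn 2 F)} : Set (An.SLn 2 F))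
  have hs : (sw : An.SLn 2 F) ∈ K := Subgroup.subset_closure (by simp)
  let S : AddSubgroup F :=
    { carrier := {t | (sa t : An.SLn 2 F) ∈ K}
      add_mem' := fun {a b} ha hb => by show _ ∈ K; rw [← sa_mul]; exact K.mul_mem ha hb
      zero_mem' := by show _ ∈ K; rw [sa_zero]; exact K.one_mem
      neg_mem' := fun {a} ha => by
        show _ ∈ K
        rw [show sa (-a) = (sa a)⁻¹ from eq_inv_of_mul_eq_one_left (by rw [sa_mul, neg_add_cancel, sa_zero])]
        exact K.inv_mem ha }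
  have hall : ∀ t, (sa t : An.SLn 2 F) ∈ K := fun t =>
    SL3Pres.all_of_stable hx S (Subgroup.subset_closure (by simp)) (fun t ht => by
      show _ ∈ K; rw [h1, one_mul]; exact ht) t
  rw [eq_top_iff]
  rintro x -
  exact Sp4.SL2_induction (fun x => x ∈ K) hall hs (fun _ => K.inv_mem) (fun _ _ => K.mul_mem) x

/-- Five generators and twenty-one relations. -/
theorem hasPresN_Sp4 : HasPresN (Spn F 2) 5 21 := by
  classical
  obtain ⟨p, hcp⟩ := CharP.exists F
  haveI := hcp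
  haveI : Fact p.Prime := ⟨CharP.char_is_prime F p⟩
  letI := ZMod.algebra F p
  obtain ⟨m, -, hm⟩ := FiniteField.card F p
  obtain ⟨g0, hg0, hg, hgen⟩ := SL2Pres.exists_generator (F := F)
  set g : Fˣ := Units.mk0 g0 hg0
  have hx : Algebra.adjoin (ZMod p) {(g : F) ^ 2} = ⊤ := SL2Pres.adjoin_sq hm hg
  have hx' : Algebra.adjoin (ZMod p) {((g⁻¹ : Fˣ) : F) ^ 2} = ⊤ := SL2Pres.adjoin_sq hm (by
    rw [orderOf_units, orderOf_inv, ← orderOf_units]; exact hg)
  obtain ⟨rels, hrels, ⟨e⟩⟩ := (SL2Pres.short_presentations (F := F)).1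
  have P1' := IsPres.of_equiv e
  set f1 : Fin 3 → An.SLn 2 F := fun i => e (PresentedGroup.of i)
  obtain ⟨a, b, hab⟩ := SL2_gen_two (F := F)
  choose W hW using exists_word P1'.gen
  let L : An.SLn 2 F → FreeGroup (Fin 3 ⊕ Fin 2) := fun x => FreeGroup.map Sum.inl (W x)
  let S : FreeGroup (Fin 3 ⊕ Fin 2) := FreeGroup.of (Sum.inr 0)
  let E : FreeGroup (Fin 3 ⊕ Fin 2) := FreeGroup.of (Sum.inr 1)
  let C : FreeGroup (Fin 3 ⊕ Fin 2) → FreeGroup (Fin 3 ⊕ Fin 2) → FreeGroup (Fin 3 ⊕ Fin 2) :=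
    fun u v => u * v * (v * u)⁻¹
  let X : FreeGroup (Fin 3 ⊕ Fin 2) := L sw * E⁻¹ * (L sw)⁻¹ *
    (S * L sw * S * E * (S * L sw * S)⁻¹) * (L sw * E⁻¹ * (L sw)⁻¹) * (S * L (sh (-1)) * S)
  let R0 : List (FreeGroup (Fin 3 ⊕ Fin 2)) :=
    [S * S, C (L a) (S * L a * S), C (L a) (S * L b * S), C (L b) (S * L a * S), C (L b) (S * L b * S),
      C E (L (sa 1)), C E (L (sh g) * (S * L (sh g) * S)⁻¹), S * E * S * E⁻¹,
      E⁻¹ * L (sb 1) * E * (L (sb 1))⁻¹ * (S * L (sa 1) * S) * (L sw * E * (L sw)⁻¹)⁻¹,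
      L (sh g) * E * (L (sh g))⁻¹ *
        ((L sw)⁻¹ * (E⁻¹ * L (sb (g : F)) * E * (L (sb (g : F)))⁻¹ * (S * L (sa (g : F)) * S)) * L sw)⁻¹,
      E * (L sw * E * (L sw)⁻¹) * (L sw * E * (L sw)⁻¹ * E * (S * L (sa 2) * S))⁻¹,
      S * X⁻¹]
  let f : Fin 3 ⊕ Fin 2 → Spn F 2 := Sum.elim (fun i => Sp4.P0 (f1 i)) ![Sp4.swp, Sp4.qR 1]
  have hfL : ∀ x, FreeGroup.lift f (L x) = Sp4.P0 x := fun x => by
    rw [lift_map, ← hW x, lift_comp, hW]; rfl
  have hfS : FreeGroup.lift f S = Sp4.swp := by rw [FreeGroup.lift_apply_of]; rfl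
  have hfE : FreeGroup.lift f E = Sp4.qR 1 := by rw [FreeGroup.lift_apply_of]; rfl
  have hgenA : Subgroup.closure (Set.range f) = ⊤ := by
    rw [← FreeGroup.range_lift_eq_closure, eq_top_iff]
    refine (top_le_split (F := F) (m := 0)).trans ((Subgroup.closure_le _).2 ?_)
    have hq1 : Sp4.qR 1 ∈ (FreeGroup.lift f).range := ⟨E, hfE⟩
    have hP : ∀ x, Sp4.P0 x ∈ (FreeGroup.lift f).range := fun x => ⟨L x, hfL x⟩
    have hS : Sp4.swp ∈ (FreeGroup.lift f).range := ⟨S, hfS⟩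
    rintro y ((⟨x, rfl⟩ | ⟨x, rfl⟩) | ⟨t, rfl⟩)
    · obtain ⟨s, rfl⟩ := exists_of_zero (n := 0) (A := x) fun l hl => absurd (Fin.ext (by omega)) hl
      show Sp4.P1 s ∈ _
      rw [← Sp4.swp_P0]
      exact mul_mem (mul_mem hS (hP _)) hS
    · exact hP x
    · show Sp4.qR t ∈ _
      by_cases ht : t = 0
      · rw [ht, show Sp4.qR (0 : F) = 1 from Sp4.ext4 fun a b x y => by simp [Sp4.ρ_qR]]
        exact one_mem _
      · have : Sp4.qR t = Sp4.P0 (sh (Units.mk0 t ht)) * Sp4.qR 1 * (Sp4.P0 (sh (Units.mk0 t ht)))⁻¹ := by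
          rw [eq_mul_inv_iff_mul_eq]
          refine Sp4.ext4 fun a b x y => ?_
          simp [Equiv.Perm.mul_apply, Sp4.ρ_qR, Sp4.ρ_P0, act2, sh, mk2_apply, Sp4.mkv_inj]
          refine ⟨?_, ?_⟩ <;> field_simp
        rw [this]; exact mul_mem (mul_mem (hP _) hq1) (inv_mem (hP _))
  refine hasPresN_of (α := Fin 3 ⊕ Fin 2) (R := rels.toList.map (FreeGroup.map Sum.inl) ++ R0) (f := f)
    ⟨fun r hr => ?_, hgenA, fun G _ f' hf' => ?_⟩ (by simp) ?_
  · rcases List.mem_append.1 hr with hr | hr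
    · obtain ⟨s, hs, rfl⟩ := List.mem_map.1 hr
      rw [lift_map]
      exact (lift_comp (Sp4.P0 (F := F)) f1 s).symm.trans (by rw [P1'.rel s hs, map_one])
    · have c01 : ∀ x y, Sp4.P0 x * Sp4.P1 y = Sp4.P1 y * Sp4.P0 x := fun x y => (Sp4.comm01 (F := F) x y).eq
      have hcj : ∀ x, Sp4.swp * Sp4.P0 x * Sp4.swp = Sp4.P1 (F := F) x := Sp4.swp_P0
      simp only [R0, X, List.mem_cons, List.not_mem_nil, or_false] at hr
      rcases hr with rfl | rfl | rfl | rfl | rfl | rfl | rfl | rfl | rfl | rfl | rfl | rfl <;>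
        simp only [C, map_mul, map_inv, hfL, hfS, hfE, hcj, mul_inv_eq_one]
      · exact Sp4.swp_sq
      · exact c01 _ _
      · exact c01 _ _
      · exact c01 _ _
      · exact c01 _ _
      · exact Sp4.ext4 fun a b x y => by
          simp [Equiv.Perm.mul_apply, Sp4.ρ_qR, Sp4.ρ_P0, act2, sa, mk2_apply, Sp4.mkv_inj]; ring
      · rw [← map_inv Sp4.P1]
        refine Sp4.ext4 fun a b x y => ?_
        rw [show (sh g)⁻¹ = (sh g⁻¹ : An.SLn 2 F) from inv_eq_of_mul_eq_one_right (by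
          refine sl_ext ?_ ?_ ?_ ?_ <;> simp [sl_mul, sh, mk2_apply])]
        simp [Equiv.Perm.mul_apply, Sp4.ρ_qR, Sp4.ρ_P0, Sp4.ρ_P1, act2, sh, mk2_apply, Sp4.mkv_inj]
        refine ⟨?_, ?_⟩ <;> ring
      · exact Sp4.swp_qR 1
      · rw [← map_inv Sp4.P0, ← map_inv Sp4.P0, sw_inv,
          show (sb 1)⁻¹ = (sb (-1) : An.SLn 2 F) from inv_eq_of_mul_eq_one_right (by
            refine sl_ext ?_ ?_ ?_ ?_ <;> simp [sl_mul, sb, mk2_apply]),
          mul_assoc ((Sp4.qR 1)⁻¹), mul_assoc ((Sp4.qR 1)⁻¹), mul_assoc ((Sp4.qR 1)⁻¹), inv_mul_eq_iff_eq_mul]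
        refine Sp4.ext4 fun a b x y => ?_
        simp [Equiv.Perm.mul_apply, Sp4.ρ_qR, Sp4.ρ_P0, Sp4.ρ_P1, act2, sa, sb, sw, mk2_apply, Sp4.mkv_inj]
        repeat' apply And.intro
        all_goals ring
      · rw [mul_assoc (Sp4.P0 sw)⁻¹, eq_inv_mul_iff_mul_eq, ← mul_inv_eq_iff_eq_mul, ← map_inv Sp4.P0,
          ← map_inv Sp4.P0, ← map_inv Sp4.P0, sw_inv,
          show (sb (g : F))⁻¹ = (sb (-(g : F)) : An.SLn 2 F) from inv_eq_of_mul_eq_one_right (by
            refine sl_ext ?_ ?_ ?_ ?_ <;> simp [sl_mul, sb, mk2_apply]),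
          show (sh g)⁻¹ = (sh g⁻¹ : An.SLn 2 F) from inv_eq_of_mul_eq_one_right (by
            refine sl_ext ?_ ?_ ?_ ?_ <;> simp [sl_mul, sh, mk2_apply]),
          mul_assoc ((Sp4.qR 1)⁻¹), mul_assoc ((Sp4.qR 1)⁻¹), mul_assoc ((Sp4.qR 1)⁻¹), eq_inv_mul_iff_mul_eq]
        refine Sp4.ext4 fun a b x y => ?_
        simp [Equiv.Perm.mul_apply, Sp4.ρ_qR, Sp4.ρ_P0, Sp4.ρ_P1, act2, sa, sb, sh, sw, mk2_apply, Sp4.mkv_inj]
        repeat' apply And.intro
        all_goals (field_simp; try ring)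
      · rw [← map_inv Sp4.P0, sw_inv]
        refine Sp4.ext4 fun a b x y => ?_
        simp [Equiv.Perm.mul_apply, Sp4.ρ_qR, Sp4.ρ_P0, Sp4.ρ_P1, act2, sa, sw, mk2_apply, Sp4.mkv_inj]
        repeat' apply And.intro
        all_goals ring
      · have hq : (Sp4.qR (1 : F))⁻¹ = Sp4.qR (-1) := inv_eq_of_mul_eq_one_right
          (Sp4.ext4 fun a b x y => by simp [Equiv.Perm.mul_apply, Sp4.ρ_qR, Sp4.mkv_inj])
        rw [hq]; rfl
  swap
  · simp only [List.length_append, List.length_map, Finset.length_toList, R0, List.length_cons,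
      List.length_nil]
    omega
  obtain ⟨σ, hσ⟩ := P1'.univ G (fun i => f' (Sum.inl i)) fun s hs => by
    rw [← lift_map]
    exact hf' _ (List.mem_append.2 (Or.inl (List.mem_map.2 ⟨s, hs, rfl⟩)))
  set s := f' (Sum.inr 0)
  set e0 := f' (Sum.inr 1)
  have hL : ∀ x, FreeGroup.lift f' (L x) = σ x := fun x => by
    rw [lift_map, ← hW x, lift_comp, hW, show (fun i => σ (f1 i)) = _ from funext hσ]
  have hS : FreeGroup.lift f' S = s := FreeGroup.lift_apply_of
  have hE : FreeGroup.lift f' E = e0 := FreeGroup.lift_apply_of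
  have h0 : ∀ r ∈ R0, FreeGroup.lift f' r = 1 := fun r hr => hf' r (List.mem_append.2 (Or.inr hr))
  simp only [R0, X, List.forall_mem_cons, List.not_mem_nil, false_imp_iff, implies_true, and_true, C,
    map_mul, map_inv, hL, hS, hE, mul_inv_eq_one] at h0
  obtain ⟨rsq, caa, cab, cba, cbb, r1, r2, r3, r4, r5, r6, r7⟩ := h0
  have hcomm : ∀ x y, Commute (σ x) (s * σ y * s) := by
    let conjS : G →* G := MonoidHom.mk' (fun y => s * y * s) fun u v => by
      calc s * (u * v) * s = s * u * (s * s) * v * s := by rw [rsq]; group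
        _ = _ := by group
    have step : ∀ {z : G}, Commute (σ a) z → Commute (σ b) z → ∀ x, Commute (σ x) z := by
      intro z ha hb x
      have hx : x ∈ Subgroup.closure ({a, b} : Set (An.SLn 2 F)) := by rw [hab]; trivial
      induction hx using Subgroup.closure_induction with
      | mem y hy =>
        simp only [Set.mem_insert_iff, Set.mem_singleton_iff] at hy
        rcases hy with rfl | rfl
        · exact ha
        · exact hb
      | one => rw [map_one]; exact Commute.one_left z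
      | mul u v _ _ hu hv => rw [map_mul]; exact hu.mul_left hv
      | inv u _ hu => rw [map_inv]; exact hu.inv_left
    intro x y
    have hy : y ∈ Subgroup.closure ({a, b} : Set (An.SLn 2 F)) := by rw [hab]; trivial
    show Commute (σ x) (conjS (σ y))
    induction hy using Subgroup.closure_induction with
    | mem z hz =>
      simp only [Set.mem_insert_iff, Set.mem_singleton_iff] at hz
      rcases hz with rfl | rfl
      · exact step caa cba x
      · exact step cab cbb x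
    | one => rw [map_one, map_one]; exact Commute.one_right _
    | mul u v _ _ hu hv => rw [map_mul, map_mul]; exact hu.mul_right hv
    | inv u _ hu => rw [map_inv, map_inv]; exact hu.inv_right
  let Rd : Sp4.Rels F g G :=
    { σ := σ, s := s, e := e0, ssq := rsq, comm := hcomm, r1 := r1, r2 := r2, r3 := r3, r4 := r4, r5 := r5,
      r6 := r6 }
  let D := Rd.data hx hx' hgen
  obtain ⟨Φ, hΦ0, hΦR, hΦ1⟩ := D.exists_map
  have hR1 : Φ (Sp4.qR 1) = e0 := (hΦR 1).trans Rd.R_one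
  refine ⟨Φ, fun i => ?_⟩
  rcases i with i | i
  · exact (hΦ0 (f1 i)).trans (hσ i)
  fin_cases i
  · show Φ Sp4.swp = s
    have hq : (Sp4.qR (1 : F))⁻¹ = Sp4.qR (-1) := inv_eq_of_mul_eq_one_right
      (Sp4.ext4 fun a b x y => by simp [Equiv.Perm.mul_apply, Sp4.ρ_qR, Sp4.mkv_inj])
    rw [r7, Sp4.swp, Sp4.qM, Sp4.qN, ← hq]
    simp only [map_mul, map_inv, hR1, hΦ0, hΦ1]
    rfl
  · exact hR1

end CfsgLib.BPres
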