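import Cfsg.Agent.SpPres.Amalgam

/-!
Elements of `Sp 4` in two hyperbolic pairs.
-/

set_option autoImplicit false
set_option linter.unusedSectionVars false
set_option linter.unusedSimpArgs false

namespace CfsgLib.BPres.Sp4

open Matrix CfsgLib.SpPres

universe v

variable {F : Type v} [Field F]

/-- vectors of the plane -/
def mkv (x y : F) : Vec F 1 := Sum.elim (fun _ => x) (fun _ => y)

theorem eq_mkv (v : Vec F 1) : v = mkv (v (Sum.inl 0)) (v (Sum.inr 0)) := by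
  funext i; rcases i with i | i <;> fin_cases i <;> rfl

theorem mkv_inj {x y x' y' : F} : mkv x y = mkv x' y' ↔ x = x' ∧ y = y' :=
  ⟨fun h => ⟨congrFun h (Sum.inl 0), congrFun h (Sum.inr 0)⟩, fun h => by rw [h.1, h.2]⟩

theorem ext4 {A B : Spn F 2}
    (h : ∀ a b x y, ρW A ((a, b), mkv x y) = ρW B ((a, b), mkv x y)) : A = B := by
  refine ρW_injective (Equiv.ext fun ⟨⟨a, b⟩, v⟩ => ?_)
  rw [eq_mkv v]; exact h a b _ _

/-- the first plane -/
def P0 : SpecialLinearGroup (Fin 2) F →* Spn F 2 := sPl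

/-- the second plane -/
def P1 : SpecialLinearGroup (Fin 2) F →* Spn F 2 := emb.comp sPl

/-- the short root group -/
def qR (t : F) : Spn F 2 := qEl (t • eB 0)

/-- its opposite in the first plane -/
def qM (t : F) : Spn F 2 := P0 sw * qR t * (P0 sw)⁻¹

/-- its opposite in the second plane -/
def qN (t : F) : Spn F 2 := P1 sw * qR t * (P1 sw)⁻¹

theorem ρ_P0 (s : SpecialLinearGroup (Fin 2) F) (p : F × F) (x y : F) :
    ρW (P0 s) (p, mkv x y) = (act2 s p, mkv x y) := ρ_sPl s _ _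

theorem ρ_P1 (s : SpecialLinearGroup (Fin 2) F) (p : F × F) (x y : F) :
    ρW (P1 s) (p, mkv x y) = (p, mkv (act2 s (x, y)).1 (act2 s (x, y)).2) := by
  rw [P1, MonoidHom.comp_apply, ρ_emb]
  congr 1
  refine (split : Vec F 1 ≃ₗ[F] _).injective ?_
  rw [α_sPl]
  refine Prod.ext ?_ (funext fun i => ?_)
  · rfl
  · rcases i with i | i <;> exact i.elim0

theorem ρ_qR (t a b x y : F) :
    ρW (qR t) ((a, b), mkv x y) = ((a + t * y, b), mkv (x + b * t) y) := by
  rw [qR, ρ_qEl, map_smul, LinearMap.smul_apply, bl_eB_left, smul_eq_mul]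
  refine Prod.ext rfl ?_
  funext i
  rcases i with i | i <;> fin_cases i <;> simp [mkv, eB]

theorem ρ_qM (t a b x y : F) :
    ρW (qM t) ((a, b), mkv x y) = ((a, b + t * y), mkv (x - a * t) y) := by
  rw [qM, map_mul, map_mul, Equiv.Perm.mul_apply, Equiv.Perm.mul_apply, ← map_inv P0, sw_inv, ρ_P0, ρ_qR, ρ_P0]
  simp [act2, mk2_apply, sw, sub_eq_add_neg]

theorem ρ_qN (t a b x y : F) :
    ρW (qN t) ((a, b), mkv x y) = ((a - t * x, b), mkv x (y + b * t)) := by
  rw [qN, map_mul, map_mul, Equiv.Perm.mul_apply, Equiv.Perm.mul_apply, ← map_inv P1, sw_inv, ρ_P1, ρ_qR, ρ_P1]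
  simp [act2, mk2_apply, sw, sub_eq_add_neg, mkv_inj]

/-- the element exchanging the two pairs, as a product -/
def swp : Spn F 2 := qM (-1) * qN 1 * qM (-1) * P1 (sh (-1))

theorem ρ_swp (p : F × F) (x y : F) : ρW (swp : Spn F 2) (p, mkv x y) = ((x, y), mkv p.1 p.2) := by
  obtain ⟨a, b⟩ := p
  rw [swp]
  simp only [map_mul, Equiv.Perm.mul_apply, ρ_qM, ρ_qN, ρ_P1, act2, sh, mk2_apply]
  simp [mkv_inj]

theorem swp_sq : (swp : Spn F 2) * swp = 1 :=
  ext4 fun a b x y => by rw [map_mul, Equiv.Perm.mul_apply, ρ_swp, ρ_swp, map_one]; rfl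

theorem swp_inv : (swp : Spn F 2)⁻¹ = swp := inv_eq_of_mul_eq_one_right swp_sq

theorem swp_P0 (s : SpecialLinearGroup (Fin 2) F) : swp * P0 s * swp = P1 s :=
  ext4 fun a b x y => by simp [Equiv.Perm.mul_apply, ρ_swp, ρ_P0, ρ_P1]

theorem swp_qR (t : F) : swp * qR t * swp = qR t :=
  ext4 fun a b x y => by simp [Equiv.Perm.mul_apply, ρ_swp, ρ_qR]; ring_nf; trivial

theorem comm01 (s s' : SpecialLinearGroup (Fin 2) F) : Commute (P0 s) (P1 s') :=
  ext4 fun a b x y => by simp [Equiv.Perm.mul_apply, ρ_P0, ρ_P1]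

/-- the unipotent radical -/
def qU (a : F × F) (b : F) : Spn F 2 := qR a.1 * qM a.2 * P1 (sa (b - a.1 * a.2))

theorem ρ_qU (a : F × F) (d p q x y : F) :
    ρW (qU a d) ((p, q), mkv x y) =
      ((p + a.1 * y, q + a.2 * y), mkv (x + (d * y + (a.1 * q - a.2 * p))) y) := by
  rw [qU]
  simp only [map_mul, Equiv.Perm.mul_apply, ρ_qR, ρ_qM, ρ_P1, act2, sa, mk2_apply]
  simp [mkv_inj]
  ring

theorem qU_eq_one {s : SpecialLinearGroup (Fin 2) F} {a : F × F} {d : F} (h : P0 s * qU a d = 1) :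
    s = 1 ∧ a = (0, 0) ∧ d = 0 := by
  have h1 := congrArg (fun A => ρW A ((1, 0), mkv 0 0)) h
  have h2 := congrArg (fun A => ρW A ((0, 1), mkv 0 0)) h
  have h3 := congrArg (fun A => ρW A ((0, 0), mkv 0 1)) h
  simp [map_mul, Equiv.Perm.mul_apply, ρ_qU, ρ_P0, act2, Prod.ext_iff, mkv_inj] at h1 h2 h3
  have a2 : a.2 = 0 := h1.2
  have a1 : a.1 = 0 := h2.2
  exact ⟨sl_ext (by simpa using h1.1.1) (by simpa using h2.1.1) (by simpa using h1.1.2) (by simpa using h2.1.2),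
    Prod.ext a1 a2, h3.2⟩

end CfsgLib.BPres.Sp4
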