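import Cfsg.Agent.BPres.Sp4Target
import Cfsg.Agent.BPres.PermSL

/-!
Smaller symplectic groups on some of the pairs, and permutations of the pairs.
-/

set_option autoImplicit false
set_option linter.unusedSectionVars false
set_option linter.unusedSimpArgs false

namespace CfsgLib.BPres.Sp

open Matrix CfsgLib.SpPres

universe v

variable {F : Type v} [Field F] {r n : ℕ}

/-- the coordinates in the image -/
def res (f : Fin r ↪ Fin n) : Vec F n →ₗ[F] Vec F r where
  toFun v := v ∘ Sum.map f f
  map_add' _ _ := rfl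
  map_smul' _ _ := rfl

/-- extension by zero -/
noncomputable def ext (f : Fin r ↪ Fin n) : Vec F r →ₗ[F] Vec F n where
  toFun a := Function.extend (Sum.map f f) a 0
  map_add' a b := by
    funext i
    simp only [Pi.add_apply, Function.extend_def]
    split_ifs <;> simp
  map_smul' c a := by
    funext i
    simp only [Pi.smul_apply, Function.extend_def, RingHom.id_apply]
    split_ifs <;> simp

theorem ext_apply (f : Fin r ↪ Fin n) (a : Vec F r) (x : Fin r ⊕ Fin r) :
    ext f a (Sum.map f f x) = a x :=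
  (f.injective.sumMap f.injective).extend_apply _ _ _

theorem ext_apply_inl (f : Fin r ↪ Fin n) (a : Vec F r) (k : Fin n) (hk : k ∉ Set.range f) :
    ext f a (Sum.inl k) = 0 := by
  refine Function.extend_apply' _ _ _ ?_
  rintro ⟨x | x, hx⟩
  · exact hk ⟨x, Sum.inl.inj hx⟩
  · exact absurd hx (by simp)

theorem ext_apply_inr (f : Fin r ↪ Fin n) (a : Vec F r) (k : Fin n) (hk : k ∉ Set.range f) :
    ext f a (Sum.inr k) = 0 := by
  refine Function.extend_apply' _ _ _ ?_
  rintro ⟨x | x, hx⟩
  · exact absurd hx (by simp)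
  · exact hk ⟨x, Sum.inr.inj hx⟩

theorem res_ext (f : Fin r ↪ Fin n) (a : Vec F r) : res f (ext f a) = a :=
  funext fun x => ext_apply f a x

theorem bl_ext (f : Fin r ↪ Fin n) (a : Vec F r) (w : Vec F n) : bl (ext f a) w = bl a (res f w) := by
  rw [bl_apply, bl_apply]
  rw [← Finset.sum_subset (Finset.subset_univ (Finset.univ.map f)) fun k _ hk => ?_]
  · rw [Finset.sum_map]
    refine Finset.sum_congr rfl fun i _ => ?_
    have h1 := ext_apply (F := F) f a (Sum.inl i)
    have h2 := ext_apply (F := F) f a (Sum.inr i)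
    simp only [Sum.map_inl, Sum.map_inr] at h1 h2
    rw [h1, h2]; rfl
  · have hk' : k ∉ Set.range f := fun ⟨i, hi⟩ => hk (Finset.mem_map.2 ⟨i, Finset.mem_univ _, hi⟩)
    rw [ext_apply_inl f a k hk', ext_apply_inr f a k hk']; simp

theorem bl_skew {m : ℕ} (v w : Vec F m) : bl v w = -bl w v := by
  have := bl_alt (v + w)
  simp only [map_add, LinearMap.add_apply, bl_alt] at this
  linear_combination this

/-- the map of an element of the smaller group -/
noncomputable def eMap (f : Fin r ↪ Fin n) (g : Spn F r) : Vec F n →ₗ[F] Vec F n :=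
  LinearMap.id + ext f ∘ₗ ((αSp g).toLinearMap - LinearMap.id) ∘ₗ res f

theorem eMap_apply (f : Fin r ↪ Fin n) (g : Spn F r) (v : Vec F n) :
    eMap f g v = v + ext f (αSp g (res f v) - res f v) := rfl

theorem eMap_bl (f : Fin r ↪ Fin n) (g : Spn F r) (v w : Vec F n) :
    bl (eMap f g v) (eMap f g w) = bl v w := by
  simp only [eMap_apply, map_add, LinearMap.add_apply, bl_ext, bl_skew v (ext f _), res_ext]
  simp only [map_sub, LinearMap.sub_apply, αSp_bl]
  rw [bl_skew (αSp g (res f w)) (res f v), bl_skew (res f w) (res f v)]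
  ring

theorem res_eMap (f : Fin r ↪ Fin n) (g : Spn F r) (v : Vec F n) :
    res f (eMap f g v) = αSp g (res f v) := by
  rw [eMap_apply, map_add, res_ext]; abel

/-- `Sp` on some pairs. -/
noncomputable def E (f : Fin r ↪ Fin n) : Spn F r →* Spn F n where
  toFun g := ofLin (eMap f g) (eMap_bl f g)
  map_one' := αSp_injective <| LinearEquiv.ext fun v => by
    rw [αSp_ofLin, eMap_apply]; simp
  map_mul' g h := αSp_injective <| LinearEquiv.ext fun v => by
    rw [αSp_ofLin, αSp_mul, αSp_ofLin, αSp_ofLin, eMap_apply, eMap_apply f g, res_eMap, αSp_mul,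
      eMap_apply, map_sub, map_sub, map_sub]
    abel

theorem α_E (f : Fin r ↪ Fin n) (g : Spn F r) (v : Vec F n) :
    αSp (E f g) v = v + ext f (αSp g (res f v) - res f v) := αSp_ofLin _ (eMap_bl f g) v

theorem res_E (f : Fin r ↪ Fin n) (g : Spn F r) (v : Vec F n) :
    res f (αSp (E f g) v) = αSp g (res f v) := by
  rw [α_E, map_add, res_ext]; abel

theorem E_injective (f : Fin r ↪ Fin n) : Function.Injective (E (F := F) f) := fun g h e =>
  αSp_injective <| LinearEquiv.ext fun a => by
    have := congrArg (fun A => res f (αSp A (ext f a))) e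
    simpa [res_E, res_ext] using this

theorem res_ext_disjoint {r' : ℕ} (f : Fin r ↪ Fin n) (f' : Fin r' ↪ Fin n) (h : ∀ i j, f i ≠ f' j)
    (a : Vec F r) : res f' (ext f a) = 0 := by
  funext x
  rcases x with x | x
  · exact ext_apply_inl f a _ fun ⟨i, hi⟩ => h i x hi
  · exact ext_apply_inr f a _ fun ⟨i, hi⟩ => h i x hi

theorem E_eq_one_of_disjoint {r' : ℕ} (f : Fin r ↪ Fin n) (f' : Fin r' ↪ Fin n) (h : ∀ i j, f i ≠ f' j)
    {g : Spn F r} {g' : Spn F r'} (e : E f g * E f' g' = 1) : g = 1 := by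
  refine αSp_injective (LinearEquiv.ext fun a => ?_)
  have := congrArg (fun A => res f (αSp A (ext f a))) e
  simp only [αSp_mul, res_E, map_one] at this
  rw [α_E f', res_ext_disjoint f f' h, map_zero, sub_zero, map_zero, add_zero, res_ext] at this
  rw [this, map_one]
  exact res_ext f a

theorem E_comm_disjoint {r' : ℕ} (f : Fin r ↪ Fin n) (f' : Fin r' ↪ Fin n) (h : ∀ i j, f i ≠ f' j)
    (g : Spn F r) (g' : Spn F r') : Commute (E f g) (E f' g') := by
  refine αSp_injective (LinearEquiv.ext fun v => ?_)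
  have h1 := fun a => res_ext_disjoint (F := F) f f' h a
  have h2 := fun a => res_ext_disjoint (F := F) f' f (fun i j e => h j i e.symm) a
  simp only [αSp_mul, α_E, map_add, h1, h2, add_zero, map_sub, sub_zero]
  abel

/-- composition -/
theorem E_comp {k : ℕ} (f : Fin r ↪ Fin n) (f' : Fin k ↪ Fin r) (g : Spn F k) :
    E f (E f' g) = E (f'.trans f) g := by
  refine αSp_injective (LinearEquiv.ext fun v => ?_)
  have hres : res f' (res f v) = res (F := F) (f'.trans f) v := by
    funext x; rcases x with x | x <;> rfl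
  rw [α_E, α_E, α_E, hres, add_sub_cancel_left]
  congr 1
  funext z
  have key : ∀ z, ext (F := F) f (ext f' (αSp g (res (f'.trans f) v) - res (f'.trans f) v)) z =
      ext (f'.trans f) (αSp g (res (f'.trans f) v) - res (f'.trans f) v) z := by
    intro z
    set a := αSp g (res (f'.trans f) v) - res (f'.trans f) v
    rcases z with z | z
    · by_cases hz : z ∈ Set.range f
      · obtain ⟨i, rfl⟩ := hz
        have := ext_apply (F := F) f (ext f' a) (Sum.inl i)
        rw [Sum.map_inl] at this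
        rw [this]
        by_cases hi : i ∈ Set.range f'
        · obtain ⟨j, rfl⟩ := hi
          exact (ext_apply f' a (Sum.inl j)).trans (ext_apply (f'.trans f) a (Sum.inl j)).symm
        · rw [ext_apply_inl f' a _ hi, ext_apply_inl (f'.trans f) a _ fun ⟨j, hj⟩ => hi ⟨j, f.injective hj⟩]
      · rw [ext_apply_inl f _ _ hz, ext_apply_inl (f'.trans f) a _ fun ⟨j, hj⟩ => hz ⟨f' j, hj⟩]
    · by_cases hz : z ∈ Set.range f
      · obtain ⟨i, rfl⟩ := hz
        have := ext_apply (F := F) f (ext f' a) (Sum.inr i)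
        rw [Sum.map_inr] at this
        rw [this]
        by_cases hi : i ∈ Set.range f'
        · obtain ⟨j, rfl⟩ := hi
          exact (ext_apply f' a (Sum.inr j)).trans (ext_apply (f'.trans f) a (Sum.inr j)).symm
        · rw [ext_apply_inr f' a _ hi, ext_apply_inr (f'.trans f) a _ fun ⟨j, hj⟩ => hi ⟨j, f.injective hj⟩]
      · rw [ext_apply_inr f _ _ hz, ext_apply_inr (f'.trans f) a _ fun ⟨j, hj⟩ => hz ⟨f' j, hj⟩]
  exact key z

/-- An element fixing the other pairs comes from the smaller group. -/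
theorem exists_E (f : Fin r ↪ Fin n) {A : Spn F n}
    (h : ∀ k, k ∉ Set.range f → αSp A (eB k) = eB k ∧ αSp A (fB k) = fB k) : ∃ g, A = E f g := by
  have hfix : ∀ v, αSp A (v - ext f (res f v)) = v - ext f (res f v) := by
    intro v
    set w := v - ext f (res f v)
    have hw : w = ∑ k, (w (Sum.inl k) • eB k + w (Sum.inr k) • fB k) := by
      funext z
      rcases z with z | z <;> simp [eB, fB, Finset.sum_apply, Pi.single_apply]
    have hz : ∀ k ∈ Set.range f, w (Sum.inl k) = 0 ∧ w (Sum.inr k) = 0 := by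
      rintro _ ⟨i, rfl⟩
      have h1 := ext_apply (F := F) f (res f v) (Sum.inl i)
      have h2 := ext_apply (F := F) f (res f v) (Sum.inr i)
      simp only [Sum.map_inl, Sum.map_inr] at h1 h2
      refine ⟨?_, ?_⟩ <;> simp only [w, Pi.sub_apply, h1, h2] <;> exact sub_self _
    rw [hw, map_sum]
    refine Finset.sum_congr rfl fun k _ => ?_
    by_cases hk : k ∈ Set.range f
    · rw [(hz k hk).1, (hz k hk).2]; simp
    · rw [map_add, map_smul, map_smul, (h k hk).1, (h k hk).2]
  let L : Vec F r →ₗ[F] Vec F r := res f ∘ₗ (αSp A).toLinearMap ∘ₗ ext f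
  have hext : ∀ a, αSp A (ext f a) = ext f (L a) := by
    intro a
    set u := αSp A (ext f a)
    have hu : ∀ k, k ∉ Set.range f → u (Sum.inl k) = 0 ∧ u (Sum.inr k) = 0 := by
      intro k hk
      have b1 := αSp_bl A (ext f a) (eB k)
      have b2 := αSp_bl A (ext f a) (fB k)
      rw [(h k hk).1, bl_eB_right, bl_eB_right, ext_apply_inr f a k hk] at b1
      rw [(h k hk).2, bl_fB_right, bl_fB_right, ext_apply_inl f a k hk] at b2
      exact ⟨b2, neg_injective b1⟩
    funext z
    show u z = ext f (res f u) z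
    rcases z with z | z <;> by_cases hz : z ∈ Set.range f
    · obtain ⟨i, rfl⟩ := hz; exact (ext_apply f (res f u) (Sum.inl i)).symm
    · rw [ext_apply_inl f _ _ hz, (hu z hz).1]
    · obtain ⟨i, rfl⟩ := hz; exact (ext_apply f (res f u) (Sum.inr i)).symm
    · rw [ext_apply_inr f _ _ hz, (hu z hz).2]
  refine ⟨ofLin L fun a b => ?_, αSp_injective (LinearEquiv.ext fun v => ?_)⟩
  · have := αSp_bl A (ext f a) (ext f b)
    rw [hext, hext, bl_ext, bl_ext, res_ext, res_ext] at this
    exact this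
  · rw [α_E, αSp_ofLin, map_sub, ← hext]
    conv_lhs => rw [show v = ext f (res f v) + (v - ext f (res f v)) by abel, map_add, hfix]
    abel

/-- permutations of the pairs -/
def pMap (σ : Equiv.Perm (Fin n)) : Vec F n →ₗ[F] Vec F n where
  toFun v := v ∘ Sum.map σ.symm σ.symm
  map_add' _ _ := rfl
  map_smul' _ _ := rfl

theorem pMap_bl (σ : Equiv.Perm (Fin n)) (v w : Vec F n) : bl (pMap σ v) (pMap σ w) = bl v w := by
  rw [bl_apply, bl_apply]
  exact Fintype.sum_equiv σ.symm _ _ fun i => rfl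

/-- The permutation of the pairs. -/
def PS (F : Type v) [Field F] (n : ℕ) : Equiv.Perm (Fin n) →* Spn F n where
  toFun σ := ofLin (pMap σ) (pMap_bl σ)
  map_one' := αSp_injective <| LinearEquiv.ext fun v => by
    rw [αSp_ofLin, map_one]
    funext x; rcases x with x | x <;> rfl
  map_mul' σ τ := αSp_injective <| LinearEquiv.ext fun v => by
    rw [αSp_mul, αSp_ofLin, αSp_ofLin, αSp_ofLin]
    funext x; rcases x with x | x <;> rfl

theorem PS_E (σ : Equiv.Perm (Fin n)) (f : Fin r ↪ Fin n) (g : Spn F r) :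
    PS F n σ * E f g * (PS F n σ)⁻¹ = E (f.trans σ.toEmbedding) g := by
  rw [mul_inv_eq_iff_eq_mul]
  refine αSp_injective (LinearEquiv.ext fun v => ?_)
  show αSp (PS F n σ * E f g) v = αSp (E (f.trans σ.toEmbedding) g * PS F n σ) v
  rw [αSp_mul, αSp_mul, α_E, α_E]
  have hP : ∀ w : Vec F n, αSp (PS F n σ) w = pMap σ w := fun w => αSp_ofLin _ (pMap_bl σ) w
  rw [hP, hP, map_add]
  have hres : res (f.trans σ.toEmbedding) (pMap σ v) = res (F := F) f v := by
    funext x; rcases x with x | x <;> simp [res, pMap]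
  rw [hres]
  congr 1
  set a := αSp g (res f v) - res f v
  funext z
  rcases z with z | z <;> show ext f a (Sum.map σ.symm σ.symm _) = _
  · by_cases hz : σ.symm z ∈ Set.range f
    · obtain ⟨i, hi⟩ := hz
      obtain rfl : z = σ (f i) := by rw [hi, Equiv.apply_symm_apply]
      rw [Sum.map_inl, Equiv.symm_apply_apply]
      exact (ext_apply f a (Sum.inl i)).trans (ext_apply (f.trans σ.toEmbedding) a (Sum.inl i)).symm
    · rw [Sum.map_inl, ext_apply_inl f a _ hz,
        ext_apply_inl (f.trans σ.toEmbedding) a _ fun ⟨i, hi⟩ => hz ⟨i, by rw [← hi]; simp⟩]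
  · by_cases hz : σ.symm z ∈ Set.range f
    · obtain ⟨i, hi⟩ := hz
      obtain rfl : z = σ (f i) := by rw [hi, Equiv.apply_symm_apply]
      rw [Sum.map_inr, Equiv.symm_apply_apply]
      exact (ext_apply f a (Sum.inr i)).trans (ext_apply (f.trans σ.toEmbedding) a (Sum.inr i)).symm
    · rw [Sum.map_inr, ext_apply_inr f a _ hz,
        ext_apply_inr (f.trans σ.toEmbedding) a _ fun ⟨i, hi⟩ => hz ⟨i, by rw [← hi]; simp⟩]

/-- a pair of indices -/
def pair {a b : Fin n} (h : a ≠ b) : Fin 2 ↪ Fin n := ⟨![a, b], An.pair_inj h⟩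

theorem E_id (g : Spn F n) : E (Function.Embedding.refl (Fin n)) g = g := by
  refine αSp_injective (LinearEquiv.ext fun v => ?_)
  rw [α_E]
  have h1 : res (F := F) (Function.Embedding.refl (Fin n)) v = v := by
    funext x; rcases x with x | x <;> rfl
  have h2 : ∀ a : Vec F n, ext (Function.Embedding.refl (Fin n)) a = a := fun a => by
    funext x
    have := ext_apply (F := F) (Function.Embedding.refl (Fin n)) a x
    rcases x with x | x <;> exact this
  rw [h1, h2]; abel

/-- The consecutive pairs of a smaller group. -/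
theorem emb_eq_E (g : Spn F n) : (emb g : Spn F (n + 1)) = E (Fin.succEmb n) g := by
  refine αSp_injective (LinearEquiv.ext fun v => (split : Vec F (n + 1) ≃ₗ[F] _).injective ?_)
  rw [α_E]
  have h := ρ_emb g (split v).1 (split v).2
  rw [ρW_apply, Prod.mk.eta, LinearEquiv.symm_apply_apply] at h
  rw [h]
  have hr : res (F := F) (Fin.succEmb n) v = (split v).2 := by
    funext x; rcases x with x | x <;> rfl
  rw [hr, map_add]
  have hs : ∀ a : Vec F n, split (ext (Fin.succEmb n) a) = ((0, 0), a) := fun a => by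
    refine Prod.ext (Prod.ext ?_ ?_) (funext fun x => ?_)
    · exact ext_apply_inl _ _ _ fun ⟨i, hi⟩ => Fin.succ_ne_zero i hi
    · exact ext_apply_inr _ _ _ fun ⟨i, hi⟩ => Fin.succ_ne_zero i hi
    · rcases x with x | x
      · exact ext_apply (Fin.succEmb n) a (Sum.inl x)
      · exact ext_apply (Fin.succEmb n) a (Sum.inr x)
  rw [hs]
  refine Prod.ext (Prod.ext ?_ ?_) ?_ <;> simp


theorem α_PS (σ : Equiv.Perm (Fin n)) (v : Vec F n) : αSp (PS F n σ) v = pMap σ v :=
  αSp_ofLin _ (pMap_bl σ) v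

theorem res_pMap (σ : Equiv.Perm (Fin n)) (f : Fin r ↪ Fin n) (τ : Equiv.Perm (Fin r))
    (h : ∀ i, σ (f i) = f (τ i)) (v : Vec F n) : res f (pMap σ v) = pMap τ (res f v) := by
  have h' : ∀ i, σ.symm (f i) = f (τ.symm i) := fun i => by
    rw [Equiv.symm_apply_eq, h, Equiv.apply_symm_apply]
  funext x
  rcases x with x | x <;> simp [res, pMap, h']

theorem E_PS (f : Fin r ↪ Fin n) (σ : Equiv.Perm (Fin n)) (τ : Equiv.Perm (Fin r))
    (h : ∀ i, σ (f i) = f (τ i)) (hout : ∀ k, k ∉ Set.range f → σ k = k) :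
    E f (PS F r τ) = PS F n σ := by
  refine αSp_injective (LinearEquiv.ext fun v => ?_)
  rw [α_E, α_PS, α_PS, ← res_pMap σ f τ h]
  have hout' : ∀ k, k ∉ Set.range f → σ.symm k = k := fun k hk => by
    rw [Equiv.symm_apply_eq, hout k hk]
  funext z
  rcases z with z | z <;> by_cases hz : z ∈ Set.range f
  · obtain ⟨i, rfl⟩ := hz
    have := ext_apply (F := F) f (res f (pMap σ v) - res f v) (Sum.inl i)
    rw [Sum.map_inl] at this
    rw [Pi.add_apply, this]
    simp [res]
  · rw [Pi.add_apply, ext_apply_inl f _ _ hz]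
    simp [pMap, hout' z hz]
  · obtain ⟨i, rfl⟩ := hz
    have := ext_apply (F := F) f (res f (pMap σ v) - res f v) (Sum.inr i)
    rw [Sum.map_inr] at this
    rw [Pi.add_apply, this]
    simp [res]
  · rw [Pi.add_apply, ext_apply_inr f _ _ hz]
    simp [pMap, hout' z hz]

theorem swp_eq_PS : (Sp4.swp : Spn F 2) = PS F 2 (Equiv.swap 0 1) := by
  refine Sp4.ext4 fun a b x y => ?_
  rw [Sp4.ρ_swp, ρW_apply, α_PS]
  refine Prod.ext (Prod.ext ?_ ?_) (funext fun i => ?_)
  · simp [split, pMap, Sp4.mkv]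
  · simp [split, pMap, Sp4.mkv]
  · rcases i with i | i <;> fin_cases i <;> simp [split, pMap, Sp4.mkv]

/-- the pair in the other order -/
def swapPair (f : Fin 2 ↪ Fin n) : Fin 2 ↪ Fin n := (Equiv.swap 0 1).toEmbedding.trans f

theorem E_swapPair (f : Fin 2 ↪ Fin n) (g : Spn F 2) :
    E (swapPair f) g = E f (Sp4.swp * g * Sp4.swp) := by
  rw [swapPair, ← E_comp]
  congr 1
  have h := PS_E (F := F) (Equiv.swap 0 1) (Function.Embedding.refl (Fin 2)) g
  rw [E_id, ← swp_eq_PS, Sp4.swp_inv] at h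
  rw [h]
  rfl

theorem E_swp (f : Fin 2 ↪ Fin n) : E f (Sp4.swp : Spn F 2) = PS F n (Equiv.swap (f 0) (f 1)) := by
  rw [swp_eq_PS]
  refine E_PS f _ _ (fun i => by rw [f.injective.swap_apply]) fun k hk => ?_
  exact Equiv.swap_apply_of_ne_of_ne (fun e => hk ⟨0, e.symm⟩) fun e => hk ⟨1, e.symm⟩

theorem res_eB (f : Fin r ↪ Fin n) (i : Fin r) : res f (eB (f i) : Vec F n) = eB i := by
  funext x
  rcases x with x | x <;> simp [res, eB, Pi.single_apply]

theorem res_fB (f : Fin r ↪ Fin n) (i : Fin r) : res f (fB (f i) : Vec F n) = fB i := by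
  funext x
  rcases x with x | x <;> simp [res, fB, Pi.single_apply]

theorem res_eB_out (f : Fin r ↪ Fin n) {k : Fin n} (hk : k ∉ Set.range f) :
    res f (eB k : Vec F n) = 0 := by
  funext x
  rcases x with x | x
  · simp only [res, LinearMap.coe_mk, AddHom.coe_mk, Function.comp_apply, Sum.map_inl, eB]
    exact Pi.single_eq_of_ne (fun e => hk ⟨x, Sum.inl.inj e⟩) _
  · simp [res, eB]

theorem res_fB_out (f : Fin r ↪ Fin n) {k : Fin n} (hk : k ∉ Set.range f) :
    res f (fB k : Vec F n) = 0 := by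
  funext x
  rcases x with x | x
  · simp [res, fB]
  · simp only [res, LinearMap.coe_mk, AddHom.coe_mk, Function.comp_apply, Sum.map_inr, fB]
    exact Pi.single_eq_of_ne (fun e => hk ⟨x, Sum.inr.inj e⟩) _

theorem E_fix_out (f : Fin r ↪ Fin n) (g : Spn F r) {k : Fin n} (hk : k ∉ Set.range f) :
    αSp (E f g) (eB k) = eB k ∧ αSp (E f g) (fB k) = fB k := by
  refine ⟨?_, ?_⟩
  · rw [α_E, res_eB_out f hk, map_zero, sub_zero, map_zero, add_zero]
  · rw [α_E, res_fB_out f hk, map_zero, sub_zero, map_zero, add_zero]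

theorem E_fix_eB (f : Fin r ↪ Fin n) (g : Spn F r) (i : Fin r) :
    αSp g (eB i) = eB i → αSp (E f g) (eB (f i)) = eB (f i) := fun h => by
  rw [α_E, res_eB, h, sub_self, map_zero, add_zero]

theorem E_fix_fB (f : Fin r ↪ Fin n) (g : Spn F r) (i : Fin r) :
    αSp g (fB i) = fB i → αSp (E f g) (fB (f i)) = fB (f i) := fun h => by
  rw [α_E, res_fB, h, sub_self, map_zero, add_zero]

theorem fix_of_E (f : Fin r ↪ Fin n) (g : Spn F r) (i : Fin r) :
    (αSp (E f g) (eB (f i)) = eB (f i) → αSp g (eB i) = eB i) ∧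
      (αSp (E f g) (fB (f i)) = fB (f i) → αSp g (fB i) = fB i) :=
  ⟨fun h => by rw [← res_eB f i, ← res_E, h], fun h => by rw [← res_fB f i, ← res_E, h]⟩

end CfsgLib.BPres.Sp
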