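import Cfsg.Agent.BPres.SpEmb
import Cfsg.Agent.BPres.Sp4Crit
import Cfsg.Agent.BPres.SLn

/-!
Maps out of the symplectic group from one map of `Sp 4` and one of the alternating group.
-/

set_option autoImplicit false
set_option linter.unusedSectionVars false
set_option linter.unusedSimpArgs false
set_option linter.style.haveILetI false

namespace CfsgLib.BPres.Sp

open Equiv Subgroup CfsgLib.SpPres
open CfsgLib.BPres.Sp4 (P0 P1 qR qM swp swp_inv swp_sq swp_P0 swp_qR comm01 hom_of_pairs)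

universe v w

variable {F : Type v} [Field F] {n : ℕ}

/-- the first three indices -/
def o (hn : 3 ≤ n) (i : Fin 3) : Fin n := BPres.first hn i

theorem o_ne (hn : 3 ≤ n) {i j : Fin 3} (h : i ≠ j) : o hn i ≠ o hn j :=
  (first_injective hn).ne h

/-- the first pair -/
def f01 (hn : 3 ≤ n) : Fin 2 ↪ Fin n := pair (o_ne hn (show (0 : Fin 3) ≠ 1 by decide))

/-- the second pair -/
def f12 (hn : 3 ≤ n) : Fin 2 ↪ Fin n := pair (o_ne hn (show (1 : Fin 3) ≠ 2 by decide))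

/-- the three cycle of the first indices -/
def c3 (hn : 3 ≤ n) : alternatingGroup (Fin n) := altEmb ⟨BPres.first hn, first_injective hn⟩ c012

theorem c3_o (hn : 3 ≤ n) (i : Fin 3) : (c3 hn : Perm (Fin n)) (o hn i) = o hn (i + 1) := by
  rw [c3, o, show BPres.first hn i = (⟨BPres.first hn, first_injective hn⟩ : Fin 3 ↪ Fin n) i from rfl,
    altEmb_apply, c012_apply]
  rfl

/-- A map of `Sp 4` and one of the alternating group that fit together. -/
structure Fit (F : Type v) [Field F] {n : ℕ} (hn : 3 ≤ n) (G : Type w) [Group G] where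
  /-- the small map -/
  ψ : Spn F 2 →* G
  /-- the permutations -/
  A : alternatingGroup (Fin n) →* G
  fix : ∀ σ : alternatingGroup (Fin n), (σ : Perm (Fin n)) (o hn 0) = o hn 0 →
    (σ : Perm (Fin n)) (o hn 1) = o hn 1 → ∀ x, Commute (A σ) (ψ x)
  flip : ∀ σ : alternatingGroup (Fin n), (σ : Perm (Fin n)) (o hn 0) = o hn 1 →
    (σ : Perm (Fin n)) (o hn 1) = o hn 0 → ∀ x, A σ * ψ x * (A σ)⁻¹ = ψ (swp * x * swp)
  rot0 : ∀ x, A (c3 hn) * ψ (P0 x) * (A (c3 hn))⁻¹ = ψ (P1 x)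
  ms : ∀ x, Commute (ψ (P0 x)) (A (c3 hn) * ψ (qR 1) * (A (c3 hn))⁻¹)
  mm : Commute (ψ (qR 1)) (A (c3 hn) * ψ (qR 1) * (A (c3 hn))⁻¹)
  mm' : ∀ h4 : 4 ≤ n, Commute (ψ (qR 1)) (A (π4 h4) * ψ (qR 1) * (A (π4 h4))⁻¹)
  perp : ψ (qR 1) * ((A (c3 hn) * ψ swp * (A (c3 hn))⁻¹) * ψ (qR 1) * (A (c3 hn) * ψ swp * (A (c3 hn))⁻¹)⁻¹) =
    (A (c3 hn) * ψ (qM (-1)) * (A (c3 hn))⁻¹) * ψ (qR 1) * (A (c3 hn) * ψ (qM (-1)) * (A (c3 hn))⁻¹)⁻¹
  cid : A (c3 hn) = ψ swp * (A (c3 hn) * ψ swp * (A (c3 hn))⁻¹)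

/-- conjugation by the exchange -/
def tw : Bool → Spn F 2 →* Spn F 2
  | false => MonoidHom.id _
  | true => (MulAut.conj (swp : Spn F 2)).toMonoidHom

theorem tw_true (x : Spn F 2) : tw true x = swp * x * swp := by
  show swp * x * swp⁻¹ = _
  rw [swp_inv]

theorem tw_false (x : Spn F 2) : tw false x = x := rfl

theorem swp_conj_conj (x : Spn F 2) : swp * (swp * x * swp) * swp = x := by
  rw [show swp * (swp * x * swp) * swp = (swp * swp) * x * (swp * swp) by group, swp_sq]; group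

/-- the order in a pair -/
def ord : Bool → Perm (Fin 2)
  | false => 1
  | true => Equiv.swap 0 1

namespace Fit

variable {hn : 3 ≤ n} {G : Type w} [Group G] (R : Fit F hn G)

theorem indep (f : Fin 2 ↪ Fin n) (σ ρ : alternatingGroup (Fin n)) (b b' : Bool)
    (hσ : ∀ i, (σ : Perm (Fin n)) (f01 hn (ord b i)) = f i)
    (hρ : ∀ i, (ρ : Perm (Fin n)) (f01 hn (ord b' i)) = f i) (x : Spn F 2) :
    R.A σ * R.ψ (tw b x) * (R.A σ)⁻¹ = R.A ρ * R.ψ (tw b' x) * (R.A ρ)⁻¹ := by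
  have hk : ∀ i, ((ρ⁻¹ * σ : alternatingGroup (Fin n)) : Perm (Fin n)) (f01 hn (ord b i)) =
      f01 hn (ord b' i) := fun i => by
    show (ρ : Perm (Fin n))⁻¹ ((σ : Perm (Fin n)) _) = _
    rw [hσ, ← hρ i, Perm.inv_def, Equiv.symm_apply_apply]
  have key : R.A (ρ⁻¹ * σ) * R.ψ (tw b x) * (R.A (ρ⁻¹ * σ))⁻¹ = R.ψ (tw b' x) := by
    have h0 := hk 0
    have h1 := hk 1
    cases b <;> cases b' <;> simp only [ord, Perm.one_apply, swap_apply_left, swap_apply_right] at h0 h1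
    · rw [(R.fix _ h0 h1 _).eq, mul_inv_cancel_right]
    · rw [R.flip _ h0 h1, tw_false, tw_true]
    · rw [R.flip _ h1 h0, tw_true, tw_false, swp_conj_conj]
    · rw [(R.fix _ h1 h0 _).eq, mul_inv_cancel_right]
  rw [← key, map_mul, map_inv]
  group

theorem exists_rep (f : Fin 2 ↪ Fin n) :
    ∃ (σ : alternatingGroup (Fin n)) (b : Bool), ∀ i, (σ : Perm (Fin n)) (f01 hn (ord b i)) = f i := by
  obtain ⟨σ, h⟩ := exists_even (f01 hn) f (f01 hn).injective f.injective 0 1 (by decide)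
  rcases h with h | h
  · exact ⟨σ, false, h⟩
  · exact ⟨σ, true, h⟩

/-- The copy of `Sp 4` on a pair. -/
noncomputable def Ψ (f : Fin 2 ↪ Fin n) : Spn F 2 →* G :=
  (MulAut.conj (R.A (exists_rep (hn := hn) f).choose)).toMonoidHom.comp
    (R.ψ.comp (tw (exists_rep (hn := hn) f).choose_spec.choose))

theorem Ψ_eq (f : Fin 2 ↪ Fin n) (σ : alternatingGroup (Fin n)) (b : Bool)
    (h : ∀ i, (σ : Perm (Fin n)) (f01 hn (ord b i)) = f i) (x : Spn F 2) :
    R.Ψ f x = R.A σ * R.ψ (tw b x) * (R.A σ)⁻¹ :=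
  R.indep f _ σ _ b (exists_rep (hn := hn) f).choose_spec.choose_spec h x

theorem Ψ_first (x : Spn F 2) : R.Ψ (f01 hn) x = R.ψ x := by
  rw [R.Ψ_eq (f01 hn) 1 false (fun i => rfl), map_one, tw_false]; simp

theorem Ψ_trans (f : Fin 2 ↪ Fin n) (ρ : alternatingGroup (Fin n)) (x : Spn F 2) :
    R.Ψ (f.trans (ρ : Perm (Fin n)).toEmbedding) x = R.A ρ * R.Ψ f x * (R.A ρ)⁻¹ := by
  obtain ⟨σ, b, h⟩ := exists_rep (hn := hn) f
  rw [R.Ψ_eq f σ b h, R.Ψ_eq (f.trans (ρ : Perm (Fin n)).toEmbedding) (ρ * σ) b (fun i => by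
    show (ρ : Perm (Fin n)) ((σ : Perm (Fin n)) _) = (ρ : Perm (Fin n)) (f i)
    rw [h]), map_mul]
  group

theorem Ψ_swap (f : Fin 2 ↪ Fin n) (x : Spn F 2) : R.Ψ (swapPair f) x = R.Ψ f (swp * x * swp) := by
  obtain ⟨σ, b, h⟩ := exists_rep (hn := hn) f
  have h' : ∀ i, (σ : Perm (Fin n)) (f01 hn (ord (!b) i)) = swapPair f i := fun i => by
    have := h (Equiv.swap 0 1 i)
    rw [show swapPair f i = f (Equiv.swap 0 1 i) from rfl, ← this]
    cases b <;> simp [ord]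
  rw [R.Ψ_eq f σ b h, R.Ψ_eq (swapPair f) σ (!b) h']
  cases b
  · rw [Bool.not_false, tw_true, tw_false]
  · rw [Bool.not_true, tw_false, tw_true, swp_conj_conj]

theorem trans_pair (ρ : Perm (Fin n)) {a b a' b' : Fin n} (h : a ≠ b) (h' : a' ≠ b') (ha : ρ a = a')
    (hb : ρ b = b') : (pair h).trans ρ.toEmbedding = pair h' := by
  ext i
  show (ρ (![a, b] i)).val = (![a', b'] i).val
  fin_cases i <;> simp [ha, hb]

theorem Ψ_pair_swap {a b : Fin n} (h : a ≠ b) (x : Spn F 2) :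
    R.Ψ (pair h.symm) x = R.Ψ (pair h) (swp * x * swp) := by
  rw [← R.Ψ_swap]
  congr 2
  ext i
  fin_cases i <;> rfl

theorem f12_eq : f12 hn = (f01 hn).trans (c3 hn : Perm (Fin n)).toEmbedding :=
  (trans_pair _ _ _ (c3_o hn 0) (c3_o hn 1)).symm

theorem Ψ12 (x : Spn F 2) : R.Ψ (f12 hn) x = R.A (c3 hn) * R.ψ x * (R.A (c3 hn))⁻¹ := by
  rw [f12_eq, R.Ψ_trans, R.Ψ_first]

theorem Ψ20 (x : Spn F 2) :
    R.Ψ (pair (o_ne hn (show (2 : Fin 3) ≠ 0 by decide))) x = (R.A (c3 hn))⁻¹ * R.ψ x * R.A (c3 hn) := by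
  have hinv : ∀ i : Fin 3, ((c3 hn)⁻¹ : alternatingGroup (Fin n)).1 (o hn (i + 1)) = o hn i := fun i => by
    rw [Subgroup.coe_inv, Perm.inv_def, Equiv.symm_apply_eq, c3_o]
  rw [← trans_pair ((c3 hn)⁻¹ : alternatingGroup (Fin n)).1 (o_ne hn (show (0 : Fin 3) ≠ 1 by decide)) _
    (hinv 2) (hinv 0), R.Ψ_trans, show pair (o_ne hn (show (0 : Fin 3) ≠ 1 by decide)) = f01 hn from rfl,
    R.Ψ_first, map_inv, inv_inv]

/-- ordered triples -/
theorem exists_triple {i j l : Fin n} (hinj : Function.Injective ![i, j, l]) (p q : Fin 3) (hpq : p ≠ q) :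
    ∃ σ : alternatingGroup (Fin n), (∀ a, (σ : Perm (Fin n)) (o hn a) = ![i, j, l] a) ∨
      ∀ a, (σ : Perm (Fin n)) (o hn (Equiv.swap p q a)) = ![i, j, l] a :=
  exists_even (o hn) _ (first_injective hn) hinj p q hpq

theorem P1_eq (x : Matrix.SpecialLinearGroup (Fin 2) F) : (P1 x : Spn F 2) = swp * P0 x * swp :=
  (swp_P0 x).symm

theorem swp_P1 (x : Matrix.SpecialLinearGroup (Fin 2) F) : (swp * P1 x * swp : Spn F 2) = P0 x := by
  rw [P1_eq, swp_conj_conj]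

theorem P0_indep (f f' : Fin 2 ↪ Fin n) (h : f 0 = f' 0) (x : Matrix.SpecialLinearGroup (Fin 2) F) :
    R.Ψ f (P0 x) = R.Ψ f' (P0 x) := by
  have base : ∀ {k : Fin n} (hk0 : o hn 0 ≠ k), R.Ψ (pair hk0) (P0 x) = R.ψ (P0 x) := by
    intro k hk0
    by_cases hk1 : k = o hn 1
    · subst hk1; exact R.Ψ_first _
    obtain ⟨σ, hσ⟩ := exists_triple (hn := hn) (triple_injective (o_ne hn (show (0 : Fin 3) ≠ 1 by decide))
      (fun e => hk1 e.symm) hk0) 0 1 (by decide)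
    rcases hσ with hσ | hσ
    · have e02 : R.Ψ (pair (o_ne hn (show (0 : Fin 3) ≠ 2 by decide))) (P0 x) = R.ψ (P0 x) := by
        rw [R.Ψ_pair_swap (o_ne hn (show (2 : Fin 3) ≠ 0 by decide)), swp_P0, R.Ψ20, ← R.rot0]
        group
      rw [← trans_pair (σ : Perm (Fin n)) (o_ne hn (show (0 : Fin 3) ≠ 2 by decide)) hk0 (hσ 0) (hσ 2),
        R.Ψ_trans, e02, (R.fix σ (hσ 0) (hσ 1) _).eq, mul_inv_cancel_right]
    · have h0 : (σ : Perm (Fin n)) (o hn 1) = o hn 0 := by simpa using hσ 0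
      have h1 : (σ : Perm (Fin n)) (o hn 0) = o hn 1 := by simpa using hσ 1
      have h2 : (σ : Perm (Fin n)) (o hn 2) = k := by
        simpa [swap_apply_of_ne_of_ne (show (2 : Fin 3) ≠ 0 by decide) (show (2 : Fin 3) ≠ 1 by decide)]
          using hσ 2
      rw [← trans_pair (σ : Perm (Fin n)) (o_ne hn (show (1 : Fin 3) ≠ 2 by decide)) hk0 h0 h2,
        R.Ψ_trans, show pair (o_ne hn (show (1 : Fin 3) ≠ 2 by decide)) = f12 hn from rfl, R.Ψ12, R.rot0,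
        R.flip σ h1 h0, swp_P1]
  have base' : ∀ {k : Fin n} (hk1 : o hn 1 ≠ k), R.Ψ (pair hk1) (P0 x) = R.ψ (P1 x) := by
    intro k hk1
    by_cases hk0 : k = o hn 0
    · subst hk0
      rw [R.Ψ_pair_swap hk1.symm, swp_P0]; exact R.Ψ_first _
    obtain ⟨σ, hσ⟩ := exists_triple (hn := hn) (triple_injective (o_ne hn (show (1 : Fin 3) ≠ 0 by decide))
      (fun e => hk0 e.symm) hk1) 0 1 (by decide)
    rcases hσ with hσ | hσ
    · have h0 : (σ : Perm (Fin n)) (o hn 0) = o hn 1 := hσ 0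
      have h1 : (σ : Perm (Fin n)) (o hn 1) = o hn 0 := hσ 1
      have h2 : (σ : Perm (Fin n)) (o hn 2) = k := hσ 2
      rw [← trans_pair (σ : Perm (Fin n)) (o_ne hn (show (0 : Fin 3) ≠ 2 by decide)) hk1 h0 h2,
        R.Ψ_trans, base (o_ne hn (show (0 : Fin 3) ≠ 2 by decide)), R.flip σ h0 h1, swp_P0]
    · have h1 : (σ : Perm (Fin n)) (o hn 1) = o hn 1 := by simpa using hσ 0
      have h0 : (σ : Perm (Fin n)) (o hn 0) = o hn 0 := by simpa using hσ 1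
      have h2 : (σ : Perm (Fin n)) (o hn 2) = k := by
        simpa [swap_apply_of_ne_of_ne (show (2 : Fin 3) ≠ 0 by decide) (show (2 : Fin 3) ≠ 1 by decide)]
          using hσ 2
      rw [← trans_pair (σ : Perm (Fin n)) (o_ne hn (show (1 : Fin 3) ≠ 2 by decide)) hk1 h1 h2,
        R.Ψ_trans, show pair (o_ne hn (show (1 : Fin 3) ≠ 2 by decide)) = f12 hn from rfl, R.Ψ12, R.rot0,
        (R.fix σ h0 h1 _).eq, mul_inv_cancel_right]
  obtain ⟨σ, b, hσ⟩ := exists_rep (hn := hn) f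
  set f'' := f'.trans ((σ⁻¹ : alternatingGroup (Fin n)) : Perm (Fin n)).toEmbedding
  have e' : R.Ψ f' (P0 x) = R.A σ * R.Ψ f'' (P0 x) * (R.A σ)⁻¹ := by
    rw [R.Ψ_trans, map_inv]; group
  rw [R.Ψ_eq f σ b hσ, e']
  congr 2
  have h0 : f'' 0 = f01 hn (ord b 0) := by
    show ((σ⁻¹ : alternatingGroup (Fin n)) : Perm (Fin n)) (f' 0) = _
    rw [← h, ← hσ 0, Subgroup.coe_inv, Perm.inv_def, Equiv.symm_apply_apply]
  have hne : f'' 0 ≠ f'' 1 := f''.injective.ne (by decide)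
  have hpair : f'' = pair hne := by ext i; fin_cases i <;> rfl
  rw [hpair]
  cases b
  · rw [tw_false]
    have hne' : o hn 0 ≠ f'' 1 := fun e => hne (h0.trans e)
    rw [show pair hne = pair hne' by ext i; fin_cases i <;> first | exact congrArg Fin.val h0 | rfl]
    exact (base hne').symm
  · rw [tw_true, swp_P0]
    have hne' : o hn 1 ≠ f'' 1 := fun e => hne (h0.trans e)
    rw [show pair hne = pair hne' by ext i; fin_cases i <;> first | exact congrArg Fin.val h0 | rfl]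
    exact (base' hne').symm

theorem two (hn : 3 ≤ n) (j : Fin n) : ∃ f : Fin 2 ↪ Fin n, f 0 = j := by
  by_cases h : j = o hn 0
  · exact ⟨pair (show j ≠ o hn 1 by rw [h]; exact o_ne hn (by decide)), rfl⟩
  · exact ⟨pair h, rfl⟩

/-- the plane at an index -/
noncomputable def S (j : Fin n) : Matrix.SpecialLinearGroup (Fin 2) F →* G :=
  (R.Ψ (two hn j).choose).comp P0

theorem Ψ_P0 (f : Fin 2 ↪ Fin n) (x : Matrix.SpecialLinearGroup (Fin 2) F) :
    R.Ψ f (P0 x) = R.S (f 0) x :=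
  R.P0_indep f _ (two hn (f 0)).choose_spec.symm x

theorem Ψ_P1 (f : Fin 2 ↪ Fin n) (x : Matrix.SpecialLinearGroup (Fin 2) F) :
    R.Ψ f (P1 x) = R.S (f 1) x := by
  rw [P1_eq, ← R.Ψ_swap, R.Ψ_P0]
  rfl

theorem S_first0 (x : Matrix.SpecialLinearGroup (Fin 2) F) : R.S (o hn 0) x = R.ψ (P0 x) := by
  rw [← R.Ψ_first, R.Ψ_P0]; rfl

theorem S_comm {j l : Fin n} (h : j ≠ l) (x y : Matrix.SpecialLinearGroup (Fin 2) F) :
    Commute (R.S j x) (R.S l y) := by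
  have h1 : R.Ψ (pair h) (P0 x) = R.S j x := R.Ψ_P0 (pair h) x
  have h2 : R.Ψ (pair h) (P1 y) = R.S l y := R.Ψ_P1 (pair h) y
  rw [← h1, ← h2]
  exact (comm01 x y).map (R.Ψ (pair h))

/-- the short root group at a pair -/
noncomputable def Q (f : Fin 2 ↪ Fin n) (t : F) : G := R.Ψ f (qR t)

theorem Q_swap (f : Fin 2 ↪ Fin n) (t : F) : R.Q (swapPair f) t = R.Q f t := by
  rw [Q, R.Ψ_swap, swp_qR]; rfl

theorem Q_pair_swap {a b : Fin n} (h : a ≠ b) (t : F) : R.Q (pair h.symm) t = R.Q (pair h) t := by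
  rw [Q, R.Ψ_pair_swap h, swp_qR]; rfl

theorem qR_zero : (qR (0 : F) : Spn F 2) = 1 := Sp4.ext4 fun a b x y => by simp [Sp4.ρ_qR]

theorem qR_tor (l : Fˣ) (t : F) :
    (qR (l * t) : Spn F 2) = P0 (sh l) * qR t * (P0 (sh l))⁻¹ ∧
      (qR (l * t) : Spn F 2) = P1 (sh l) * qR t * (P1 (sh l))⁻¹ := by
  refine ⟨?_, ?_⟩ <;> rw [eq_mul_inv_iff_mul_eq] <;> refine Sp4.ext4 fun a b x y => ?_ <;>
    simp [Equiv.Perm.mul_apply, Sp4.ρ_qR, Sp4.ρ_P0, Sp4.ρ_P1, act2, sh, mk2_apply, Sp4.mkv_inj] <;>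
    refine ⟨?_, ?_⟩ <;> field_simp

theorem S_Q {j : Fin n} (f : Fin 2 ↪ Fin n) (h0 : j ≠ f 0) (h1 : j ≠ f 1)
    (x : Matrix.SpecialLinearGroup (Fin 2) F) (t : F) : Commute (R.S j x) (R.Q f t) := by
  have base : ∀ t, Commute (R.S (o hn 0) x) (R.Q (f12 hn) t) := by
    intro t
    by_cases ht : t = 0
    · rw [Q, ht, qR_zero, map_one]; exact Commute.one_right _
    have e := (qR_tor (Units.mk0 t ht) 1).2
    rw [Units.val_mk0, mul_one] at e
    rw [Q, e, map_mul, map_mul, map_inv, R.Ψ_P1, R.Ψ12]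
    have hc : Commute (R.S (o hn 0) x) (R.S (f12 hn 1) (sh (Units.mk0 t ht))) :=
      R.S_comm (o_ne hn (show (0 : Fin 3) ≠ 2 by decide)) _ _
    refine (hc.mul_right ?_).mul_right hc.inv_right
    rw [R.S_first0]; exact R.ms x
  have hne : f 0 ≠ f 1 := f.injective.ne (by decide)
  obtain ⟨σ, hσ⟩ := exists_triple (hn := hn) (triple_injective h0 hne h1) 1 2 (by decide)
  have key : ∀ (g : Fin 2 ↪ Fin n) (t : F), (σ : Perm (Fin n)) (o hn 0) = j →
      (g = (f12 hn).trans (σ : Perm (Fin n)).toEmbedding) → Commute (R.S j x) (R.Q g t) := by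
    intro g t hj hg
    obtain ⟨f0, hf0⟩ := two hn (o hn 0)
    have e1 : R.S j x = R.A σ * R.S (o hn 0) x * (R.A σ)⁻¹ := by
      rw [← hf0, ← R.Ψ_P0 f0, ← R.Ψ_trans, R.Ψ_P0]
      congr 2
      show j = (σ : Perm (Fin n)) (f0 0)
      rw [hf0, hj]
    rw [e1, hg, Q, R.Ψ_trans]
    exact (Commute.conj_iff (R.A σ)).2 (base t)
  rcases hσ with hσ | hσ
  · refine key f t (hσ 0) ?_
    rw [show f12 hn = pair (o_ne hn (show (1 : Fin 3) ≠ 2 by decide)) from rfl,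
      trans_pair (σ : Perm (Fin n)) _ hne (hσ 1) (hσ 2)]
    ext i; fin_cases i <;> rfl
  · have s0 : (σ : Perm (Fin n)) (o hn 0) = j := by
      simpa [swap_apply_of_ne_of_ne (show (0 : Fin 3) ≠ 1 by decide) (show (0 : Fin 3) ≠ 2 by decide)]
        using hσ 0
    have s1 : (σ : Perm (Fin n)) (o hn 2) = f 0 := by simpa using hσ 1
    have s2 : (σ : Perm (Fin n)) (o hn 1) = f 1 := by simpa using hσ 2
    rw [← R.Q_swap f]
    refine key (swapPair f) t s0 ?_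
    rw [show f12 hn = pair (o_ne hn (show (1 : Fin 3) ≠ 2 by decide)) from rfl,
      trans_pair (σ : Perm (Fin n)) _ hne.symm s2 s1]
    ext i; fin_cases i <;> rfl

theorem Q_scale (f : Fin 2 ↪ Fin n) {t : F} (ht : t ≠ 0) :
    R.Q f t = R.S (f 0) (sh (Units.mk0 t ht)) * R.Q f 1 * (R.S (f 0) (sh (Units.mk0 t ht)))⁻¹ ∧
      R.Q f t = R.S (f 1) (sh (Units.mk0 t ht)) * R.Q f 1 * (R.S (f 1) (sh (Units.mk0 t ht)))⁻¹ := by
  obtain ⟨e0, e1⟩ := qR_tor (Units.mk0 t ht) 1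
  rw [Units.val_mk0, mul_one] at e0 e1
  refine ⟨?_, ?_⟩
  · rw [Q, Q, e0, map_mul, map_mul, map_inv, R.Ψ_P0]
  · rw [Q, Q, e1, map_mul, map_mul, map_inv, R.Ψ_P1]

theorem Q_zero (f : Fin 2 ↪ Fin n) : R.Q f 0 = 1 := by rw [Q, qR_zero, map_one]

theorem Q_shared {a b c : Fin n} (hab : a ≠ b) (hbc : b ≠ c) (hac : a ≠ c) (t u : F) :
    Commute (R.Q (pair hab) t) (R.Q (pair hbc) u) := by
  have base : ∀ t u, Commute (R.Q (f01 hn) t) (R.Q (f12 hn) u) := by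
    intro t u
    by_cases ht : t = 0
    · rw [ht, R.Q_zero]; exact Commute.one_left _
    by_cases hu : u = 0
    · rw [hu, R.Q_zero]; exact Commute.one_right _
    have c0 : ∀ s, Commute (R.S (o hn 0) (sh (Units.mk0 t ht))) (R.Q (f12 hn) s) := fun s =>
      R.S_Q (f12 hn) (o_ne hn (by decide)) (o_ne hn (by decide)) _ s
    have c2 : ∀ s, Commute (R.S (o hn 2) (sh (Units.mk0 u hu))) (R.Q (f01 hn) s) := fun s =>
      R.S_Q (f01 hn) (o_ne hn (by decide)) (o_ne hn (by decide)) _ s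
    have e11 : Commute (R.Q (f01 hn) 1) (R.Q (f12 hn) 1) := by
      rw [Q, Q, R.Ψ_first, R.Ψ12]; exact R.mm
    have e12 : Commute (R.Q (f01 hn) 1) (R.Q (f12 hn) u) := by
      rw [(R.Q_scale (f12 hn) hu).2]
      exact ((c2 1).symm.mul_right e11).mul_right (c2 1).symm.inv_right
    rw [(R.Q_scale (f01 hn) ht).1]
    exact ((c0 u).mul_left e12).mul_left (c0 u).inv_left
  obtain ⟨σ, hσ⟩ := exists_triple (hn := hn) (triple_injective hab hbc hac) 0 2 (by decide)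
  rcases hσ with hσ | hσ
  · rw [← trans_pair (σ : Perm (Fin n)) (o_ne hn (show (0 : Fin 3) ≠ 1 by decide)) hab (hσ 0) (hσ 1),
      ← trans_pair (σ : Perm (Fin n)) (o_ne hn (show (1 : Fin 3) ≠ 2 by decide)) hbc (hσ 1) (hσ 2),
      Q, Q, R.Ψ_trans, R.Ψ_trans]
    exact (Commute.conj_iff (R.A σ)).2 (base t u)
  · have s0 : (σ : Perm (Fin n)) (o hn 2) = a := by simpa using hσ 0
    have s1 : (σ : Perm (Fin n)) (o hn 1) = b := by
      simpa [swap_apply_of_ne_of_ne (show (1 : Fin 3) ≠ 0 by decide) (show (1 : Fin 3) ≠ 2 by decide)]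
        using hσ 1
    have s2 : (σ : Perm (Fin n)) (o hn 0) = c := by simpa using hσ 2
    rw [← R.Q_pair_swap hab, ← R.Q_pair_swap hbc,
      ← trans_pair (σ : Perm (Fin n)) (o_ne hn (show (1 : Fin 3) ≠ 2 by decide)) hab.symm s1 s0,
      ← trans_pair (σ : Perm (Fin n)) (o_ne hn (show (0 : Fin 3) ≠ 1 by decide)) hbc.symm s2 s1,
      Q, Q, R.Ψ_trans, R.Ψ_trans]
    exact (Commute.conj_iff (R.A σ)).2 (base u t).symm

theorem Q_disjoint {a b c d : Fin n} (hab : a ≠ b) (hcd : c ≠ d) (hac : a ≠ c) (had : a ≠ d)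
    (hbc : b ≠ c) (hbd : b ≠ d) (t u : F) : Commute (R.Q (pair hab) t) (R.Q (pair hcd) u) := by
  have h4 : 4 ≤ n := by
    have h := Finset.card_le_univ ({a, b, c, d} : Finset (Fin n))
    rw [Fintype.card_fin] at h
    have e : ({a, b, c, d} : Finset (Fin n)).card = 4 := by
      simp [Finset.card_insert_of_notMem, hab, hcd, hac, had, hbc, hbd]
    omega
  set q : Fin 4 → Fin n := BPres.first h4
  have hq01 : q 0 ≠ q 1 := (first_injective h4).ne (by decide)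
  have hq23 : q 2 ≠ q 3 := (first_injective h4).ne (by decide)
  have base : ∀ t u, Commute (R.Q (pair hq01) t) (R.Q (pair hq23) u) := by
    intro t u
    by_cases ht : t = 0
    · rw [ht, R.Q_zero]; exact Commute.one_left _
    by_cases hu : u = 0
    · rw [hu, R.Q_zero]; exact Commute.one_right _
    have c0 : ∀ s, Commute (R.S (q 0) (sh (Units.mk0 t ht))) (R.Q (pair hq23) s) := fun s =>
      R.S_Q (pair hq23) ((first_injective h4).ne (show (0 : Fin 4) ≠ 2 by decide))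
        ((first_injective h4).ne (show (0 : Fin 4) ≠ 3 by decide)) _ s
    have c2 : ∀ s, Commute (R.S (q 2) (sh (Units.mk0 u hu))) (R.Q (pair hq01) s) := fun s =>
      R.S_Q (pair hq01) ((first_injective h4).ne (show (2 : Fin 4) ≠ 0 by decide))
        ((first_injective h4).ne (show (2 : Fin 4) ≠ 1 by decide)) _ s
    have e11 : Commute (R.Q (pair hq01) 1) (R.Q (pair hq23) 1) := by
      rw [← trans_pair (π4 h4 : Perm (Fin n)) hq01 hq23 (by rw [π4, dbl_apply]; rfl)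
        (by rw [π4, dbl_apply]; rfl), Q, Q, R.Ψ_trans, show pair hq01 = f01 hn from rfl, R.Ψ_first]
      exact R.mm' h4
    have e12 : Commute (R.Q (pair hq01) 1) (R.Q (pair hq23) u) := by
      rw [(R.Q_scale (pair hq23) hu).1]
      exact ((c2 1).symm.mul_right e11).mul_right (c2 1).symm.inv_right
    rw [(R.Q_scale (pair hq01) ht).1]
    exact ((c0 u).mul_left e12).mul_left (c0 u).inv_left
  have hinj : Function.Injective ![a, b, c, d] := by
    intro i j e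
    fin_cases i <;> fin_cases j <;> simp at e <;>
      first | rfl | exact absurd e hab | exact absurd e.symm hab | exact absurd e hcd |
        exact absurd e.symm hcd | exact absurd e hac | exact absurd e.symm hac | exact absurd e had |
        exact absurd e.symm had | exact absurd e hbc | exact absurd e.symm hbc | exact absurd e hbd |
        exact absurd e.symm hbd
  obtain ⟨σ, hσ⟩ := exists_even q ![a, b, c, d] (first_injective h4) hinj 0 1 (by decide)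
  rcases hσ with hσ | hσ
  · rw [← trans_pair (σ : Perm (Fin n)) hq01 hab (hσ 0) (hσ 1),
      ← trans_pair (σ : Perm (Fin n)) hq23 hcd (hσ 2) (hσ 3), Q, Q, R.Ψ_trans, R.Ψ_trans]
    exact (Commute.conj_iff (R.A σ)).2 (base t u)
  · have s0 : (σ : Perm (Fin n)) (q 1) = a := by simpa using hσ 0
    have s1 : (σ : Perm (Fin n)) (q 0) = b := by simpa using hσ 1
    have s2 : (σ : Perm (Fin n)) (q 2) = c := by
      simpa [swap_apply_of_ne_of_ne (show (2 : Fin 4) ≠ 0 by decide) (show (2 : Fin 4) ≠ 1 by decide)]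
        using hσ 2
    have s3 : (σ : Perm (Fin n)) (q 3) = d := by
      simpa [swap_apply_of_ne_of_ne (show (3 : Fin 4) ≠ 0 by decide) (show (3 : Fin 4) ≠ 1 by decide)]
        using hσ 3
    rw [← R.Q_pair_swap hab, ← trans_pair (σ : Perm (Fin n)) hq01 hab.symm s1 s0,
      ← trans_pair (σ : Perm (Fin n)) hq23 hcd s2 s3, Q, Q, R.Ψ_trans, R.Ψ_trans]
    exact (Commute.conj_iff (R.A σ)).2 (base t u)

theorem Q_conj {a b c : Fin n} (hab : a ≠ b) (hbc : b ≠ c) (hac : a ≠ c) (t : F) :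
    R.Ψ (pair hbc) swp * R.Q (pair hab) t * (R.Ψ (pair hbc) swp)⁻¹ = R.Q (pair hac) t := by
  have h02 := o_ne hn (show (0 : Fin 3) ≠ 2 by decide)
  have h01 := o_ne hn (show (0 : Fin 3) ≠ 1 by decide)
  have h12 := o_ne hn (show (1 : Fin 3) ≠ 2 by decide)
  have ψswp : (R.ψ swp)⁻¹ = R.ψ swp := by rw [← map_inv, swp_inv]
  have cinv : (R.A (c3 hn))⁻¹ = (R.Ψ (f12 hn) swp)⁻¹ * R.ψ swp := by
    conv_lhs => rw [R.cid, ← R.Ψ12]
    rw [mul_inv_rev, ψswp]
  have gg : (R.Ψ (f12 hn) swp)⁻¹ = R.Ψ (f12 hn) swp := by rw [← map_inv, swp_inv]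
  have base : R.Ψ (f12 hn) swp * R.Q (f01 hn) t * (R.Ψ (f12 hn) swp)⁻¹ = R.Q (pair h02) t := by
    rw [Q, Q, R.Ψ_pair_swap h02.symm, swp_qR, R.Ψ20, R.Ψ_first, cinv, gg]
    calc R.Ψ (f12 hn) swp * R.ψ (qR t) * R.Ψ (f12 hn) swp
        = R.Ψ (f12 hn) swp * R.ψ (swp * qR t * swp) * R.Ψ (f12 hn) swp := by rw [swp_qR]
      _ = R.Ψ (f12 hn) swp * R.ψ swp * R.ψ (qR t) * (R.ψ swp * R.Ψ (f12 hn) swp) := by
          rw [map_mul, map_mul]; group
      _ = _ := by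
          congr 1
          conv_rhs => rw [R.cid, ← R.Ψ12]
  obtain ⟨σ, hσ⟩ := exists_triple (hn := hn) (triple_injective hab hbc hac) 1 2 (by decide)
  rcases hσ with hσ | hσ
  · have e := congrArg (fun z => R.A σ * z * (R.A σ)⁻¹) base
    rw [← trans_pair (σ : Perm (Fin n)) h01 hab (hσ 0) (hσ 1), ← trans_pair (σ : Perm (Fin n)) h12 hbc (hσ 1)
      (hσ 2), ← trans_pair (σ : Perm (Fin n)) h02 hac (hσ 0) (hσ 2), Q, Q, R.Ψ_trans, R.Ψ_trans, R.Ψ_trans]
    simp only [Q] at e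
    refine Eq.trans ?_ e
    show _ = R.A σ * (R.Ψ (pair h12) swp * R.Ψ (pair h01) (qR t) * (R.Ψ (pair h12) swp)⁻¹) * (R.A σ)⁻¹
    group
  · have s0 : (σ : Perm (Fin n)) (o hn 0) = a := by
      simpa [swap_apply_of_ne_of_ne (show (0 : Fin 3) ≠ 1 by decide) (show (0 : Fin 3) ≠ 2 by decide)]
        using hσ 0
    have s1 : (σ : Perm (Fin n)) (o hn 2) = b := by simpa using hσ 1
    have s2 : (σ : Perm (Fin n)) (o hn 1) = c := by simpa using hσ 2
    have base' : R.Ψ (f12 hn) swp * R.Q (pair h02) t * (R.Ψ (f12 hn) swp)⁻¹ = R.Q (f01 hn) t := by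
      rw [← base]
      calc R.Ψ (f12 hn) swp * (R.Ψ (f12 hn) swp * R.Q (f01 hn) t * (R.Ψ (f12 hn) swp)⁻¹) *
            (R.Ψ (f12 hn) swp)⁻¹ = (R.Ψ (f12 hn) swp * R.Ψ (f12 hn) swp) * R.Q (f01 hn) t *
              (R.Ψ (f12 hn) swp * R.Ψ (f12 hn) swp)⁻¹ := by group
        _ = _ := by rw [← map_mul, swp_sq, map_one]; group
    have e := congrArg (fun z => R.A σ * z * (R.A σ)⁻¹) base'
    have hsw : R.Ψ (pair hbc) swp = R.Ψ (pair hbc.symm) swp := by
      rw [R.Ψ_pair_swap hbc, swp_sq, one_mul]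
    rw [hsw, ← trans_pair (σ : Perm (Fin n)) h02 hab s0 s1, ← trans_pair (σ : Perm (Fin n)) h12 hbc.symm s2
      s1, ← trans_pair (σ : Perm (Fin n)) h01 hac s0 s2, Q, Q, R.Ψ_trans, R.Ψ_trans, R.Ψ_trans]
    simp only [Q] at e
    refine Eq.trans ?_ e
    show _ = R.A σ * (R.Ψ (pair h12) swp * R.Ψ (pair h02) (qR t) * (R.Ψ (pair h12) swp)⁻¹) * (R.A σ)⁻¹
    group

theorem qN_eq : (swp * qM (-1) * swp : Spn F 2) = Sp4.qN (-1) := by
  rw [Sp4.qM, Sp4.qN, P1_eq]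
  conv_rhs => rw [← swp_qR (-1 : F)]
  rw [mul_inv_rev, mul_inv_rev, swp_inv]
  symm
  calc (swp : Spn F 2) * P0 sw * swp * (swp * qR (-1) * swp) * (swp * ((P0 sw)⁻¹ * swp))
      = swp * P0 sw * (swp * swp) * qR (-1) * (swp * swp) * (P0 sw)⁻¹ * swp := by group
    _ = _ := by rw [swp_sq]; group

theorem Q_perp {a b c : Fin n} (hab : a ≠ b) (hbc : b ≠ c) (hac : a ≠ c) :
    R.Q (pair hab) 1 * R.Q (pair hac) 1 =
      R.Ψ (pair hbc) (qM (-1)) * R.Q (pair hab) 1 * (R.Ψ (pair hbc) (qM (-1)))⁻¹ := by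
  have h02 := o_ne hn (show (0 : Fin 3) ≠ 2 by decide)
  have h01 := o_ne hn (show (0 : Fin 3) ≠ 1 by decide)
  have h12 := o_ne hn (show (1 : Fin 3) ≠ 2 by decide)
  have base : R.Q (pair h01) 1 * R.Q (pair h02) 1 =
      R.Ψ (pair h12) (qM (-1)) * R.Q (pair h01) 1 * (R.Ψ (pair h12) (qM (-1)))⁻¹ := by
    rw [← R.Q_conj h01 h12 h02, show pair h01 = f01 hn from rfl, show pair h12 = f12 hn from rfl, Q,
      R.Ψ_first, R.Ψ12, R.Ψ12]
    exact R.perp
  have base' : R.Q (pair h02) 1 * R.Q (pair h01) 1 =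
      R.Ψ (pair h12.symm) (qM (-1)) * R.Q (pair h02) 1 * (R.Ψ (pair h12.symm) (qM (-1)))⁻¹ := by
    have e := congrArg (fun z => R.Ψ (pair h12) swp * z * (R.Ψ (pair h12) swp)⁻¹) base
    have q1 := R.Q_conj h01 h12 h02 (1 : F)
    have q2 : R.Ψ (pair h12) swp * R.Q (pair h02) 1 * (R.Ψ (pair h12) swp)⁻¹ = R.Q (pair h01) 1 := by
      rw [show R.Ψ (pair h12) swp = R.Ψ (pair h12.symm) swp by
        rw [R.Ψ_pair_swap h12, swp_sq, one_mul]]
      exact R.Q_conj h02 h12.symm h01 1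
    rw [R.Ψ_pair_swap h12]
    have hgg : (R.Ψ (pair h12) swp)⁻¹ = R.Ψ (pair h12) swp := by rw [← map_inv, swp_inv]
    calc R.Q (pair h02) 1 * R.Q (pair h01) 1
        = (R.Ψ (pair h12) swp * R.Q (pair h01) 1 * (R.Ψ (pair h12) swp)⁻¹) *
          (R.Ψ (pair h12) swp * R.Q (pair h02) 1 * (R.Ψ (pair h12) swp)⁻¹) := by rw [q1, q2]
      _ = R.Ψ (pair h12) swp * (R.Q (pair h01) 1 * R.Q (pair h02) 1) * (R.Ψ (pair h12) swp)⁻¹ := by group
      _ = R.Ψ (pair h12) swp * (R.Ψ (pair h12) (qM (-1)) * R.Q (pair h01) 1 *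
          (R.Ψ (pair h12) (qM (-1)))⁻¹) * (R.Ψ (pair h12) swp)⁻¹ := by rw [base]
      _ = R.Ψ (pair h12) swp * R.Ψ (pair h12) (qM (-1)) * (R.Ψ (pair h12) swp)⁻¹ *
          (R.Ψ (pair h12) swp * R.Q (pair h01) 1 * (R.Ψ (pair h12) swp)⁻¹) *
          (R.Ψ (pair h12) swp * R.Ψ (pair h12) (qM (-1)) * (R.Ψ (pair h12) swp)⁻¹)⁻¹ := by group
      _ = _ := by rw [q1, hgg, ← map_mul, ← map_mul]
  obtain ⟨σ, hσ⟩ := exists_triple (hn := hn) (triple_injective hab hbc hac) 1 2 (by decide)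
  rcases hσ with hσ | hσ
  · have e := congrArg (fun z => R.A σ * z * (R.A σ)⁻¹) base
    rw [← trans_pair (σ : Perm (Fin n)) h01 hab (hσ 0) (hσ 1), ← trans_pair (σ : Perm (Fin n)) h12 hbc (hσ 1)
      (hσ 2), ← trans_pair (σ : Perm (Fin n)) h02 hac (hσ 0) (hσ 2), Q, Q, R.Ψ_trans, R.Ψ_trans, R.Ψ_trans]
    simp only [Q] at e
    convert e using 1 <;> group
  · have s0 : (σ : Perm (Fin n)) (o hn 0) = a := by
      simpa [swap_apply_of_ne_of_ne (show (0 : Fin 3) ≠ 1 by decide) (show (0 : Fin 3) ≠ 2 by decide)]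
        using hσ 0
    have s1 : (σ : Perm (Fin n)) (o hn 2) = b := by simpa using hσ 1
    have s2 : (σ : Perm (Fin n)) (o hn 1) = c := by simpa using hσ 2
    have e := congrArg (fun z => R.A σ * z * (R.A σ)⁻¹) base'
    rw [← trans_pair (σ : Perm (Fin n)) h02 hab s0 s1, ← trans_pair (σ : Perm (Fin n)) h12.symm hbc s1
      s2, ← trans_pair (σ : Perm (Fin n)) h01 hac s0 s2, Q, Q, R.Ψ_trans, R.Ψ_trans, R.Ψ_trans]
    simp only [Q] at e
    convert e using 1 <;> group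

end Fit

end CfsgLib.BPres.Sp
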