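import Cfsg.Agent.BPres.SpPresN

/-!
Two elements generating the symplectic group.
-/

set_option autoImplicit false
set_option linter.unusedSectionVars false
set_option linter.unusedSimpArgs false
set_option linter.style.haveILetI false

namespace CfsgLib.BPres.Sp

open Equiv Subgroup CfsgLib.SpPres
open CfsgLib.BPres.Sp4 (P0 P1 qR qM swp swp_inv swp_sq swp_P0 swp_qR comm01)

universe v

variable {F : Type v} [Field F] {k : ℕ}

theorem T_comm {n : ℕ} {i j : Fin n} (h : i ≠ j) (s t : An.SLn 2 F) : Commute (T i s) (T j t) :=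
  E_comm_disjoint (e1 i) (e1 j) (fun _ _ => h) _ _

theorem PS_T {n : ℕ} (σ : Perm (Fin n)) (j : Fin n) (s : An.SLn 2 F) :
    PS F n σ * T j s * (PS F n σ)⁻¹ = T (σ j) s :=
  PS_E σ (e1 j) (sPl s)

/-- The Coxeter element. -/
noncomputable def cox (F : Type v) [Field F] (k : ℕ) : Spn F (k + 2) :=
  PS F (k + 2) (finRotate (k + 2)) * T 0 sw

theorem cox_T (j : Fin (k + 2)) (hj : j ≠ 0) (s : An.SLn 2 F) :
    cox F k * T j s * (cox F k)⁻¹ = T (j + 1) s := by
  have hc := (T_comm (F := F) hj.symm sw s).eq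
  rw [cox, show j + 1 = finRotate (k + 2) j from (finRotate_apply j).symm, ← PS_T]
  set P := PS F (k + 2) (finRotate (k + 2))
  calc P * T 0 sw * T j s * (P * T 0 sw)⁻¹ = P * (T 0 sw * T j s) * (T 0 sw)⁻¹ * P⁻¹ := by group
    _ = _ := by rw [hc]; group

theorem cox_T0 (s : An.SLn 2 F) :
    cox F k * T 0 s * (cox F k)⁻¹ = T 1 (sw * s * sw⁻¹) := by
  rw [cox, show (1 : Fin (k + 2)) = finRotate (k + 2) 0 by rw [finRotate_apply, zero_add], ← PS_T,
    map_mul (T (0 : Fin (k + 2))), map_mul (T (0 : Fin (k + 2))), map_inv (T (0 : Fin (k + 2)))]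
  group

theorem sw_eq : (sw : An.SLn 2 F) = sa (-1) * sb 1 * sa (-1) := by
  refine sl_ext ?_ ?_ ?_ ?_ <;> simp [sl_mul, sa, sb, sw, mk2_apply]

/-- A criterion for generation. -/
theorem eq_top_of_cox (K : Subgroup (Spn F (k + 2))) (hw : cox F k ∈ K)
    (hu : ∀ t, T 1 (sa t) ∈ K) (hq : ∃ i, E (pr i) (qR 1) ∈ K) : K = ⊤ := by
  have move : ∀ s, T 1 s ∈ K → ∀ j, T j s ∈ K := by
    intro s hs
    have hv : ∀ v : ℕ, ∀ h : v + 1 < k + 2, T (⟨v + 1, h⟩ : Fin (k + 2)) s ∈ K := by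
      intro v
      induction v with
      | zero => intro h; exact hs
      | succ v ih =>
        intro h
        have e := cox_T (F := F) (⟨v + 1, by omega⟩ : Fin (k + 2)) (fun e => by simpa using congrArg Fin.val e) s
        have h' : (⟨v + 1, by omega⟩ : Fin (k + 2)) + 1 = ⟨v + 1 + 1, h⟩ := by
          refine Fin.ext ?_
          rw [Fin.val_add_one_of_lt (Fin.lt_def.2 (by simp only [Fin.val_last]; omega))]
        rw [h'] at e
        rw [← e]
        exact mul_mem (mul_mem hw (ih (by omega))) (inv_mem hw)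
    intro j
    induction j using Fin.cases with
    | zero =>
      have e := cox_T (F := F) (Fin.last (k + 1)) (fun e => by simpa using congrArg Fin.val e) s
      rw [Fin.last_add_one] at e
      rw [← e]
      exact mul_mem (mul_mem hw (hv k (by omega))) (inv_mem hw)
    | succ j => exact hv j.val (by omega)
  have hflip : ∀ s, T 1 s ∈ K → T (1 : Fin (k + 2)) (sw * s * sw⁻¹) ∈ K := fun s hs => by
    rw [← cox_T0]
    exact mul_mem (mul_mem hw (move s hs 0)) (inv_mem hw)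
  have hb : ∀ t, T (1 : Fin (k + 2)) (sb t) ∈ K := fun t => by rw [sb_eq]; exact hflip _ (hu _)
  have hall : ∀ j s, T (j : Fin (k + 2)) s ∈ K := by
    intro j s
    refine move s ?_ j
    refine Sp4.SL2_induction (fun s => T (1 : Fin (k + 2)) s ∈ K) hu ?_ (fun s hs => ?_) (fun s t hs ht => ?_) s
    · show T (1 : Fin (k + 2)) sw ∈ K
      rw [sw_eq, map_mul, map_mul]; exact mul_mem (mul_mem (hu _) (hb _)) (hu _)
    · show T (1 : Fin (k + 2)) s⁻¹ ∈ K
      rw [map_inv]; exact inv_mem hs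
    · show T (1 : Fin (k + 2)) (s * t) ∈ K
      rw [map_mul]; exact mul_mem hs ht
  have hρ : PS F (k + 2) (finRotate (k + 2)) ∈ K := by
    rw [show PS F (k + 2) (finRotate (k + 2)) = cox F k * (T 0 sw)⁻¹ by rw [cox]; group]
    exact mul_mem hw (inv_mem (hall _ _))
  have step : ∀ (i i' : {i : Fin (k + 2) // (i : ℕ) + 1 < k + 2}), (i'.1 : ℕ) = i.1 + 1 →
      (E (pr i) (qR 1) ∈ K ↔ E (pr i') (qR (1 : F)) ∈ K) := by
    intro i i' e
    have hp : (pr i).trans (finRotate (k + 2)).toEmbedding = pr i' := by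
      have key : ∀ x : Fin (k + 2), (x : ℕ) + 1 < k + 2 → ((finRotate (k + 2) x : Fin (k + 2)) : ℕ) = x + 1 :=
        fun x hx => by
          rw [finRotate_apply, Fin.val_add_one_of_lt (Fin.lt_def.2 (by simp only [Fin.val_last]; omega))]
      ext a
      fin_cases a
      · show ((finRotate (k + 2) i.1 : Fin (k + 2)) : ℕ) = i'.1
        rw [key _ i.2, e]
      · show ((finRotate (k + 2) (⟨i.1 + 1, i.2⟩ : Fin (k + 2))) : ℕ) = i'.1 + 1
        rw [key _ (by show (i.1 : ℕ) + 1 + 1 < k + 2; have := i'.2; omega), e]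
    rw [← hp, ← PS_E]
    refine ⟨fun h => mul_mem (mul_mem hρ h) (inv_mem hρ), fun h => ?_⟩
    have := mul_mem (mul_mem (inv_mem hρ) h) hρ
    simpa [mul_assoc] using this
  have hq0 : E (pr (⟨0, by simp⟩ : {i : Fin (k + 2) // (i : ℕ) + 1 < k + 2})) (qR (1 : F)) ∈ K := by
    obtain ⟨⟨⟨i, hi⟩, hi'⟩, h⟩ := hq
    induction i with
    | zero => exact h
    | succ i ih =>
      change i + 1 + 1 < k + 2 at hi'
      exact ih (by omega) (by show i + 1 < k + 2; omega)
        ((step ⟨⟨i, by omega⟩, by show i + 1 < k + 2; omega⟩ _ rfl).2 h)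
  have hq' : ∀ (i : ℕ) (h : i + 1 < k + 2),
      E (pr (⟨⟨i, by omega⟩, h⟩ : {i : Fin (k + 2) // (i : ℕ) + 1 < k + 2})) (qR (1 : F)) ∈ K := by
    intro i
    induction i with
    | zero => intro h; exact hq0
    | succ i ih =>
      intro h
      exact (step ⟨⟨i, by omega⟩, by show i + 1 < k + 2; omega⟩ _ rfl).1 (ih (by omega))
  have hqt : ∀ i t, E (pr i) (qR (t : F)) ∈ K := by
    rintro ⟨⟨i, hi⟩, hi'⟩ t
    by_cases ht : t = 0
    · rw [ht, Fit.qR_zero, map_one]; exact one_mem K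
    have e := (Fit.qR_tor (Units.mk0 t ht) 1).1
    rw [Units.val_mk0, mul_one] at e
    rw [e, map_mul, map_mul, map_inv, E_P0]
    exact mul_mem (mul_mem (hall _ _) (hq' i hi')) (inv_mem (hall _ _))
  rw [eq_top_iff, ← iSup_mem' (F := F) (k + 2)]
  refine iSup_le fun j => (Subgroup.closure_le _).2 fun A hA => ?_
  rcases j with j | i
  · obtain ⟨s, rfl⟩ := exists_plane hA
    exact hall _ _
  · obtain ⟨x, hx, rfl⟩ := exists_short hA
    obtain ⟨r, d, e, rfl⟩ := Fit.first_mem_eq hx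
    rw [SetLike.mem_coe, map_mul, map_mul, E_P0, E_P1]
    exact mul_mem (mul_mem (hqt i r) (hall _ _)) (hall _ _)

variable [Fintype F]

theorem stable_all {y : F} (p : ℕ) [Fact p.Prime] [CharP F p] [Algebra (ZMod p) F]
    (hy : Algebra.adjoin (ZMod p) {y} = ⊤) (P : F → Prop) (h0 : P 0) (hadd : ∀ a b, P a → P b → P (a + b))
    (hneg : ∀ a, P a → P (-a)) (h1 : P 1) (hmul : ∀ t, P t → P (y * t)) (t : F) : P t :=
  SL3Pres.all_of_stable hy
    { carrier := {t | P t}, add_mem' := fun ha hb => hadd _ _ ha hb, zero_mem' := h0, neg_mem' := hneg _ }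
    h1 hmul t

theorem two_gen_large (hF : 3 ≤ Fintype.card F) :
    ∃ a b : Spn F (k + 2), Subgroup.closure ({a, b} : Set (Spn F (k + 2))) = ⊤ := by
  classical
  obtain ⟨p, hcp⟩ := CharP.exists F
  haveI := hcp
  haveI : Fact p.Prime := ⟨CharP.char_is_prime F p⟩
  letI := ZMod.algebra F p
  obtain ⟨m, -, hm⟩ := FiniteField.card F p
  obtain ⟨g0, hg0, hg, -⟩ := SL2Pres.exists_generator (F := F)
  set g : Fˣ := Units.mk0 g0 hg0
  have hx : Algebra.adjoin (ZMod p) {(g : F) ^ 2} = ⊤ := SL2Pres.adjoin_sq hm hg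
  have hx' : Algebra.adjoin (ZMod p) {((g⁻¹ : Fˣ) : F) ^ 2} = ⊤ := SL2Pres.adjoin_sq hm (by
    rw [orderOf_units, orderOf_inv, ← orderOf_units]; exact hg)
  have hg1 : (g : F) ≠ 1 := fun e => by
    change g0 = 1 at e
    rw [e, orderOf_one] at hg
    omega
  set i0 : {i : Fin (k + 2) // (i : ℕ) + 1 < k + 2} := ⟨0, by simp⟩
  have p0 : pr i0 0 = 0 := rfl
  have p1 : pr i0 1 = 1 := rfl
  let a : Spn F (k + 2) := T 0 (sh g) * T 1 (sa 1)
  let b : Spn F (k + 2) := E (pr i0) (qR 1) * cox F k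
  refine ⟨a, b, ?_⟩
  set K := Subgroup.closure ({a, b} : Set (Spn F (k + 2)))
  have ha : a ∈ K := Subgroup.subset_closure (by simp)
  have hb : b ∈ K := Subgroup.subset_closure (by simp)
  have h01 : (0 : Fin (k + 2)) ≠ 1 := by simp
  have hpow : ∀ N : ℕ, (sa (1 : F) : An.SLn 2 F) ^ N = sa (N : F) := fun N => by
    induction N with
    | zero => rw [pow_zero, Nat.cast_zero, sa_zero]
    | succ N ih => rw [pow_succ, ih, sa_mul, Nat.cast_succ]
  have hshpow : (sh g : An.SLn 2 F) ^ Fintype.card F = sh g := by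
    let φ : Fˣ →* An.SLn 2 F := MonoidHom.mk' sh fun u v => by
      refine sl_ext ?_ ?_ ?_ ?_ <;> simp [sl_mul, sh, mk2_apply, mul_comm]
    show φ g ^ _ = φ g
    rw [← map_pow]
    refine congrArg φ (Units.ext ?_)
    rw [Units.val_pow_eq_pow_val, FiniteField.pow_card]
  have hh : T 0 (sh g) ∈ K := by
    have e : a ^ Fintype.card F = T 0 (sh g) := by
      rw [(T_comm h01 (sh g) (sa 1)).mul_pow, ← map_pow, ← map_pow, hshpow, hpow,
        FiniteField.cast_card_eq_zero, sa_zero, map_one, mul_one]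
    rw [← e]; exact pow_mem ha _
  have hu1 : T 1 (sa (1 : F)) ∈ K := by
    have := mul_mem (inv_mem hh) ha
    simpa [a, mul_assoc] using this
  have sh_inv : ∀ l : Fˣ, (sh l : An.SLn 2 F)⁻¹ = sh l⁻¹ := fun l => inv_eq_of_mul_eq_one_right (by
    refine sl_ext ?_ ?_ ?_ ?_ <;> simp [sl_mul, sh, mk2_apply])
  set X := b * T 0 (sh g) * b⁻¹ with hX
  have hXK : X ∈ K := mul_mem (mul_mem hb hh) (inv_mem hb)
  have hswh : (sw : An.SLn 2 F) * sh g * sw⁻¹ = sh g⁻¹ := by
    rw [mul_inv_eq_iff_eq_mul]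
    refine sl_ext ?_ ?_ ?_ ?_ <;> simp [sl_mul, sh, sw, mk2_apply]
  have hXe : X = E (pr i0) (qR 1) * T 1 (sh g⁻¹) * (E (pr i0) (qR 1))⁻¹ := by
    rw [← hswh, ← cox_T0, hX]
    simp only [b]
    group
  set c : F := ((g : F) - 1) * (1 - ((g⁻¹ : Fˣ) : F))
  have hc : c ≠ 0 := mul_ne_zero (sub_ne_zero.2 hg1) (sub_ne_zero.2 fun e => hg1 (by
    have e2 := g.mul_inv
    rw [← e, mul_one] at e2
    exact e2))
  have hXc : E (pr i0) (qR c) ∈ K := by
    have e : (P0 (sh g) : Spn F 2) * (qR 1 * P1 (sh g⁻¹) * (qR 1)⁻¹) * (P0 (sh g))⁻¹ *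
        (qR 1 * P1 (sh g⁻¹) * (qR 1)⁻¹)⁻¹ = qR c := by
      rw [mul_inv_eq_iff_eq_mul, mul_inv_eq_iff_eq_mul]
      have hq : (qR (1 : F) : Spn F 2)⁻¹ = qR (-1) := inv_eq_of_mul_eq_one_right
        (Sp4.ext4 fun a b x y => by simp [Equiv.Perm.mul_apply, Sp4.ρ_qR, Sp4.mkv_inj])
      rw [hq]
      refine Sp4.ext4 fun a b x y => ?_
      simp [Equiv.Perm.mul_apply, Sp4.ρ_qR, Sp4.ρ_P0, Sp4.ρ_P1, act2, sh, mk2_apply, Sp4.mkv_inj, c]
      repeat' apply And.intro
      all_goals (field_simp; try ring)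
    rw [← e]
    simp only [map_mul, map_inv, E_P0, E_P1, p0, p1]
    rw [← hXe]
    exact mul_mem (mul_mem (mul_mem hh hXK) (inv_mem hh)) (inv_mem hXK)
  have hqadd : ∀ t u : F, (qR (t + u) : Spn F 2) = qR t * qR u := fun t u => id_add t u
  have hqneg : ∀ t : F, (qR (-t) : Spn F 2) = (qR t)⁻¹ := fun t =>
    (inv_eq_of_mul_eq_one_right (by rw [← hqadd, add_neg_cancel, Fit.qR_zero])).symm
  have hq1 : E (pr i0) (qR (1 : F)) ∈ K := by
    have key := stable_all p hx (fun t => E (pr i0) (qR (c * t)) ∈ K)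
      (by rw [mul_zero, Fit.qR_zero, map_one]; exact one_mem K)
      (fun x y hx hy => by rw [mul_add, hqadd, map_mul]; exact mul_mem hx hy)
      (fun x hx => by rw [mul_neg, hqneg, map_inv]; exact inv_mem hx)
      (by rw [mul_one]; exact hXc)
      (fun t ht => by
        rw [show c * ((g : F) ^ 2 * t) = (g : F) * ((g : F) * (c * t)) by ring, (Fit.qR_tor g _).1,
          (Fit.qR_tor g _).1]
        simp only [map_mul, map_inv, E_P0, p0]
        exact mul_mem (mul_mem hh (mul_mem (mul_mem hh ht) (inv_mem hh))) (inv_mem hh)) c⁻¹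
    rwa [mul_inv_cancel₀ hc] at key
  have hw : cox F k ∈ K := by
    have := mul_mem (inv_mem hq1) hb
    simpa [b, mul_assoc] using this
  have hh1 : T 1 (sh g⁻¹) ∈ K := by
    have := mul_mem (mul_mem (inv_mem hq1) hXK) hq1
    rw [hXe] at this
    simpa [mul_assoc] using this
  refine eq_top_of_cox K hw (fun t => stable_all p hx' (fun t => T 1 (sa t) ∈ K)
    (by rw [sa_zero, map_one]; exact one_mem K)
    (fun x y hx hy => by rw [← sa_mul, map_mul]; exact mul_mem hx hy)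
    (fun x hx => by
      rw [show (sa (-x) : An.SLn 2 F) = (sa x)⁻¹ from (inv_eq_of_mul_eq_one_right (by
        rw [sa_mul, add_neg_cancel, sa_zero])).symm, map_inv]
      exact inv_mem hx)
    hu1 (fun t ht => ?_) t) ⟨i0, hq1⟩
  have e : (sa (((g⁻¹ : Fˣ) : F) ^ 2 * t) : An.SLn 2 F) = sh g⁻¹ * sa t * (sh g⁻¹)⁻¹ := by
    rw [eq_mul_inv_iff_mul_eq]
    refine sl_ext ?_ ?_ ?_ ?_ <;> simp [sl_mul, sa, sh, mk2_apply]
    field_simp
  rw [e, map_mul, map_mul, map_inv]
  exact mul_mem (mul_mem hh1 ht) (inv_mem hh1)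

theorem ρ_levi {F : Type v} [Field F] (a b x y : F) :
    ρW (qM 1 * swp : Spn F 2) ((a, b), Sp4.mkv x y) = ((x, y + b), Sp4.mkv (a - x) b) := by
  rw [map_mul, Equiv.Perm.mul_apply, Sp4.ρ_swp, Sp4.ρ_qM, one_mul, mul_one]

theorem levi_cube {F : Type v} [Field F] (h2 : (2 : F) = 0) : (qM 1 * swp : Spn F 2) ^ 3 = 1 := by
  have e : ∀ u : F, u + u = 0 := fun u => by rw [← two_mul, h2, zero_mul]
  have en : ∀ u : F, -u = u := fun u => neg_eq_of_add_eq_zero_left (e u)
  refine Sp4.ext4 fun a b x y => ?_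
  rw [pow_succ, pow_succ, pow_one, map_mul, map_mul, Equiv.Perm.mul_apply, Equiv.Perm.mul_apply, ρ_levi,
    ρ_levi, ρ_levi, map_one, Equiv.Perm.one_apply]
  refine Prod.ext (Prod.ext ?_ ?_) (Sp4.mkv_inj.2 ⟨?_, ?_⟩)
  · show x - (a - x) = a
    linear_combination (x - a) * h2
  · show y + b + (b + (y + b)) = b
    linear_combination (y + b) * h2
  · show a - x - (x - (a - x)) = x
    linear_combination (a - 2 * x) * h2
  · show b + (y + b) = y
    linear_combination b * h2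

theorem levi_conj {F : Type v} [Field F] (h2 : (2 : F) = 0) :
    (qM 1 * swp : Spn F 2) * P1 (sa 1) = (qR 1 * P0 (sa 1) * P1 (sa 1)) * (qM 1 * swp) := by
  refine Sp4.ext4 fun a b x y => ?_
  simp [Equiv.Perm.mul_apply, Sp4.ρ_qM, Sp4.ρ_swp, Sp4.ρ_qR, Sp4.ρ_P0, Sp4.ρ_P1, act2, sa, mk2_apply,
    Sp4.mkv_inj, Prod.ext_iff]
  repeat' apply And.intro
  all_goals grind

theorem two_gen_two (hF : Fintype.card F = 2) :
    ∃ a b : Spn F (k + 3), Subgroup.closure ({a, b} : Set (Spn F (k + 3))) = ⊤ := by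
  classical
  haveI : CharP F 2 := charP_of_card_eq_prime hF
  have h2 : (2 : F) = 0 := by exact_mod_cast CharP.cast_eq_zero F 2
  have h11 : (1 : F) + 1 = 0 := by rw [← two_mul, mul_one, h2]
  have hF2 : ∀ t : F, t = 0 ∨ t = 1 := fun t => by
    by_contra h
    rw [not_or] at h
    have h3 := Finset.card_le_univ ({0, 1, t} : Finset F)
    rw [hF] at h3
    have e : ({0, 1, t} : Finset F).card = 3 := by
      simp [Finset.card_insert_of_notMem, Ne.symm h.1, Ne.symm h.2]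
    omega
  set i1 : {i : Fin (k + 3) // (i : ℕ) + 1 < k + 3} := ⟨⟨1, by omega⟩, by show 1 + 1 < k + 3; omega⟩
  let X2 : Spn F 2 := qM 1 * swp
  let x : Spn F (k + 3) := E (pr i1) X2
  let b : Spn F (k + 3) := T 0 (sa 1) * x
  refine ⟨cox F (k + 1), b, ?_⟩
  set K := Subgroup.closure ({cox F (k + 1), b} : Set (Spn F (k + 3)))
  have hw : cox F (k + 1) ∈ K := Subgroup.subset_closure (by simp)
  have hb : b ∈ K := Subgroup.subset_closure (by simp)
  have hc : Commute (T 0 (sa 1) : Spn F (k + 3)) x := by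
    refine E_comm_disjoint (e1 0) (pr i1) (fun a c => ?_) _ _
    fin_cases c <;> exact fun e => absurd (congrArg Fin.val e) (by first | exact (show (0 : ℕ) ≠ 1 by decide) | exact (show (0 : ℕ) ≠ 1 + 1 by decide))
  have hX3 : X2 ^ 3 = 1 := levi_cube h2
  have hT2 : (sa (1 : F) : An.SLn 2 F) * sa 1 = 1 := by rw [sa_mul, h11, sa_zero]
  have hu0 : T 0 (sa 1) ∈ K := by
    have e : b ^ 3 = T 0 (sa 1) := by
      rw [hc.mul_pow, ← map_pow, ← map_pow, hX3, map_one, mul_one, pow_succ, pow_succ, pow_one, hT2, one_mul]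
    rw [← e]; exact pow_mem hb _
  have hx : x ∈ K := by
    have := mul_mem (inv_mem hu0) hb
    simpa [b, mul_assoc] using this
  have hu1b : T 1 (sb (1 : F)) ∈ K := by
    have e := cox_T0 (F := F) (k := k + 1) (sa (-1))
    rw [← sb_eq, show (sa (-1) : An.SLn 2 F) = sa 1 by rw [show (-1 : F) = 1 from neg_eq_of_add_eq_zero_left h11]] at e
    rw [← e]
    exact mul_mem (mul_mem hw hu0) (inv_mem hw)
  have move : ∀ s (v : ℕ) (h : v + 1 < k + 3), T (1 : Fin (k + 3)) s ∈ K → T (⟨v + 1, h⟩ : Fin (k + 3)) s ∈ K := by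
    intro s v
    induction v with
    | zero => intro h hs; exact hs
    | succ v ih =>
      intro h hs
      have e := cox_T (F := F) (k := k + 1) (⟨v + 1, by omega⟩ : Fin (k + 3))
        (fun e => by simpa using congrArg Fin.val e) s
      have h' : (⟨v + 1, by omega⟩ : Fin (k + 3)) + 1 = ⟨v + 1 + 1, h⟩ := by
        refine Fin.ext ?_
        rw [Fin.val_add_one_of_lt (Fin.lt_def.2 (by simp only [Fin.val_last]; omega))]
      rw [h'] at e
      rw [← e]
      exact mul_mem (mul_mem hw (ih (by omega) hs)) (inv_mem hw)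
  have h0b : T (0 : Fin (k + 3)) (sb (1 : F)) ∈ K := by
    have e := cox_T (F := F) (k := k + 1) (Fin.last (k + 2)) (fun e => by simpa using congrArg Fin.val e) (sb 1)
    rw [Fin.last_add_one] at e
    rw [← e]
    exact mul_mem (mul_mem hw (move _ (k + 1) (by omega) hu1b)) (inv_mem hw)
  have hu1 : T 1 (sa (1 : F)) ∈ K := by
    have e := cox_T0 (F := F) (k := k + 1) (sb 1)
    rw [show (sw : An.SLn 2 F) * sb 1 * sw⁻¹ = sa 1 by
      rw [mul_inv_eq_iff_eq_mul]
      refine sl_ext ?_ ?_ ?_ ?_ <;>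
        simp [sl_mul, sa, sb, sw, mk2_apply, neg_eq_of_add_eq_zero_left h11, h11]] at e
    rw [← e]
    exact mul_mem (mul_mem hw h0b) (inv_mem hw)
  have hall : ∀ t, T 1 (sa (t : F)) ∈ K := fun t => by
    rcases hF2 t with rfl | rfl
    · rw [sa_zero, map_one]; exact one_mem K
    · exact hu1
  have hT1 : ∀ v : ℕ, ∀ h : v + 1 < k + 3, T (⟨v + 1, h⟩ : Fin (k + 3)) (sa (1 : F)) ∈ K :=
    fun v h => move _ v h hu1
  refine eq_top_of_cox K hw hall ⟨i1, ?_⟩
  have key : X2 * P1 (sa 1) = (qR 1 * P0 (sa 1) * P1 (sa 1)) * X2 := levi_conj h2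
  have e : E (pr i1) (qR 1) =
      x * E (pr i1) (P1 (sa 1)) * x⁻¹ * (E (pr i1) (P1 (sa 1)))⁻¹ * (E (pr i1) (P0 (sa 1)))⁻¹ := by
    simp only [x, ← map_inv (E (pr i1)), ← map_mul (E (pr i1))]
    refine congrArg _ ?_
    generalize (P1 (sa 1) : Spn F 2) = u at key ⊢
    generalize (P0 (sa 1) : Spn F 2) = v at key ⊢
    rw [key]
    group
  have hP0 : E (pr i1) (P0 (sa (1 : F))) ∈ K := by
    rw [E_P0, show pr i1 0 = ⟨0 + 1, by omega⟩ from rfl]
    exact hT1 0 (by omega)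
  have hP1 : E (pr i1) (P1 (sa (1 : F))) ∈ K := by
    rw [E_P1, show pr i1 1 = ⟨1 + 1, by omega⟩ from rfl]
    exact hT1 1 (by omega)
  rw [e]
  exact mul_mem (mul_mem (mul_mem (mul_mem hx hP1) (inv_mem hx)) (inv_mem hP1)) (inv_mem hP0)

theorem two_gen (m : ℕ) (hm : 2 ≤ m) (hF : m = 2 → 2 < Fintype.card F) :
    ∃ a b : Spn F m, Subgroup.closure ({a, b} : Set (Spn F m)) = ⊤ := by
  rcases Nat.lt_or_ge (Fintype.card F) 3 with h | h
  · have h2 : Fintype.card F = 2 := by have := Fintype.one_lt_card (α := F); omega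
    obtain ⟨k, rfl⟩ : ∃ k, m = k + 3 := ⟨m - 3, by
      rcases eq_or_lt_of_le hm with rfl | h'
      · exact absurd (hF rfl) (by omega)
      · omega⟩
    exact two_gen_two h2
  · obtain ⟨k, rfl⟩ : ∃ k, m = k + 2 := ⟨m - 2, by omega⟩
    exact two_gen_large h

end CfsgLib.BPres.Sp
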