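import Cfsg.Agent.BPres.SpFit
import Mathlib.GroupTheory.NoncommCoprod

/-!
The map of the symplectic group given by fitting maps of `Sp 4` and of the alternating group.
-/

set_option autoImplicit false
set_option linter.unusedSectionVars false
set_option linter.unusedSimpArgs false
set_option linter.style.haveILetI false

namespace CfsgLib.BPres.Sp

open Equiv Subgroup CfsgLib.SpPres
open CfsgLib.BPres.Sp4 (P0 P1 qR qM swp swp_inv swp_sq swp_P0 swp_qR comm01 hom_of_pairs)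

universe v w

variable {F : Type v} [Field F] {n : ℕ}

theorem sPl_injective {m : ℕ} :
    Function.Injective (sPl : Matrix.SpecialLinearGroup (Fin 2) F → Spn F (m + 1)) := fun s t e => by
  have h1 := congrArg (fun A => ρW A ((1, 0), (0 : Vec F m))) e
  have h2 := congrArg (fun A => ρW A ((0, 1), (0 : Vec F m))) e
  simp only [ρ_sPl, Prod.mk.injEq, and_true] at h1 h2
  simp [act2] at h1 h2
  exact sl_ext h1.1 h2.1 h1.2 h2.2

theorem spn_one_eq (A : Spn F 1) : ∃ s, A = sPl s :=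
  exists_of_zero fun l hl => absurd (Fin.ext (by omega)) hl

/-- one index -/
def e1 (j : Fin n) : Fin 1 ↪ Fin n := ⟨fun _ => j, fun a b _ => Subsingleton.elim a b⟩

/-- the plane at an index -/
noncomputable def T (j : Fin n) : Matrix.SpecialLinearGroup (Fin 2) F →* Spn F n := (E (e1 j)).comp sPl

theorem T_injective (j : Fin n) : Function.Injective (T (F := F) j) :=
  (E_injective (e1 j)).comp sPl_injective

theorem T_comp {r : ℕ} (f : Fin r ↪ Fin n) (j : Fin r) (s : Matrix.SpecialLinearGroup (Fin 2) F) :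
    E f (T j s) = T (f j) s := by
  show E f (E (e1 j) _) = E (e1 (f j)) _
  rw [E_comp]; rfl

theorem P1_eq_T (s : Matrix.SpecialLinearGroup (Fin 2) F) : (P1 s : Spn F 2) = T 1 s := by
  show emb (sPl s) = E (e1 1) (sPl s)
  rw [emb_eq_E]
  congr 2
  ext i; fin_cases i; rfl

theorem P0_eq_T (s : Matrix.SpecialLinearGroup (Fin 2) F) : (P0 s : Spn F 2) = T 0 s := by
  calc (P0 s : Spn F 2) = swp * T 1 s * swp := by rw [← P1_eq_T, Fit.swp_P1]
    _ = _ := by
      show swp * E (e1 1) (sPl s) * swp = E (e1 0) (sPl s)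
      conv_lhs => rw [swp_eq_PS]
      nth_rewrite 2 [show PS F 2 (Equiv.swap 0 1) = (PS F 2 (Equiv.swap 0 1))⁻¹ by
        rw [← map_inv, swap_inv]]
      rw [PS_E]
      congr 2

theorem E_P0 (f : Fin 2 ↪ Fin n) (s : Matrix.SpecialLinearGroup (Fin 2) F) : E f (P0 s) = T (f 0) s := by
  rw [P0_eq_T, T_comp]

theorem E_P1 (f : Fin 2 ↪ Fin n) (s : Matrix.SpecialLinearGroup (Fin 2) F) : E f (P1 s) = T (f 1) s := by
  rw [P1_eq_T, T_comp]

theorem hom_ext2 {G : Type*} [Group G] {φ ψ : Spn F 2 →* G} (h0 : ∀ s, φ (P0 s) = ψ (P0 s))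
    (h1 : ∀ s, φ (P1 s) = ψ (P1 s)) (hR : ∀ t, φ (qR t) = ψ (qR t)) (x : Spn F 2) : φ x = ψ x := by
  have : x ∈ φ.eqLocus ψ := by
    refine (top_le_split.trans ((closure_le _).2 ?_)) (Subgroup.mem_top x)
    rintro y ((⟨g, rfl⟩ | ⟨s, rfl⟩) | ⟨t, rfl⟩)
    · obtain ⟨s, rfl⟩ := spn_one_eq g
      exact h1 s
    · exact h0 s
    · exact hR t
  exact this

theorem mem_of_mset {m : ℕ} {k : Idx m} {A : Spn F m} (h : A ∈ mset k) : A ∈ mem' k :=
  Subgroup.subset_closure h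

theorem mem'_first {A : Spn F 2} (h : A ∈ mem' (SpPres.first 0)) : A ∈ mset (SpPres.first 0) := by
  have key : ∀ k, αSp A (eB k) = eB k := by
    induction h using closure_induction with
    | mem x hx => exact hx.1
    | one => intro k; rw [map_one]; rfl
    | mul x y _ _ hx hy => intro k; rw [αSp_mul, hy, hx]
    | inv x _ hx => intro k; conv_lhs => rw [← hx k, αSp_inv]
  refine ⟨key, fun k a b => ?_⟩
  exfalso
  fin_cases k
  · exact a rfl
  · exact b rfl

/-- consecutive indices -/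
def pr {m : ℕ} (i : {i : Fin m // (i : ℕ) + 1 < m}) : Fin 2 ↪ Fin m :=
  pair (a := i.1) (b := ⟨i.1 + 1, i.2⟩) (fun e => by simpa using congrArg Fin.val e)

theorem exists_plane {m : ℕ} {j : Fin m} {A : Spn F m} (h : A ∈ mset (Sum.inl j)) : ∃ s, A = T j s := by
  obtain ⟨g, rfl⟩ := exists_E (e1 j) (A := A) fun k hk => h k fun e => hk ⟨0, e.symm⟩
  obtain ⟨s, rfl⟩ := spn_one_eq g
  exact ⟨s, rfl⟩

theorem exists_short {m : ℕ} {i : {i : Fin m // (i : ℕ) + 1 < m}} {A : Spn F m}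
    (h : A ∈ mset (Sum.inr i)) : ∃ x, x ∈ mem' (SpPres.first 0) ∧ A = E (pr i) x := by
  obtain ⟨g, rfl⟩ := exists_E (pr i) (A := A) fun k hk =>
    ⟨h.1 k, h.2 k (fun e => hk ⟨0, (Fin.ext e).symm⟩) fun e => hk ⟨1, (Fin.ext (by exact e)).symm⟩⟩
  refine ⟨g, subset_closure ⟨fun k => (fix_of_E (pr i) g k).1 (h.1 _), fun k a b => ?_⟩, rfl⟩
  exfalso
  fin_cases k
  · exact a rfl
  · exact b rfl

theorem comm_of_fix_eB {m : ℕ} {A B : Spn F m} (hA : ∀ k, αSp A (eB k) = eB k)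
    (hB : ∀ k, αSp B (eB k) = eB k) : Commute A B := by
  have key : ∀ {C D : Spn F m}, (∀ k, αSp C (eB k) = eB k) → (∀ k, αSp D (eB k) = eB k) →
      ∀ v, αSp D (αSp C v - v) = αSp C v - v := by
    intro C D hC hD v
    have hr : ∀ k, (αSp C v - v) (Sum.inr k) = 0 := fun k => by
      have e := αSp_bl C v (eB k)
      rw [hC, bl_eB_right, bl_eB_right, neg_inj] at e
      rw [Pi.sub_apply, e, sub_self]
    have hw : αSp C v - v = ∑ k, (αSp C v - v) (Sum.inl k) • eB k := by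
      funext z
      rcases z with z | z
      · simp [eB, Finset.sum_apply, Pi.single_apply]
      · rw [hr z]; simp [eB, Finset.sum_apply]
    rw [hw, map_sum]
    exact Finset.sum_congr rfl fun k _ => by rw [map_smul, hD]
  refine αSp_injective (LinearEquiv.ext fun v => ?_)
  rw [αSp_mul, αSp_mul]
  have e1 := key hA hB v
  have e2 := key hB hA v
  rw [map_sub, sub_eq_iff_eq_add] at e1 e2
  rw [e1, e2]
  abel

theorem E_first_fix {m : ℕ} (g : Fin 2 ↪ Fin m) {z : Spn F 2} (hz : z ∈ mem' (SpPres.first 0)) (k : Fin m) :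
    αSp (E g z) (eB k) = eB k := by
  by_cases hk : k ∈ Set.range g
  · obtain ⟨a, rfl⟩ := hk; exact E_fix_eB g z a ((mem'_first hz).1 a)
  · exact (E_fix_out g z hk).1

theorem ext_eB {r : ℕ} (f : Fin r ↪ Fin n) (a : Fin r) : ext f (eB a : Vec F r) = eB (f a) := by
  funext z
  rcases z with z | z <;> by_cases hz : z ∈ Set.range f
  · obtain ⟨i, rfl⟩ := hz
    exact (ext_apply f _ (Sum.inl i)).trans (by simp [eB, Pi.single_apply])
  · rw [ext_apply_inl f _ _ hz]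
    simp [eB, Pi.single_apply, show z ≠ f a from fun e => hz ⟨a, e.symm⟩]
  · obtain ⟨i, rfl⟩ := hz
    exact (ext_apply f _ (Sum.inr i)).trans (by simp [eB, Pi.single_apply])
  · rw [ext_apply_inr f _ _ hz]
    simp [eB]

theorem qEl_fB (m : ℕ) (t : F) :
    αSp (qEl (t • eB 0) : Spn F (m + 2)) (fB 0) = fB 0 + t • eB 1 ∧
      αSp (qEl (t • eB 0) : Spn F (m + 2)) (fB 1) = fB 1 + t • eB 0 := by
  have h := fun p v => ρ_qEl (t • (eB 0 : Vec F (m + 1))) p v
  simp only [ρW_apply] at h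
  refine ⟨?_, ?_⟩ <;> apply split.injective
  · have := h (0, 1) 0
    rw [← split_fB_zero, LinearEquiv.symm_apply_apply] at this
    rw [this, show (1 : Fin (m + 2)) = (0 : Fin (m + 1)).succ from rfl, split.map_add, split.map_smul,
      split_eB_succ, split_fB_zero]
    simp
  · have := h (0, 0) (fB 0)
    rw [← split_fB_succ, LinearEquiv.symm_apply_apply] at this
    rw [show (1 : Fin (m + 2)) = (0 : Fin (m + 1)).succ from rfl, this, split.map_add, split.map_smul,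
      split_eB_zero, split_fB_succ]
    simp [bl_eB_left, fB]

theorem qEl_first (m : ℕ) (t : F) :
    (qEl (t • eB 0) : Spn F (m + 2)) = E (pr ⟨0, by simp⟩) (qR t) := by
  set g : Fin 2 ↪ Fin (m + 2) := pr ⟨0, by simp⟩
  have g0 : g 0 = 0 := rfl
  have g1 : g 1 = 1 := rfl
  have hq : qR t ∈ mem' (F := F) (SpPres.first 0) := Subgroup.subset_closure (qEl_mem_first t)
  have hm := qEl_mem_first (F := F) (m := m) t
  refine ext_basis (fun k => ?_) fun k => ?_
  · rw [E_first_fix g hq, hm.1 k]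
  by_cases hk : k ∈ Set.range g
  · obtain ⟨a, rfl⟩ := hk
    obtain ⟨b0, b1⟩ := qEl_fB (F := F) 0 t
    obtain ⟨c0, c1⟩ := qEl_fB (F := F) m t
    rw [α_E, res_fB]
    fin_cases a
    · show αSp _ (fB (g 0)) = fB (g 0) + ext g (αSp (qR t) (fB 0) - fB 0)
      rw [qR, b0, g0, c0, add_sub_cancel_left, map_smul, ext_eB, g1]
    · show αSp _ (fB (g 1)) = fB (g 1) + ext g (αSp (qR t) (fB 1) - fB 1)
      rw [qR, b1, g1, c1, add_sub_cancel_left, map_smul, ext_eB, g0]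
  · rw [(E_fix_out g _ hk).2, hm.2 k (fun e => hk ⟨0, g0.trans (Fin.ext e).symm⟩)
      fun e => hk ⟨1, g1.trans (Fin.ext e).symm⟩]

theorem T_mem {m : ℕ} (j : Fin m) (s : Matrix.SpecialLinearGroup (Fin 2) F) : T j s ∈ mem' (Sum.inl j) :=
  mem_of_mset fun _ hk => E_fix_out (e1 j) (sPl s) fun ⟨_, e⟩ => hk e.symm

theorem E_mem {m : ℕ} (i : {i : Fin m // (i : ℕ) + 1 < m}) {z : Spn F 2}
    (hz : z ∈ mem' (SpPres.first 0)) : E (pr i) z ∈ mem' (Sum.inr i) :=
  mem_of_mset ⟨E_first_fix (pr i) hz, fun k a b => (E_fix_out (pr i) z fun ⟨c, e⟩ => by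
    fin_cases c
    · exact a (congrArg Fin.val e).symm
    · exact b (congrArg Fin.val e).symm).2⟩

theorem exists_pr {m : ℕ} (j : Fin (m + 2)) :
    ∃ i : {i : Fin (m + 2) // (i : ℕ) + 1 < m + 2}, pr i 0 = j ∨ pr i 1 = j := by
  by_cases hj : (j : ℕ) + 1 < m + 2
  · exact ⟨⟨j, hj⟩, Or.inl rfl⟩
  · exact ⟨⟨⟨(j : ℕ) - 1, by omega⟩, by show (j : ℕ) - 1 + 1 < m + 2; omega⟩,
      Or.inr (Fin.ext (by show (j : ℕ) - 1 + 1 = j; omega))⟩

namespace Fit

variable {hn : 3 ≤ n} {G : Type w} [Group G] (R : Fit F hn G)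

theorem first_mem_eq {x : Spn F 2} (h : x ∈ mem' (SpPres.first 0)) :
    ∃ r d e, x = qR r * P0 (sa d) * P1 (sa e) :=
  Sp4.Sp4D.mset_first (mem'_first h)

/-- The map of the first member of a pair into the target. -/
theorem Ψ_M (f : Fin 2 ↪ Fin n) (r d e : F) :
    R.Ψ f (qR r * P0 (sa d) * P1 (sa e)) = R.Q f r * R.S (f 0) (sa d) * R.S (f 1) (sa e) := by
  rw [map_mul, map_mul, R.Ψ_P0, R.Ψ_P1]; rfl

theorem Q_shared' (f f' : Fin 2 ↪ Fin n) (h : f 1 = f' 0) (h' : f 0 ≠ f' 1) (t u : F) :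
    Commute (R.Q f t) (R.Q f' u) := by
  have e : f = pair (f.injective.ne (show (0 : Fin 2) ≠ 1 by decide)) := by ext i; fin_cases i <;> rfl
  have e' : f' = pair (show f 1 ≠ f' 1 from fun e => f'.injective.ne (show (0 : Fin 2) ≠ 1 by decide)
      (h.symm.trans e)) := by
    ext i; fin_cases i
    · exact congrArg Fin.val h.symm
    · rfl
  rw [e, e']
  exact R.Q_shared _ _ h' t u

theorem Q_disjoint' (f f' : Fin 2 ↪ Fin n) (h : ∀ a b, f a ≠ f' b) (t u : F) :
    Commute (R.Q f t) (R.Q f' u) := by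
  have e : f = pair (f.injective.ne (show (0 : Fin 2) ≠ 1 by decide)) := by ext i; fin_cases i <;> rfl
  have e' : f' = pair (f'.injective.ne (show (0 : Fin 2) ≠ 1 by decide)) := by ext i; fin_cases i <;> rfl
  rw [e, e']
  exact R.Q_disjoint _ _ (h 0 0) (h 0 1) (h 1 0) (h 1 1) t u

theorem M_S (f : Fin 2 ↪ Fin n) {j : Fin n} (h0 : j ≠ f 0) (h1 : j ≠ f 1) {x : Spn F 2}
    (hx : x ∈ mem' (SpPres.first 0)) (s : Matrix.SpecialLinearGroup (Fin 2) F) :
    Commute (R.S j s) (R.Ψ f x) := by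
  obtain ⟨r, d, e, rfl⟩ := first_mem_eq hx
  rw [R.Ψ_M]
  exact ((R.S_Q f h0 h1 _ _).mul_right (R.S_comm h0 _ _)).mul_right (R.S_comm h1 _ _)

theorem M_M_disjoint (f f' : Fin 2 ↪ Fin n) (h : ∀ a b, f a ≠ f' b) {x y : Spn F 2}
    (hx : x ∈ mem' (SpPres.first 0)) (hy : y ∈ mem' (SpPres.first 0)) : Commute (R.Ψ f x) (R.Ψ f' y) := by
  obtain ⟨r, d, e, rfl⟩ := first_mem_eq hx
  rw [R.Ψ_M]
  refine ((?_ : Commute (R.Q f r) _).mul_left (R.M_S f' (h 0 0) (h 0 1) hy _)).mul_left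
    (R.M_S f' (h 1 0) (h 1 1) hy _)
  obtain ⟨r', d', e', rfl⟩ := first_mem_eq hy
  rw [R.Ψ_M]
  exact ((R.Q_disjoint' f f' h _ _).mul_right (R.S_Q f (h 0 0).symm (h 1 0).symm _ _).symm).mul_right
    (R.S_Q f (h 0 1).symm (h 1 1).symm _ _).symm

theorem sa_comm (a b : F) : (sa a : Matrix.SpecialLinearGroup (Fin 2) F) * sa b = sa b * sa a := by
  rw [sa_mul, sa_mul, add_comm]

theorem qR_up (d t : F) : Commute (P0 (sa d) : Spn F 2) (qR t) ∧ Commute (P1 (sa d) : Spn F 2) (qR t) := by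
  refine ⟨?_, ?_⟩ <;> refine Sp4.ext4 fun a b x y => ?_ <;>
    simp [Equiv.Perm.mul_apply, Sp4.ρ_qR, Sp4.ρ_P0, Sp4.ρ_P1, act2, sa, mk2_apply, Sp4.mkv_inj] <;> ring

theorem S_Q_up (f : Fin 2 ↪ Fin n) (d t : F) :
    Commute (R.S (f 0) (sa d)) (R.Q f t) ∧ Commute (R.S (f 1) (sa d)) (R.Q f t) := by
  rw [← R.Ψ_P0, ← R.Ψ_P1]
  exact ⟨(qR_up d t).1.map _, (qR_up d t).2.map _⟩

theorem M_M_shared (f f' : Fin 2 ↪ Fin n) (h : f 1 = f' 0) (h' : f 0 ≠ f' 1) {x y : Spn F 2}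
    (hx : x ∈ mem' (SpPres.first 0)) (hy : y ∈ mem' (SpPres.first 0)) : Commute (R.Ψ f x) (R.Ψ f' y) := by
  have h0 : f 0 ≠ f' 0 := h ▸ f.injective.ne (show (0 : Fin 2) ≠ 1 by decide)
  obtain ⟨r, d, e, rfl⟩ := first_mem_eq hx
  obtain ⟨r', d', e', rfl⟩ := first_mem_eq hy
  rw [R.Ψ_M, R.Ψ_M]
  have h1 : f 1 ≠ f' 1 := h ▸ f'.injective.ne (show (0 : Fin 2) ≠ 1 by decide)
  refine (((?_ : Commute (R.Q f r) _).mul_left ?_).mul_left ?_)
  · refine ((R.Q_shared' f f' h h' _ _).mul_right ?_).mul_right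
      (R.S_Q f h'.symm h1.symm _ _).symm
    rw [← h]; exact (R.S_Q_up f _ _).2.symm
  · exact ((R.S_Q f' h0 h' _ _).mul_right (R.S_comm h0 _ _)).mul_right (R.S_comm h' _ _)
  · refine (Commute.mul_right ?_ ?_).mul_right (R.S_comm h1 _ _)
    · rw [h]; exact (R.S_Q_up f' _ _).1
    · rw [h, commute_iff_eq, ← map_mul, ← map_mul, sa_comm]

variable {m : ℕ} (h : Fin m ↪ Fin n)

/-- the graph on a member -/
noncomputable def Gr : Idx m → Subgroup (Spn F m × G)
  | Sum.inl j => ((T j).prod (R.S (h j))).range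
  | Sum.inr i => ((E (pr i)).prod (R.Ψ ((pr i).trans h))).range

theorem Gr_inj : ∀ (k : Idx m) (b : G), ((1 : Spn F m), b) ∈ R.Gr h k → b = 1
  | Sum.inl j, b, ⟨s, e⟩ => by
    obtain rfl : s = 1 := T_injective j ((congrArg Prod.fst e).trans (map_one _).symm)
    exact (congrArg Prod.snd e).symm.trans (map_one (R.S (h j)))
  | Sum.inr i, b, ⟨s, e⟩ => by
    obtain rfl : s = 1 := E_injective _ ((congrArg Prod.fst e).trans (map_one _).symm)
    exact (congrArg Prod.snd e).symm.trans (map_one (R.Ψ _))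

theorem mset_Gr : ∀ (k : Idx m) (A : Spn F m), A ∈ mset k → A ∈ (R.Gr h k).map (MonoidHom.fst _ _)
  | Sum.inl j, A, hA => by obtain ⟨s, rfl⟩ := exists_plane hA; exact ⟨_, ⟨s, rfl⟩, rfl⟩
  | Sum.inr i, A, hA => by obtain ⟨x, -, rfl⟩ := exists_short hA; exact ⟨_, ⟨x, rfl⟩, rfl⟩

/-- Two members are compatible. -/
def Comp (f : ∀ k : Idx m, ↥(mem' (F := F) k) →* G) (k l : Idx m) : Prop :=
  ∃ K : Subgroup (Spn F m × G), (∀ b, ((1 : Spn F m), b) ∈ K → b = 1) ∧
    (∀ A (hA : A ∈ mset k), (A, f k ⟨A, mem_of_mset hA⟩) ∈ K) ∧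
    ∀ A (hA : A ∈ mset l), (A, f l ⟨A, mem_of_mset hA⟩) ∈ K

theorem Comp.symm {f : ∀ k : Idx m, ↥(mem' (F := F) k) →* G} {k l : Idx m} :
    Comp f k l → Comp f l k
  | ⟨K, a, b, c⟩ => ⟨K, a, c, b⟩

theorem Comp.exists_hom {f : ∀ k : Idx m, ↥(mem' (F := F) k) →* G} {k l : Idx m} (hc : Comp f k l) :
    ∃ Φ : ↥(mem' (F := F) k ⊔ mem' l) →* G,
      (∀ g (hg : g ∈ mem' k), Φ ⟨g, mem_sup_left hg⟩ = f k ⟨g, hg⟩) ∧
        ∀ g (hg : g ∈ mem' l), Φ ⟨g, mem_sup_right hg⟩ = f l ⟨g, hg⟩ := by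
  obtain ⟨K, hinj, hk, hl⟩ := hc
  have full : ∀ k, (∀ A (hA : A ∈ mset k), (A, f k ⟨A, mem_of_mset hA⟩) ∈ K) →
      ∀ g : mem' (F := F) k, ((g : Spn F m), f k g) ∈ K := fun k hk g => by
    have : g ∈ K.comap ((mem' k).subtype.prod (f k)) := by
      refine ((closure_le _).2 ?_) (?_ : g ∈ Subgroup.closure ((mem' k).subtype ⁻¹' mset k))
      · exact fun g hg => hk g.1 hg
      · have ht : Subgroup.closure ((Subtype.val : ↥(Subgroup.closure (mset (F := F) k)) → _) ⁻¹' mset k) = ⊤ :=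
          Subgroup.closure_closure_coe_preimage
        exact (Subgroup.ext_iff.1 ht g).2 trivial
    exact this
  obtain ⟨Φ, hΦ⟩ := hom_of_pairs K hinj (mem' k ⊔ mem' l)
    (sup_le (fun g hg => ⟨_, full k hk ⟨g, hg⟩, rfl⟩) fun g hg => ⟨_, full l hl ⟨g, hg⟩, rfl⟩)
  exact ⟨Φ, fun g hg => hΦ _ _ (full k hk ⟨g, hg⟩) _, fun g hg => hΦ _ _ (full l hl ⟨g, hg⟩) _⟩

/-- the product of two commuting maps -/
theorem exists_prod {X Y : Type*} [Group X] [Group Y] {A B : Type*} [Group A] [Group B] (φ : X →* A × B)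
    (ψ : Y →* A × B) (hc : ∀ x y, Commute (φ x) (ψ y))
    (hi : ∀ x y, (φ x).1 * (ψ y).1 = 1 → (φ x).2 * (ψ y).2 = 1) :
    ∃ K : Subgroup (A × B), (∀ b, ((1 : A), b) ∈ K → b = 1) ∧ (∀ x, φ x ∈ K) ∧ ∀ y, ψ y ∈ K := by
  refine ⟨(φ.noncommCoprod ψ hc).range, ?_, fun x => ⟨(x, 1), by rw [MonoidHom.noncommCoprod_apply, map_one, mul_one]⟩,
    fun y => ⟨(1, y), by rw [MonoidHom.noncommCoprod_apply, map_one, one_mul]⟩⟩
  rintro b ⟨⟨x, y⟩, e⟩
  rw [MonoidHom.noncommCoprod_apply] at e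
  rw [← show (φ x).2 * (ψ y).2 = b from congrArg Prod.snd e]
  exact hi x y (congrArg Prod.fst e)

/-- the members' maps -/
theorem exists_members : ∃ f : ∀ k : Idx m, ↥(mem' (F := F) k) →* G,
    (∀ j s (hs : T j s ∈ mem' (Sum.inl j)), f (Sum.inl j) ⟨T j s, hs⟩ = R.S (h j) s) ∧
    (∀ i x (hx : E (pr i) x ∈ mem' (Sum.inr i)), f (Sum.inr i) ⟨E (pr i) x, hx⟩ = R.Ψ ((pr i).trans h) x) := by
  choose f hf using fun k => hom_of_pairs (R.Gr h k) (R.Gr_inj h k) (mem' k)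
    ((closure_le _).2 (R.mset_Gr h k))
  exact ⟨f, fun j s hs => hf (Sum.inl j) _ _ ⟨s, rfl⟩ hs, fun i x hx => hf (Sum.inr i) _ _ ⟨x, rfl⟩ hx⟩

theorem comp_members (f : ∀ k : Idx m, ↥(mem' (F := F) k) →* G)
    (h0 : ∀ j s (hs : T j s ∈ mem' (Sum.inl j)), f (Sum.inl j) ⟨T j s, hs⟩ = R.S (h j) s)
    (h1 : ∀ i x (hx : E (pr i) x ∈ mem' (Sum.inr i)), f (Sum.inr i) ⟨E (pr i) x, hx⟩ = R.Ψ ((pr i).trans h) x)
    (k l : Idx m) : Comp f k l := by
  have hM : ∀ i (g : Fin 2 ↪ Fin m), g = pr i → ∀ (K : Subgroup (Spn F m × G)),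
      (∀ x : mem' (F := F) (SpPres.first 0), (E g x.1, R.Ψ (g.trans h) x.1) ∈ K) →
      ∀ A (hA : A ∈ mset (Sum.inr i)), (A, f (Sum.inr i) ⟨A, mem_of_mset hA⟩) ∈ K := by
    rintro i _ rfl K hK A hA
    obtain ⟨x, hx, rfl⟩ := exists_short hA
    rw [h1]; exact hK ⟨x, hx⟩
  have hS : ∀ j (K : Subgroup (Spn F m × G)), (∀ s, (T j s, R.S (h j) s) ∈ K) →
      ∀ A (hA : A ∈ mset (Sum.inl j)), (A, f (Sum.inl j) ⟨A, mem_of_mset hA⟩) ∈ K := by
    intro j K hK A hA
    obtain ⟨s, rfl⟩ := exists_plane hA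
    rw [h0]; exact hK s
  let μ : (Fin 2 ↪ Fin m) → mem' (F := F) (SpPres.first 0) →* Spn F m × G := fun g =>
    ((E g).prod (R.Ψ (g.trans h))).comp (Subgroup.subtype _)
  have LR : ∀ j i, Comp f (Sum.inl j) (Sum.inr i) := by
    intro j i
    by_cases hj : j = pr i 0 ∨ j = pr i 1
    · refine ⟨R.Gr h (Sum.inr i), R.Gr_inj h _, hS j _ fun s => ?_, hM i _ rfl _ fun x => ⟨x.1, rfl⟩⟩
      rcases hj with rfl | rfl
      · exact ⟨P0 s, Prod.ext (E_P0 _ _) (R.Ψ_P0 _ _)⟩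
      · exact ⟨P1 s, Prod.ext (E_P1 _ _) (R.Ψ_P1 _ _)⟩
    · rw [not_or] at hj
      obtain ⟨K, hK, k1, k2⟩ := exists_prod ((T j).prod (R.S (h j))) (μ (pr i))
        (fun s x => Prod.commute_iff.2 ⟨E_comm_disjoint (e1 j) (pr i) (fun a b => by
          fin_cases b
          · exact hj.1
          · exact hj.2) _ _, R.M_S ((pr i).trans h) (h.injective.ne hj.1) (h.injective.ne hj.2) x.2 s⟩)
        (fun s x e => by
          have es : sPl s = 1 := E_eq_one_of_disjoint (e1 j) (pr i) (fun a b => by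
            fin_cases b
            · exact hj.1
            · exact hj.2) e
          obtain rfl : s = 1 := sPl_injective (es.trans (map_one _).symm)
          have ex : E (pr i) x.1 = E (pr i) 1 := by simpa [μ] using e
          show R.S (h j) 1 * R.Ψ _ x.1 = 1
          rw [E_injective _ ex, map_one, map_one, mul_one])
      exact ⟨K, hK, hS j K k1, hM i _ rfl K k2⟩
  have adjacent : ∀ i i' : {i : Fin m // (i : ℕ) + 1 < m}, (i'.1 : ℕ) = i.1 + 1 →
      Comp f (Sum.inr i) (Sum.inr i') := by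
    intro i i' hii
    have h10 : pr i 1 = pr i' 0 := Fin.ext hii.symm
    have h01 : pr i 0 ≠ pr i' 1 := fun e => by
      have : (i.1 : ℕ) = i'.1 + 1 := congrArg Fin.val e
      omega
    have hout : pr i 0 ∉ Set.range (pr i') := by
      rintro ⟨a, e⟩
      fin_cases a
      · exact (pr i).injective.ne (show (1 : Fin 2) ≠ 0 by decide) (h10.trans e)
      · exact h01 e.symm
    have hout' : pr i' 1 ∉ Set.range (pr i) := by
      rintro ⟨a, e⟩
      fin_cases a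
      · exact h01 e
      · exact (pr i').injective.ne (show (1 : Fin 2) ≠ 0 by decide) (e.symm.trans h10)
    obtain ⟨K, hK, k1, k2⟩ := exists_prod (μ (pr i)) (μ (pr i'))
      (fun x y => Prod.commute_iff.2 ⟨comm_of_fix_eB (fun k => E_first_fix _ x.2 k) (fun k => E_first_fix _ y.2 k),
        R.M_M_shared ((pr i).trans h) ((pr i').trans h)
        (congrArg h h10) (h.injective.ne h01) x.2 y.2⟩)
      (fun x y e => by
        change E (pr i) x.1 * E (pr i') y.1 = 1 at e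
        show R.Ψ _ x.1 * R.Ψ _ y.1 = 1
        obtain ⟨r, d, u, ex⟩ := first_mem_eq x.2
        obtain ⟨r', d', u', ey⟩ := first_mem_eq y.2
        have fx : αSp x.1 (fB 0) = fB 0 := (fix_of_E (pr i) _ 0).2 (by
          have := congrArg (fun A => αSp A (fB (pr i 0))) e
          simpa [αSp_mul, (E_fix_out (pr i') y.1 hout).2] using this)
        have fy : αSp y.1 (fB 1) = fB 1 := (fix_of_E (pr i') _ 1).2 (by
          have e' : E (pr i') y.1 = E (pr i) x.1⁻¹ := by rw [map_inv]; exact eq_inv_of_mul_eq_one_right e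
          rw [e']; exact (E_fix_out (pr i) _ hout').2)
        rw [ex] at fx
        rw [ey] at fy
        rw [fix_iff] at fx fy
        rw [split_fB_zero] at fx
        rw [show (1 : Fin 2) = (0 : Fin 1).succ from rfl, split_fB_succ,
          show (fB 0 : Vec F 1) = Sp4.mkv 0 1 from funext fun z => by
            rcases z with z | z <;> fin_cases z <;> simp [fB, Sp4.mkv]] at fy
        rw [show ((0 : Vec F 1)) = Sp4.mkv 0 0 from funext fun z => by rcases z with z | z <;> rfl] at fx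
        simp [map_mul, Equiv.Perm.mul_apply, Sp4.ρ_qR, Sp4.ρ_P0, Sp4.ρ_P1, act2, sa, mk2_apply,
          Sp4.mkv_inj] at fx fy
        obtain ⟨rfl, rfl⟩ : d = 0 ∧ r = 0 := fx
        obtain ⟨rfl, rfl⟩ : r' = 0 ∧ u' = 0 := fy
        rw [ex, ey] at e ⊢
        simp only [sa_zero, map_one, mul_one, one_mul, qR_zero] at e ⊢
        rw [E_P1, E_P0, ← h10, ← map_mul] at e
        rw [R.Ψ_P1, R.Ψ_P0]
        show R.S (h (pr i 1)) _ * R.S (h (pr i' 0)) _ = 1
        rw [← h10, ← map_mul, T_injective _ (e.trans (map_one _).symm), map_one])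
    · exact ⟨K, hK, hM i _ rfl K k1, hM i' _ rfl K k2⟩
  have RR : ∀ i i', Comp f (Sum.inr i) (Sum.inr i') := by
    intro i i'
    by_cases e : i = i'
    · subst e
      exact ⟨R.Gr h (Sum.inr i), R.Gr_inj h _, hM i _ rfl _ fun x => ⟨x.1, rfl⟩,
        hM i _ rfl _ fun x => ⟨x.1, rfl⟩⟩
    rcases Nat.lt_trichotomy (i'.1 : ℕ) (i.1 + 1) with hlt | heq | hgt
    rotate_left
    · exact adjacent i i' heq
    all_goals
      by_cases heq' : (i.1 : ℕ) = i'.1 + 1
      · exact (adjacent i' i heq').symm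
      have hdis : ∀ a b, pr i a ≠ pr i' b := fun a b he => by
        have hv := congrArg Fin.val he
        have hne : (i.1 : ℕ) ≠ i'.1 := fun e' => e (Subtype.ext (Fin.ext e'))
        fin_cases a <;> fin_cases b <;> simp [pr, pair] at hv <;> omega
      obtain ⟨K, hK, k1, k2⟩ := exists_prod (μ (pr i)) (μ (pr i'))
        (fun x y => Prod.commute_iff.2 ⟨E_comm_disjoint _ _ hdis _ _, R.M_M_disjoint ((pr i).trans h)
          ((pr i').trans h) (fun a b => h.injective.ne (hdis a b)) x.2 y.2⟩)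
        (fun x y e => by
          have ex : x.1 = 1 := E_eq_one_of_disjoint (pr i) (pr i') hdis e
          have ey : E (pr i') y.1 = E (pr i') 1 := by simpa [μ, ex] using e
          show R.Ψ _ x.1 * R.Ψ _ y.1 = 1
          rw [ex, E_injective _ ey, map_one, map_one, mul_one])
      exact ⟨K, hK, hM i _ rfl K k1, hM i' _ rfl K k2⟩
  rcases k with j | i <;> rcases l with j' | i'
  · by_cases e : j = j'
    · subst e
      exact ⟨R.Gr h (Sum.inl j), R.Gr_inj h _, hS j _ fun s => ⟨s, rfl⟩, hS j _ fun s => ⟨s, rfl⟩⟩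
    obtain ⟨K, hK, k1, k2⟩ := exists_prod ((T j).prod (R.S (h j))) ((T j').prod (R.S (h j')))
      (fun s t => Prod.commute_iff.2 ⟨E_comm_disjoint (e1 j) (e1 j') (fun _ _ => e) _ _,
        R.S_comm (h.injective.ne e) s t⟩)
      (fun s t he => by
        have es : sPl s = 1 := E_eq_one_of_disjoint (e1 j) (e1 j') (fun _ _ => e) he
        obtain rfl : s = 1 := sPl_injective (es.trans (map_one _).symm)
        obtain rfl : t = 1 := T_injective j' (by simpa using he)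
        simp)
    exact ⟨K, hK, hS j K k1, hS j' K k2⟩
  · exact LR j i'
  · exact (LR j' i).symm
  · exact RR i i'

theorem map_T {k : ℕ} (h : Fin (k + 2) ↪ Fin n) (Φ : Spn F (k + 2) →* G)
    (hΦ : ∀ i x, Φ (E (pr i) x) = R.Ψ ((pr i).trans h) x) (j : Fin (k + 2))
    (s : Matrix.SpecialLinearGroup (Fin 2) F) : Φ (T j s) = R.S (h j) s := by
  obtain ⟨i, rfl | rfl⟩ := exists_pr j
  · rw [← E_P0, hΦ, R.Ψ_P0]; rfl
  · rw [← E_P1, hΦ, R.Ψ_P1]; rfl

theorem compat {m : ℕ} (h : Fin (m + 2) ↪ Fin n) (f : ∀ k : Idx (m + 2), ↥(mem' (F := F) k) →* G)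
    (f0 : ∀ j s (hs : T j s ∈ mem' (Sum.inl j)), f (Sum.inl j) ⟨T j s, hs⟩ = R.S (h j) s)
    (f1 : ∀ i x (hx : E (pr i) x ∈ mem' (Sum.inr i)), f (Sum.inr i) ⟨E (pr i) x, hx⟩ = R.Ψ ((pr i).trans h) x)
    (Φ' : Spn F (m + 1) →* G) (hT : ∀ j s, Φ' (T j s) = R.S (((Fin.succEmb (m + 1)).trans h) j) s)
    (hP : ∀ i x, Φ' (E (pr i) x) = R.Ψ ((pr i).trans ((Fin.succEmb (m + 1)).trans h)) x) :
    ∀ a g (hg : g ∈ mem' a),
      Φ' g = f (SpPres.shift a) ⟨emb g, map_emb_le a (mem_map_of_mem emb hg)⟩ := by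
  intro a g hg
  suffices hs : Φ'.comp (mem' a).subtype = (f (SpPres.shift a)).comp ((emb.comp (mem' a).subtype).codRestrict _
      fun g => map_emb_le a (mem_map_of_mem emb g.2)) from DFunLike.congr_fun hs ⟨g, hg⟩
  refine MonoidHom.eq_of_eqOn_dense (s := ((mem' a).subtype ⁻¹' mset a))
    (Subgroup.closure_closure_coe_preimage) ?_
  rintro ⟨x, hx⟩ hxs
  change x ∈ mset a at hxs
  show Φ' x = f (SpPres.shift a) ⟨emb x, map_emb_le a (mem_map_of_mem emb hx)⟩
  rcases a with j | i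
  · obtain ⟨s, rfl⟩ := exists_plane hxs
    rw [hT]
    have e : emb (T j s) = T (Fin.succ j) s := by rw [emb_eq_E, T_comp]; rfl
    refine (f0 j.succ s (T_mem _ _)).symm.trans ?_
    exact congrArg (f (Sum.inl j.succ)) (Subtype.ext e.symm)
  · obtain ⟨z, hz, rfl⟩ := exists_short hxs
    rw [hP]
    have hi : (i.1.succ : ℕ) + 1 < m + 2 := by have := i.2; simp only [Fin.val_succ]; omega
    have hp : (pr i).trans (Fin.succEmb (m + 1)) = pr ⟨i.1.succ, hi⟩ := by
      ext a; fin_cases a <;> rfl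
    have e : emb (E (pr i) z) = E (pr ⟨i.1.succ, hi⟩) z := by rw [emb_eq_E, E_comp, hp]
    have hv : R.Ψ ((pr i).trans ((Fin.succEmb (m + 1)).trans h)) z = R.Ψ ((pr ⟨i.1.succ, hi⟩).trans h) z := by
      rw [← hp]; rfl
    refine hv.trans ((f1 ⟨i.1.succ, hi⟩ z (E_mem _ hz)).symm.trans ?_)
    exact congrArg (f (Sum.inr ⟨i.1.succ, hi⟩)) (Subtype.ext e.symm)

/-- the gluing along a chain -/
theorem exists_chain : ∀ (k : ℕ) (h : Fin (k + 2) ↪ Fin n),
    ∃ Φ : Spn F (k + 2) →* G, ∀ i x, Φ (E (pr i) x) = R.Ψ ((pr i).trans h) x := by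
  intro k
  induction k with
  | zero =>
    intro h
    refine ⟨R.Ψ h, fun i x => ?_⟩
    have e : pr i = Function.Embedding.refl (Fin 2) := by
      obtain ⟨⟨i, hi⟩, hi'⟩ := i
      obtain rfl : i = 0 := by
        change i + 1 < 2 at hi'
        omega
      ext a; fin_cases a <;> rfl
    rw [e, E_id]; rfl
  | succ k ih =>
    intro h
    set h' : Fin (k + 2) ↪ Fin n := (Fin.succEmb (k + 2)).trans h with hh'
    obtain ⟨Φ', hΦ'⟩ := ih h'
    obtain ⟨f, f0, f1⟩ := R.exists_members (m := k + 1 + 2) h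
    have hf : ∀ a b, ∃ Ψ : ↥(mem' (F := F) a ⊔ mem' b) →* G,
        (∀ g (hg : g ∈ mem' a), Ψ ⟨g, mem_sup_left hg⟩ = f a ⟨g, hg⟩) ∧
          ∀ g (hg : g ∈ mem' b), Ψ ⟨g, mem_sup_right hg⟩ = f b ⟨g, hg⟩ :=
      fun a b => (R.comp_members h f f0 f1 a b).exists_hom
    have hcompat := R.compat (m := k + 1) h f f0 f1 Φ' (R.map_T h' Φ' hΦ') hΦ'
    set i0 : {i : Fin (k + 2) // (i : ℕ) + 1 < k + 2} := ⟨0, by simp⟩
    set j0 : {i : Fin (k + 1 + 2) // (i : ℕ) + 1 < k + 1 + 2} := ⟨0, by simp⟩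
    have hq : f (SpPres.first (k + 1)) ⟨qEl ((1 : F) • eB 0), Subgroup.subset_closure (qEl_mem_first 1)⟩ =
        R.Q ((pr j0).trans h) 1 :=
      (congrArg _ (Subtype.ext (qEl_first (k + 1) (1 : F)))).trans
        (f1 j0 _ (E_mem j0 (Subgroup.subset_closure (qEl_mem_first 1))))
    have hperp : ∀ w : Vec F (k + 2), (∀ c : F, w ≠ c • eB 0) → bl (eB 0) w = 0 →
        ∀ g g', αSp g (eB 0) = w → αSp g' (eB 0) = eB 0 + w →
          f (SpPres.first (k + 1)) ⟨qEl ((1 : F) • eB 0), Subgroup.subset_closure (qEl_mem_first 1)⟩ *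
              (Φ' g * f (SpPres.first (k + 1)) ⟨qEl ((1 : F) • eB 0), Subgroup.subset_closure (qEl_mem_first 1)⟩ *
                (Φ' g)⁻¹) =
            Φ' g' * f (SpPres.first (k + 1)) ⟨qEl ((1 : F) • eB 0), Subgroup.subset_closure (qEl_mem_first 1)⟩ *
              (Φ' g')⁻¹ := by
      intro w hw hw0 g g' hg hg'
      have hsc := fun u (hu : αSp u (eB 0) = eB 0) => stab_commute f hf Φ' hcompat u hu 1
      simp only [hq] at hsc
      rw [hq]
      set q := R.Q ((pr j0).trans h) 1 with hqd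
      set a := h 0
      set b := h 1
      set c := h (Fin.succ 1)
      have hab : a ≠ b := h.injective.ne (by simp)
      have hbc : b ≠ c := h.injective.ne ((Fin.succ_injective (k + 2)).ne (show (0 : Fin (k + 2)) ≠ 1 by simp))
      have hac : a ≠ c := h.injective.ne (Fin.succ_ne_zero _).symm
      have eq0 : (pr j0).trans h = pair hab := by ext z; fin_cases z <;> rfl
      have eb : (pr i0).trans h' = pair hbc := by ext z; fin_cases z <;> rfl
      set g0 := E (pr i0) (swp : Spn F 2)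
      set g1 := E (pr i0) (qM (-1) : Spn F 2)
      have hg0 : αSp g0 (eB 0) = eB 1 := by
        rw [show g0 = PS F (k + 2) (Equiv.swap (pr i0 0) (pr i0 1)) from E_swp _, α_PS]
        funext z
        rcases z with z | z <;> simp [pMap, eB, Pi.single_apply, Equiv.symm_apply_eq, i0, pr, pair]
        congr 1
        simp [Equiv.apply_eq_iff_eq_symm_apply, Equiv.symm_swap]
      have hg1 : αSp g1 (eB 0) = eB 0 + eB 1 := by
        have e : αSp (qM (-1) : Spn F 2) (eB 0) = eB 0 + eB 1 := by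
          apply split.injective
          have := Sp4.ρ_qM (-1 : F) 1 0 0 0
          rw [ρW_apply, show Sp4.mkv (0 : F) 0 = 0 from funext fun z => by rcases z with z | z <;> rfl,
            ← split_eB_zero, LinearEquiv.symm_apply_apply] at this
          rw [this, map_add, split_eB_zero, show (1 : Fin 2) = (0 : Fin 1).succ from rfl, split_eB_succ]
          refine Prod.ext (Prod.ext (by simp) (by simp)) (funext fun z => ?_)
          rcases z with z | z <;> fin_cases z <;> simp [Sp4.mkv, eB]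
        show αSp g1 (eB (pr i0 0)) = eB (pr i0 0) + eB (pr i0 1)
        rw [α_E, res_eB, e, add_sub_cancel_left, ext_eB]
      obtain ⟨u, hu0, hu1⟩ : ∃ u : Spn F (k + 2), αSp u (eB 0) = eB 0 ∧ αSp u (eB 1) = w := by
        have hw' : (split w).2 ≠ 0 := fun e => by
          refine hw (split w).1.1 (split.injective ?_)
          rw [map_smul, split_eB_zero]
          rw [bl_eB_left] at hw0
          refine Prod.ext (Prod.ext (by simp) ?_) (by simp [e])
          simpa [split] using hw0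
        obtain ⟨u1, hu1⟩ := trans_vec (split w).2 hw'
        obtain ⟨v, hv⟩ := exists_dual_vec hw'
        have key : ∀ (p : F × F) (v' : Vec F (k + 1)),
            split (αSp (qEl ((split w).1.1 • v) * emb u1) (split.symm (p, v'))) =
              ((p.1 + bl ((split w).1.1 • v) (αSp u1 v'), p.2), αSp u1 v' + p.2 • ((split w).1.1 • v)) :=
          fun p v' => by
            rw [← ρW_apply, map_mul, Equiv.Perm.mul_apply, ρ_emb, ρ_qEl]
        refine ⟨qEl ((split w).1.1 • v) * emb u1, ?_, ?_⟩ <;> apply split.injective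
        · have := key ((1 : F), (0 : F)) 0
          rw [← split_eB_zero, LinearEquiv.symm_apply_apply] at this
          rw [this, split_eB_zero]
          simp
        · have := key ((0 : F), (0 : F)) (eB 0)
          rw [← split_eB_succ, LinearEquiv.symm_apply_apply, Fin.succ_zero_eq_one] at this
          rw [this, hu1, map_smul, LinearMap.smul_apply, hv]
          rw [bl_eB_left] at hw0
          refine Prod.ext (Prod.ext (by simp) ?_) (by simp)
          simpa [split] using hw0.symm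
      have conj_eq : ∀ g g₂ : Spn F (k + 2), αSp g (eB 0) = αSp g₂ (eB 0) →
          Φ' g * q * (Φ' g)⁻¹ = Φ' g₂ * q * (Φ' g₂)⁻¹ := by
        intro g g₂ e
        have := hsc (g₂⁻¹ * g) (by rw [αSp_mul, e, αSp_inv])
        rw [map_mul, map_inv] at this
        calc Φ' g * q * (Φ' g)⁻¹ = Φ' g₂ * ((Φ' g₂)⁻¹ * Φ' g * q) * (Φ' g)⁻¹ := by group
          _ = _ := by rw [this]; group
      have hu : Φ' u * q * (Φ' u)⁻¹ = q := by rw [hsc u hu0, mul_inv_cancel_right]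
      rw [conj_eq g (u * g0) (by rw [hg, αSp_mul, hg0, hu1]),
        conj_eq g' (u * g1) (by rw [hg', αSp_mul, hg1, map_add, hu0, hu1])]
      have hbase : q * (Φ' g0 * q * (Φ' g0)⁻¹) = Φ' g1 * q * (Φ' g1)⁻¹ := by
        rw [hΦ', hΦ', eb, hqd, eq0, R.Q_conj hab hbc hac]
        exact R.Q_perp hab hbc hac
      calc q * (Φ' (u * g0) * q * (Φ' (u * g0))⁻¹)
          = (Φ' u * q * (Φ' u)⁻¹) * (Φ' (u * g0) * q * (Φ' (u * g0))⁻¹) := by rw [hu]
        _ = Φ' u * (q * (Φ' g0 * q * (Φ' g0)⁻¹)) * (Φ' u)⁻¹ := by rw [map_mul]; group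
        _ = Φ' u * (Φ' g1 * q * (Φ' g1)⁻¹) * (Φ' u)⁻¹ := by rw [hbase]
        _ = _ := by rw [map_mul]; group
    obtain ⟨Φ, hΦ⟩ := exists_hom' f hf Φ' (Or.inr hperp) hcompat
    refine ⟨Φ, fun i x => ?_⟩
    refine hom_ext2 (φ := Φ.comp (E (pr i))) (ψ := R.Ψ ((pr i).trans h)) (fun s => ?_) (fun s => ?_)
      (fun t => ?_) x
    · show Φ (E (pr i) (P0 s)) = _
      rw [E_P0, hΦ _ _ (T_mem _ s), f0, R.Ψ_P0]; rfl
    · show Φ (E (pr i) (P1 s)) = _
      rw [E_P1, hΦ _ _ (T_mem _ s), f0, R.Ψ_P1]; rfl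
    · exact (hΦ _ _ (E_mem i (Subgroup.subset_closure (qEl_mem_first t)))).trans (f1 i _ _)

theorem map_Q {k : ℕ} {hn : 3 ≤ k + 2} (R : Fit F hn G) (Φ : Spn F (k + 2) →* G)
    (hΦ : ∀ i x, Φ (E (pr i) x) = R.Ψ (pr i) x) (d : ℕ) :
    ∀ (a b : Fin (k + 2)) (hab : a ≠ b), (b : ℕ) = a + d + 1 →
      ∀ t, Φ (E (pair hab) (qR t)) = R.Q (pair hab) t := by
  induction d with
  | zero =>
    intro a b hab e t
    have hp : pair hab = pr ⟨a, by omega⟩ := by
      ext z; fin_cases z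
      · rfl
      · show (b : ℕ) = a + 1
        omega
    rw [hp, hΦ]; rfl
  | succ d ih =>
    intro a c hac e t
    set b : Fin (k + 2) := ⟨a + d + 1, by omega⟩ with hb
    have hbv : (b : ℕ) = a + d + 1 := rfl
    have hab : a ≠ b := fun e' => by
      have := congrArg Fin.val e'
      omega
    have hbc : b ≠ c := fun e' => by
      have := congrArg Fin.val e'
      omega
    have hp : pair hbc = pr ⟨b, by omega⟩ := by
      ext z; fin_cases z
      · rfl
      · show (c : ℕ) = (b : ℕ) + 1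
        omega
    have he : E (pair hac) (qR t) =
        E (pair hbc) swp * E (pair hab) (qR t) * (E (pair hbc) (swp : Spn F 2))⁻¹ := by
      rw [E_swp, PS_E, trans_pair _ hab hac]
      · exact Equiv.swap_apply_of_ne_of_ne hab hac
      · exact Equiv.swap_apply_left _ _
    have h2 : Φ (E (pair hbc) swp) = R.Ψ (pair hbc) swp := by rw [hp]; exact hΦ _ _
    rw [he, map_mul, map_mul, map_inv, ih a b hab hbv, h2, R.Q_conj hab hbc hac]

theorem map_all {k : ℕ} {hn : 3 ≤ k + 2} (R : Fit F hn G) (Φ : Spn F (k + 2) →* G)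
    (hΦ : ∀ i x, Φ (E (pr i) x) = R.Ψ (pr i) x) (f : Fin 2 ↪ Fin (k + 2)) (x : Spn F 2) :
    Φ (E f x) = R.Ψ f x := by
  have hT : ∀ j s, Φ (T j s) = R.S j s := R.map_T (Function.Embedding.refl _) Φ hΦ
  refine hom_ext2 (φ := Φ.comp (E f)) (ψ := R.Ψ f) (fun s => ?_) (fun s => ?_) (fun t => ?_) x
  · show Φ (E f (P0 s)) = _
    rw [E_P0, hT, R.Ψ_P0]
  · show Φ (E f (P1 s)) = _
    rw [E_P1, hT, R.Ψ_P1]
  · show Φ (E f (qR t)) = R.Q f t
    have h10 : f 1 ≠ f 0 := f.injective.ne (by decide)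
    rcases Nat.lt_trichotomy (f 0 : ℕ) (f 1) with hlt | heq | hgt
    · have hf : f = pair h10.symm := by ext z; fin_cases z <;> rfl
      rw [hf]; exact R.map_Q Φ hΦ ((f 1 : ℕ) - (f 0) - 1) _ _ _ (by omega) t
    · exact absurd (Fin.ext heq) h10.symm
    · have hs : swapPair f = pair h10 := by
        ext z; fin_cases z <;> rfl
      have e : E f (qR t) = E (swapPair f) (qR t) := by rw [E_swapPair, swp_qR]
      rw [e, ← R.Q_swap f, hs]
      exact R.map_Q Φ hΦ ((f 0 : ℕ) - (f 1) - 1) _ _ _ (by omega) t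

theorem c3_prod (hn : 3 ≤ n) : ((c3 hn : alternatingGroup (Fin n)) : Perm (Fin n)) =
    Equiv.swap (o hn 0) (o hn 1) * Equiv.swap (o hn 1) (o hn 2) := by
  have h01 := o_ne hn (show (0 : Fin 3) ≠ 1 by decide)
  have h02 := o_ne hn (show (0 : Fin 3) ≠ 2 by decide)
  have h12 := o_ne hn (show (1 : Fin 3) ≠ 2 by decide)
  refine Equiv.ext fun z => ?_
  rw [Perm.mul_apply]
  by_cases hz : z ∈ Set.range (o hn)
  · obtain ⟨i, rfl⟩ := hz
    rw [c3_o]
    fin_cases i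
    · exact ((congrArg (Equiv.swap _ _) (swap_apply_of_ne_of_ne h01 h02)).trans (swap_apply_left _ _)).symm
    · exact ((congrArg (Equiv.swap _ _) (swap_apply_left _ _)).trans
        (swap_apply_of_ne_of_ne h02.symm h12.symm)).symm
    · exact ((congrArg (Equiv.swap _ _) (swap_apply_right _ _)).trans (swap_apply_right _ _)).symm
  · rw [swap_apply_of_ne_of_ne (fun e => hz ⟨1, e.symm⟩) (fun e => hz ⟨2, e.symm⟩),
      swap_apply_of_ne_of_ne (fun e => hz ⟨0, e.symm⟩) (fun e => hz ⟨1, e.symm⟩), c3, altEmb_apply_outside]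
    exact hz

theorem map_PS (Φ : Spn F n →* G) (hΦ : ∀ f x, Φ (E f x) = R.Ψ f x) (σ : alternatingGroup (Fin n)) :
    Φ (PS F n σ) = R.A σ := by
  have h01 := o_ne hn (show (0 : Fin 3) ≠ 1 by decide)
  have h02 := o_ne hn (show (0 : Fin 3) ≠ 2 by decide)
  have h12 := o_ne hn (show (1 : Fin 3) ≠ 2 by decide)
  have hconj : ∀ σ : alternatingGroup (Fin n),
      Φ (PS F n ((σ * c3 hn * σ⁻¹ : alternatingGroup (Fin n)) : Perm (Fin n))) =
        R.A (σ * c3 hn * σ⁻¹) := by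
    intro σ
    have eP : PS F n ((σ * c3 hn * σ⁻¹ : alternatingGroup (Fin n)) : Perm (Fin n)) =
        E ((f01 hn).trans (σ : Perm (Fin n)).toEmbedding) swp *
          E ((f12 hn).trans (σ : Perm (Fin n)).toEmbedding) swp := by
      rw [Subgroup.coe_mul, Subgroup.coe_mul, Subgroup.coe_inv, map_mul, map_mul, map_inv, c3_prod, map_mul,
        ← PS_E, ← PS_E, E_swp, E_swp]
      show _ = PS F n _ * PS F n (Equiv.swap (o hn 0) (o hn 1)) * _ *
        (PS F n _ * PS F n (Equiv.swap (o hn 1) (o hn 2)) * _)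
      group
    rw [eP, map_mul, hΦ, hΦ, R.Ψ_trans, R.Ψ_trans, R.Ψ_first, R.Ψ12, map_mul R.A, map_mul R.A, map_inv]
    conv_rhs => rw [R.cid]
    group
  have hval : c3 hn = cyc (o hn 0) (o hn 1) (o hn 2) :=
    altEmb_cyc ⟨BPres.first hn, first_injective hn⟩ (by decide) (by decide)
  refine DFunLike.congr_fun (hom_ext_cyc (φ := Φ.comp ((PS F n).comp (alternatingGroup _).subtype))
    (ψ := R.A) h01 fun i hi0 hi1 => ?_) σ
  obtain ⟨σ, hσ⟩ := exists_triple (hn := hn) (triple_injective h01 hi1.symm hi0.symm) 0 1 (by decide)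
  show Φ (PS F n ((cyc (o hn 0) (o hn 1) i : alternatingGroup _) : Perm _)) = _
  rcases hσ with hσ | hσ
  · have e : σ * c3 hn * σ⁻¹ = cyc (o hn 0) (o hn 1) i := by
      rw [hval, cyc_conj σ h01 h02, hσ 0, hσ 1, hσ 2]; rfl
    rw [← e]; exact hconj σ
  · have e : σ * (c3 hn)⁻¹ * σ⁻¹ = cyc (o hn 0) (o hn 1) i := by
      rw [hval, cyc_inv h01 h02 h12, cyc_conj σ h01.symm h12]
      have e0 := hσ 0
      have e1 := hσ 1
      have e2 := hσ 2
      rw [swap_apply_of_ne_of_ne (by decide) (by decide)] at e2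
      simp at e0 e1 e2
      rw [e0, e1, e2]
    rw [← e, show σ * (c3 hn)⁻¹ * σ⁻¹ = (σ * c3 hn * σ⁻¹)⁻¹ by group, map_inv R.A, Subgroup.coe_inv,
      map_inv (PS F n), map_inv Φ, hconj]

theorem exists_map : ∃ Φ : Spn F n →* G,
    (∀ f x, Φ (E f x) = R.Ψ f x) ∧ ∀ σ : alternatingGroup (Fin n), Φ (PS F n σ) = R.A σ := by
  have _ := hn
  obtain ⟨k, rfl⟩ : ∃ k, n = k + 2 := ⟨n - 2, by omega⟩
  obtain ⟨Φ, hΦ⟩ := R.exists_chain k (Function.Embedding.refl _)
  exact ⟨Φ, R.map_all Φ hΦ, R.map_PS Φ (R.map_all Φ hΦ)⟩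

end Fit

end CfsgLib.BPres.Sp
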