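import Cfsg.Agent.BPres.SpMain
import Cfsg.Agent.BPres.Sp4Pres
import Cfsg.Agent.BPres.SLnPres

/-!
Short presentations of the symplectic groups.
-/

set_option autoImplicit false
set_option linter.unusedSectionVars false
set_option linter.unusedSimpArgs false
set_option linter.style.haveILetI false

namespace CfsgLib.BPres.Sp

open Equiv Subgroup CfsgLib.SpPres
open CfsgLib.BPres.Sp4 (P0 P1 qR qM swp swp_inv swp_sq swp_P0 swp_qR comm01)

universe v w

variable {F : Type v} [Field F] {n : ℕ}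

theorem f01_trans (hn : 3 ≤ n) (σ : Perm (Fin n)) (h0 : σ (o hn 0) = o hn 0) (h1 : σ (o hn 1) = o hn 1) :
    (f01 hn).trans σ.toEmbedding = f01 hn :=
  Fit.trans_pair σ _ _ h0 h1

theorem f01_flip (hn : 3 ≤ n) (σ : Perm (Fin n)) (h0 : σ (o hn 0) = o hn 1) (h1 : σ (o hn 1) = o hn 0) :
    (f01 hn).trans σ.toEmbedding = swapPair (f01 hn) := by
  rw [f01, Fit.trans_pair σ _ (o_ne hn (show (1 : Fin 3) ≠ 0 by decide)) h0 h1]
  ext i; fin_cases i <;> rfl

theorem f12_trans (hn : 3 ≤ n) : (f01 hn).trans (c3 hn : Perm (Fin n)).toEmbedding = f12 hn :=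
  Fit.trans_pair _ _ _ (c3_o hn 0) (c3_o hn 1)

theorem qEl_add_perp {m : ℕ} (u v : Vec F m) (h : bl u v = 0) :
    (qEl u * qEl v : Spn F (m + 1)) = qEl (u + v) :=
  ρW_injective <| Equiv.ext fun ⟨p, x⟩ => by
    rw [map_mul, Equiv.Perm.mul_apply, ρ_qEl, ρ_qEl, ρ_qEl]
    simp only [map_add, map_smul, LinearMap.add_apply, smul_eq_mul, h, mul_zero, add_zero, smul_add]
    refine Prod.ext (Prod.ext ?_ rfl) ?_
    · show _ + _ = _; ring
    · show _ = _; abel_nf

/-- the identity between short root elements in three pairs -/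
theorem perp3 : (E (pair (show (0 : Fin 3) ≠ 1 by decide)) (qR 1) : Spn F 3) *
      (E (pair (show (1 : Fin 3) ≠ 2 by decide)) swp * E (pair (show (0 : Fin 3) ≠ 1 by decide)) (qR 1) *
        (E (pair (show (1 : Fin 3) ≠ 2 by decide)) (swp : Spn F 2))⁻¹) =
    E (pair (show (1 : Fin 3) ≠ 2 by decide)) (qM (-1)) * E (pair (show (0 : Fin 3) ≠ 1 by decide)) (qR 1) *
      (E (pair (show (1 : Fin 3) ≠ 2 by decide)) (qM (-1) : Spn F 2))⁻¹ := by
  have e01 : (E (pair (show (0 : Fin 3) ≠ 1 by decide)) (qR 1) : Spn F 3) = qEl ((1 : F) • eB 0) := by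
    rw [qEl_first 1 (1 : F)]
    congr 2
  have e12 : ∀ g : Spn F 2, (E (pair (show (1 : Fin 3) ≠ 2 by decide)) g : Spn F 3) = emb g := fun g => by
    rw [emb_eq_E]
    congr 2
    ext i; fin_cases i <;> rfl
  have hs : αSp (swp : Spn F 2) (eB 0) = eB 1 := by
    rw [swp_eq_PS, α_PS]
    funext z
    rcases z with z | z <;> fin_cases z <;> simp [pMap, eB, Pi.single_apply]
  have hm : αSp (qM (-1) : Spn F 2) (eB 0) = eB 0 + eB 1 := by
    apply split.injective
    have := Sp4.ρ_qM (-1 : F) 1 0 0 0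
    rw [ρW_apply, show Sp4.mkv (0 : F) 0 = 0 from funext fun z => by rcases z with z | z <;> rfl,
      ← split_eB_zero, LinearEquiv.symm_apply_apply] at this
    rw [this, map_add, split_eB_zero, show (1 : Fin 2) = (0 : Fin 1).succ from rfl, split_eB_succ]
    refine Prod.ext (Prod.ext (by simp) (by simp)) (funext fun z => ?_)
    rcases z with z | z <;> fin_cases z <;> simp [Sp4.mkv, eB]
  rw [e12, e12, e01, one_smul, emb_qEl, emb_qEl, hs, hm, qEl_add_perp _ _ (by rw [bl_eB_left]; simp [eB])]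

/-- The relations hold in the symplectic group. -/
theorem target_perp (hn : 3 ≤ n) :
    (E (f01 hn) (qR 1) : Spn F n) * (E (f12 hn) swp * E (f01 hn) (qR 1) * (E (f12 hn) (swp : Spn F 2))⁻¹) =
      E (f12 hn) (qM (-1)) * E (f01 hn) (qR 1) * (E (f12 hn) (qM (-1) : Spn F 2))⁻¹ := by
  set e : Fin 3 ↪ Fin n := ⟨o hn, first_injective hn⟩
  have h01 : (pair (show (0 : Fin 3) ≠ 1 by decide)).trans e = f01 hn := by ext i; fin_cases i <;> rfl
  have h12 : (pair (show (1 : Fin 3) ≠ 2 by decide)).trans e = f12 hn := by ext i; fin_cases i <;> rfl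
  rw [← h01, ← h12, ← E_comp, ← E_comp, ← E_comp, ← map_inv (E e), ← map_inv (E e), ← map_mul, ← map_mul,
    ← map_mul, ← map_mul, ← map_mul, perp3]

theorem exists_E_rep (hn : 3 ≤ n) (f : Fin 2 ↪ Fin n) (x : Spn F 2) :
    ∃ (σ : alternatingGroup (Fin n)) (y : Spn F 2),
      E f x = PS F n σ * E (f01 hn) y * (PS F n σ)⁻¹ := by
  obtain ⟨σ, b, hσ⟩ := Fit.exists_rep (hn := hn) f
  cases b
  · refine ⟨σ, x, ?_⟩
    rw [PS_E]
    congr 2
    ext i
    exact congrArg Fin.val (hσ i).symm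
  · refine ⟨σ, swp * x * swp, ?_⟩
    rw [← E_swapPair, PS_E]
    congr 2
    ext i
    exact congrArg Fin.val (hσ i).symm

theorem top_le_planes :
    (⊤ : Subgroup (Spn F (n + 2))) ≤ Subgroup.closure {A | ∃ (f : Fin 2 ↪ Fin (n + 2)) (x : Spn F 2), A = E f x} := by
  rw [← iSup_mem' (F := F) (n + 2)]
  refine iSup_le fun k => (Subgroup.closure_le _).2 fun A hA => Subgroup.subset_closure ?_
  rcases k with j | i
  · obtain ⟨s, rfl⟩ := exists_plane hA
    obtain ⟨i, rfl | rfl⟩ := exists_pr j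
    · exact ⟨pr i, P0 s, (E_P0 _ _).symm⟩
    · exact ⟨pr i, P1 s, (E_P1 _ _).symm⟩
  · obtain ⟨x, -, rfl⟩ := exists_short hA
    exact ⟨_, _, rfl⟩

variable [Fintype F]

theorem lift_lift' {α : Type*} {β : Type*} {G : Type*} [Group G] (W : α → FreeGroup β) (f : β → G)
    (r : FreeGroup α) :
    FreeGroup.lift f (FreeGroup.lift W r) = FreeGroup.lift (fun i => FreeGroup.lift f (W i)) r :=
  DFunLike.congr_fun (FreeGroup.ext_hom ((FreeGroup.lift f).comp (FreeGroup.lift W))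
    (FreeGroup.lift fun i => FreeGroup.lift f (W i)) fun i => by simp) r

/-- Gluing the two presentations along given relations. -/
theorem glue_pres (hn : 3 ≤ n) {k r s : ℕ} (hA : HasPresN (alternatingGroup (Fin n)) k r)
    (R0 : List (FreeGroup (Spn F 2 ⊕ alternatingGroup (Fin n)))) (hlen : R0.length ≤ s)
    (hsat : ∀ x ∈ R0,
      FreeGroup.lift (Sum.elim (fun y => E (f01 hn) y) fun σ : alternatingGroup (Fin n) => PS F n (σ : Perm (Fin n))) x = 1)
    (huniv : ∀ (G : Type) [Group G] (ψ : Spn F 2 →* G) (A : alternatingGroup (Fin n) →* G),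
      (∀ x ∈ R0, FreeGroup.lift (Sum.elim (fun y => ψ y) fun σ => A σ) x = 1) →
        ∃ R : Fit F hn G, R.ψ = ψ ∧ R.A = A) :
    HasPresN (Spn F n) (5 + k) (21 + r + s) := by
  classical
  obtain ⟨R1, f1, hR1, Q1⟩ := hasPresN_Sp4 (F := F)
  obtain ⟨R2, f2, hR2, Q2⟩ := hA
  choose W1 hW1 using exists_word Q1.gen
  choose W2 hW2 using exists_word Q2.gen
  let W : Spn F 2 ⊕ alternatingGroup (Fin n) → FreeGroup (Fin 5 ⊕ Fin k) :=
    Sum.elim (fun y => FreeGroup.map Sum.inl (W1 y)) fun σ => FreeGroup.map Sum.inr (W2 σ)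
  let PA : alternatingGroup (Fin n) →* Spn F n := (PS F n).comp (alternatingGroup (Fin n)).subtype
  let f : Fin 5 ⊕ Fin k → Spn F n := Sum.elim (fun i => E (f01 hn) (f1 i)) fun i => PA (f2 i)
  have hW : ∀ {G : Type v} [Group G] (φ : Spn F n →* G) (z : Spn F 2 ⊕ alternatingGroup (Fin n)),
      FreeGroup.lift (fun i => φ (f i)) (W z) = φ (Sum.elim (fun y => E (f01 hn) y) (fun σ => PA σ) z) := by
    intro G _ φ z
    rcases z with y | σ
    · show FreeGroup.lift _ (FreeGroup.map Sum.inl (W1 y)) = _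
      rw [lift_map, ← lift_comp φ, show (fun i => f (Sum.inl i)) = fun i => E (f01 hn) (f1 i) from rfl,
        ← lift_comp, hW1]
      rfl
    · show FreeGroup.lift _ (FreeGroup.map Sum.inr (W2 σ)) = _
      rw [lift_map, ← lift_comp φ, show (fun i => f (Sum.inr i)) = fun i => PA (f2 i) from rfl,
        ← lift_comp, hW2]
      rfl
  refine hasPresN_of (α := Fin 5 ⊕ Fin k) (f := f)
    (R := R1.map (FreeGroup.map Sum.inl) ++ R2.map (FreeGroup.map Sum.inr) ++ R0.map (FreeGroup.lift W))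
    ⟨fun x hx => ?_, ?_, fun G _ f' hf' => ?_⟩ (by simp) (by simp; omega)
  · simp only [List.mem_append, List.mem_map] at hx
    rcases hx with (⟨y, hy, rfl⟩ | ⟨y, hy, rfl⟩) | ⟨y, hy, rfl⟩
    · rw [lift_map]
      exact (lift_comp (E (f01 hn)) f1 y).symm.trans (by rw [Q1.rel y hy, map_one])
    · rw [lift_map]
      exact (lift_comp PA f2 y).symm.trans (by rw [Q2.rel y hy, map_one])
    · rw [lift_lift']
      refine Eq.trans ?_ (hsat y hy)
      exact congrArg (fun g => FreeGroup.lift g y) (funext fun z => hW (MonoidHom.id _) z)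
  · obtain ⟨m, rfl⟩ : ∃ m, n = m + 2 := ⟨n - 2, by omega⟩
    rw [eq_top_iff]
    refine top_le_planes.trans ((Subgroup.closure_le _).2 ?_)
    rintro _ ⟨g, x, rfl⟩
    obtain ⟨σ, y, e⟩ := exists_E_rep hn g x
    have h1 : ∀ y, E (f01 hn) y ∈ Subgroup.closure (Set.range f) := fun y => by
      rw [← FreeGroup.range_lift_eq_closure]
      exact ⟨W (Sum.inl y), hW (MonoidHom.id _) (Sum.inl y)⟩
    have h2 : PA σ ∈ Subgroup.closure (Set.range f) := by
      rw [← FreeGroup.range_lift_eq_closure]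
      exact ⟨W (Sum.inr σ), hW (MonoidHom.id _) (Sum.inr σ)⟩
    rw [SetLike.mem_coe, e]
    exact mul_mem (mul_mem h2 (h1 y)) (inv_mem h2)
  obtain ⟨ψ, hψ⟩ := Q1.univ G (fun i => f' (Sum.inl i)) fun y hy => by
    rw [← lift_map]
    exact hf' _ (List.mem_append.2 (Or.inl (List.mem_append.2 (Or.inl (List.mem_map.2 ⟨y, hy, rfl⟩)))))
  obtain ⟨A, hA'⟩ := Q2.univ G (fun i => f' (Sum.inr i)) fun y hy => by
    rw [← lift_map]
    exact hf' _ (List.mem_append.2 (Or.inl (List.mem_append.2 (Or.inr (List.mem_map.2 ⟨y, hy, rfl⟩)))))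
  obtain ⟨R, rfl, rfl⟩ := huniv G ψ A fun y hy => by
    refine Eq.trans ?_ (hf' _ (List.mem_append.2 (Or.inr (List.mem_map.2 ⟨y, hy, rfl⟩))))
    rw [lift_lift']
    refine congrArg (fun g => FreeGroup.lift g y) (funext fun z => ?_)
    rcases z with x | σ
    · show ψ x = FreeGroup.lift f' (FreeGroup.map Sum.inl (W1 x))
      rw [lift_map, ← show (fun i => ψ (f1 i)) = _ from funext hψ, ← lift_comp, hW1]
    · show A σ = FreeGroup.lift f' (FreeGroup.map Sum.inr (W2 σ))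
      rw [lift_map, ← show (fun i => A (f2 i)) = _ from funext hA', ← lift_comp, hW2]
  obtain ⟨Φ, hΦ, hΦ'⟩ := R.exists_map
  refine ⟨Φ, fun i => ?_⟩
  rcases i with i | i
  · show Φ (E (f01 hn) (f1 i)) = _
    rw [hΦ, R.Ψ_first, hψ]
  · show Φ (PS F n (f2 i : Perm (Fin n))) = _
    rw [hΦ', hA']

open FreeGroup (of)

theorem mem_closure_ind {A : Type*} [Group A] {S : Finset A} (hS : Subgroup.closure (S : Set A) = ⊤)
    {G : Type*} [Group G] (φ : A →* G) {z : G} (h : ∀ t ∈ S, Commute (φ t) z) (x : A) : Commute (φ x) z := by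
  have hx : x ∈ Subgroup.closure (S : Set A) := by rw [hS]; trivial
  induction hx using Subgroup.closure_induction with
  | mem t ht => exact h t ht
  | one => rw [map_one]; exact Commute.one_left _
  | mul a b _ _ ha hb => rw [map_mul]; exact ha.mul_left hb
  | inv a _ ha => rw [map_inv]; exact ha.inv_left

theorem hom_ext2' {G : Type*} [Group G] {φ ψ : Spn F 2 →* G} (h0 : ∀ s, φ (P0 s) = ψ (P0 s))
    (h1 : ∀ s, φ (P1 s) = ψ (P1 s)) (hR : φ (qR 1) = ψ (qR 1)) (x : Spn F 2) : φ x = ψ x := by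
  refine hom_ext2 h0 h1 (fun t => ?_) x
  by_cases ht : t = 0
  · rw [ht, Fit.qR_zero, map_one, map_one]
  · have e := (Fit.qR_tor (Units.mk0 t ht) 1).1
    rw [Units.val_mk0, mul_one] at e
    simp only [e, map_mul, map_inv, h0, hR]

theorem pair_ext {G : Type*} [Group G] {φ ψ : An.SLn 2 F →* G} {a b : An.SLn 2 F}
    (hab : Subgroup.closure ({a, b} : Set (An.SLn 2 F)) = ⊤) (ha : φ a = ψ a) (hb : φ b = ψ b)
    (x : An.SLn 2 F) : φ x = ψ x := by
  refine DFunLike.congr_fun (MonoidHom.eq_of_eqOn_dense hab ?_) x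
  rintro y (rfl | rfl)
  · exact ha
  · exact hb

theorem fit_common (hn : 3 ≤ n) {G : Type w} [Group G] (ψ : Spn F 2 →* G)
    (A : alternatingGroup (Fin n) →* G) {a b : An.SLn 2 F}
    (hab : Subgroup.closure ({a, b} : Set (An.SLn 2 F)) = ⊤)
    (ha : Commute (ψ (P0 a)) (A (c3 hn) * ψ (qR 1) * (A (c3 hn))⁻¹))
    (hb : Commute (ψ (P0 b)) (A (c3 hn) * ψ (qR 1) * (A (c3 hn))⁻¹)) (x : An.SLn 2 F) :
    Commute (ψ (P0 x)) (A (c3 hn) * ψ (qR 1) * (A (c3 hn))⁻¹) := by
  classical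
  refine mem_closure_ind (S := {a, b}) (by simpa using hab) (ψ.comp P0) (fun t ht => ?_) x
  simp only [Finset.mem_insert, Finset.mem_singleton] at ht
  rcases ht with rfl | rfl
  · exact ha
  · exact hb

theorem target_conj (hn : 3 ≤ n) (σ : alternatingGroup (Fin n)) (x : Spn F 2) :
    PS F n (σ : Perm (Fin n)) * E (f01 hn) x * (PS F n (σ : Perm (Fin n)))⁻¹ =
      E ((f01 hn).trans (σ : Perm (Fin n)).toEmbedding) x :=
  PS_E _ _ _

theorem target_first (f : Fin 2 ↪ Fin n) (g : Fin 2 ↪ Fin n) :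
    Commute (E f (qR 1) : Spn F n) (E g (qR 1)) :=
  comm_of_fix_eB (fun k => E_first_fix f (Subgroup.subset_closure (qEl_mem_first 1)) k)
    fun k => E_first_fix g (Subgroup.subset_closure (qEl_mem_first 1)) k

theorem target_ms (hn : 3 ≤ n) (a : An.SLn 2 F) :
    Commute (E (f01 hn) (P0 a) : Spn F n) (E (f12 hn) (qR 1)) := by
  rw [E_P0]
  refine E_comm_disjoint (e1 _) (f12 hn) (fun i j => ?_) _ _
  fin_cases j
  · exact o_ne hn (by decide)
  · exact o_ne hn (by decide)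

theorem target_cid (hn : 3 ≤ n) :
    PS F n (c3 hn : Perm (Fin n)) = E (f01 hn) swp * E (f12 hn) (swp : Spn F 2) := by
  rw [E_swp, E_swp, Fit.c3_prod hn, map_mul]
  rfl

theorem hasPresN_Sp_large (hn : 4 ≤ n) {k r : ℕ} (hA : HasPresN (alternatingGroup (Fin n)) k r) :
    HasPresN (Spn F n) (5 + k) (21 + r + 15) := by
  classical
  have h3 : 3 ≤ n := by omega
  obtain ⟨a, b, hab⟩ := SL2_gen_two (F := F)
  set D0 : Finset (Fin n) := Finset.univ.erase (o h3 0)
  set D1 : Finset (Fin n) := D0.erase (o h3 1)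
  obtain ⟨S0, hS0, hS0g⟩ := exists_gens D0
  obtain ⟨S1, hS1, hS1g⟩ := exists_gens D1
  let X : Spn F 2 → FreeGroup (Spn F 2 ⊕ alternatingGroup (Fin n)) := fun y => of (Sum.inl y)
  let Y : alternatingGroup (Fin n) → FreeGroup (Spn F 2 ⊕ alternatingGroup (Fin n)) := fun σ => of (Sum.inr σ)
  let C : FreeGroup (Spn F 2 ⊕ alternatingGroup (Fin n)) → FreeGroup (Spn F 2 ⊕ alternatingGroup (Fin n)) →
      FreeGroup (Spn F 2 ⊕ alternatingGroup (Fin n)) := fun u v => u * v * (v * u)⁻¹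
  let cj : alternatingGroup (Fin n) → Spn F 2 → FreeGroup (Spn F 2 ⊕ alternatingGroup (Fin n)) :=
    fun σ y => Y σ * X y * (Y σ)⁻¹
  set c := c3 h3
  let R0 : List (FreeGroup (Spn F 2 ⊕ alternatingGroup (Fin n))) :=
    [cj (τ4 hn) (P0 a) * (X (P1 a))⁻¹, cj (τ4 hn) (P0 b) * (X (P1 b))⁻¹,
      cj (τ4 hn) (qR 1) * (X (qR 1))⁻¹, C (X (P0 a)) (cj c (qR 1)), C (X (P0 b)) (cj c (qR 1)),
      C (X (qR 1)) (cj c (qR 1)), C (X (qR 1)) (cj (π4 hn) (qR 1)),
      X (qR 1) * (cj c swp * X (qR 1) * (cj c swp)⁻¹) * (cj c (qM (-1)) * X (qR 1) * (cj c (qM (-1)))⁻¹)⁻¹,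
      Y c * (X swp * cj c swp)⁻¹] ++
    S0.toList.map (fun σ => C (Y (altEmb (valEmb D0) σ)) (X (P0 a))) ++
    S0.toList.map (fun σ => C (Y (altEmb (valEmb D0) σ)) (X (P0 b))) ++
    S1.toList.map (fun σ => C (Y (altEmb (valEmb D1) σ)) (X (qR 1)))
  have hD0 : ∀ σ : alternatingGroup D0,
      ((altEmb (valEmb D0) σ : alternatingGroup (Fin n)) : Perm (Fin n)) (o h3 0) = o h3 0 := fun σ =>
    altEmb_apply_outside _ _ fun ⟨z, hz⟩ => by
      have := z.2
      simp only [D0, Finset.mem_erase] at this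
      exact this.1 hz
  have hD1 : ∀ σ : alternatingGroup D1, ∀ i : Fin 3, i = 0 ∨ i = 1 →
      ((altEmb (valEmb D1) σ : alternatingGroup (Fin n)) : Perm (Fin n)) (o h3 i) = o h3 i := fun σ i hi =>
    altEmb_apply_outside _ _ fun ⟨z, hz⟩ => by
      have := z.2
      simp only [D1, D0, Finset.mem_erase] at this
      rcases hi with rfl | rfl
      · exact this.2.1 hz
      · exact this.1 hz
  have t0 : (τ4 hn : Perm (Fin n)) (o h3 0) = o h3 1 := by
    rw [show o h3 0 = BPres.first hn 0 from rfl, τ4, dbl_apply]; rfl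
  have t1 : (τ4 hn : Perm (Fin n)) (o h3 1) = o h3 0 := by
    rw [show o h3 1 = BPres.first hn 1 from rfl, τ4, dbl_apply]; rfl
  refine glue_pres h3 hA R0 ?_ (fun x hx => ?_) (fun G _ ψ A h0 => ?_)
  · simp only [R0, List.length_append, List.length_map, List.length_cons, List.length_nil,
      Finset.length_toList]
    omega
  · have hc : ∀ y, PS F n (c : Perm (Fin n)) * E (f01 h3) y * (PS F n (c : Perm (Fin n)))⁻¹ =
        E (f12 h3) y := fun y => by rw [target_conj, f12_trans]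
    have hτ : ∀ y, PS F n (τ4 hn : Perm (Fin n)) * E (f01 h3) y * (PS F n (τ4 hn : Perm (Fin n)))⁻¹ =
        E (f01 h3) (swp * y * swp) := fun y => by rw [target_conj, f01_flip h3 _ t0 t1, E_swapPair]
    simp only [R0, List.mem_append, List.mem_map, List.mem_cons, List.not_mem_nil, or_false] at hx
    rcases hx with (((rfl | rfl | rfl | rfl | rfl | rfl | rfl | rfl | rfl) | ⟨σ, -, rfl⟩) | ⟨σ, -, rfl⟩) |
        ⟨σ, -, rfl⟩ <;>
      simp only [X, Y, C, cj, map_mul, map_inv, FreeGroup.lift_apply_of, Sum.elim_inl, Sum.elim_inr,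
        mul_inv_eq_one, hc, hτ, swp_P0, swp_qR]
    · exact (target_ms h3 a).eq
    · exact (target_ms h3 b).eq
    · exact (target_first _ _).eq
    · rw [target_conj]; exact (target_first _ _).eq
    · exact target_perp h3
    · exact target_cid h3
    · rw [← mul_inv_eq_iff_eq_mul, target_conj, E_P0, E_P0]
      exact congrArg (fun j => T j a) (hD0 σ)
    · rw [← mul_inv_eq_iff_eq_mul, target_conj, E_P0, E_P0]
      exact congrArg (fun j => T j b) (hD0 σ)
    · rw [← mul_inv_eq_iff_eq_mul, target_conj, f01_trans h3 _ (hD1 σ 0 (Or.inl rfl)) (hD1 σ 1 (Or.inr rfl))]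
  simp only [R0, List.forall_mem_append, List.forall_mem_map, List.forall_mem_cons, List.not_mem_nil,
    false_imp_iff, implies_true, and_true, X, Y, C, cj, map_mul, map_inv, FreeGroup.lift_apply_of,
    Sum.elim_inl, Sum.elim_inr, mul_inv_eq_one, Finset.mem_toList] at h0
  obtain ⟨⟨⟨⟨r1, r2, r3, r4, r5, r6, r7, r8, r9⟩, r10⟩, r11⟩, r12⟩ := h0
  have hS0' : ∀ σ : alternatingGroup (Fin n), (σ : Perm (Fin n)) (o h3 0) = o h3 0 →
      ∀ x, Commute (A σ) (ψ (P0 x)) := by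
    intro σ s0 x
    obtain ⟨τ, rfl⟩ := exists_preimage D0 σ fun y hy => by
      have : y = o h3 0 := by simpa [D0] using hy
      rw [this, s0]
    refine ((mem_closure_ind (S := {a, b}) (by simpa using hab) (ψ.comp P0)
      (z := A (altEmb (valEmb D0) τ)) (fun t ht => ?_) x)).symm
    simp only [Finset.mem_insert, Finset.mem_singleton] at ht
    rcases ht with rfl | rfl
    · exact (mem_closure_ind hS0g (A.comp (altEmb (valEmb D0))) (z := ψ (P0 t)) r10 τ).symm
    · exact (mem_closure_ind hS0g (A.comp (altEmb (valEmb D0))) (z := ψ (P0 t)) r11 τ).symm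
  have hS1' : ∀ σ : alternatingGroup (Fin n), (σ : Perm (Fin n)) (o h3 0) = o h3 0 →
      (σ : Perm (Fin n)) (o h3 1) = o h3 1 → Commute (A σ) (ψ (qR 1)) := by
    intro σ s0 s1
    obtain ⟨τ, rfl⟩ := exists_preimage D1 σ fun y hy => by
      by_cases h0 : y = o h3 0
      · rw [h0, s0]
      · have : y = o h3 1 := by simpa [D1, D0, h0] using hy
        rw [this, s1]
    exact mem_closure_ind hS1g (A.comp (altEmb (valEmb D1))) (z := ψ (qR 1)) r12 τ
  set τ := τ4 hn with hτdef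
  have hττ : τ * τ = 1 := by
    refine Subtype.ext (Equiv.ext fun y => ?_)
    show (τ : Perm (Fin n)) ((τ : Perm (Fin n)) y) = y
    by_cases hy : y ∈ Set.range (BPres.first hn)
    · obtain ⟨i, rfl⟩ := hy
      rw [hτdef, τ4, dbl_apply, dbl_apply]
      refine congrArg _ ?_
      fin_cases i <;> rfl
    · have e : (τ : Perm (Fin n)) y = y := by
        show Equiv.swap _ _ (Equiv.swap _ _ y) = y
        rw [swap_apply_of_ne_of_ne (fun e => hy ⟨_, e.symm⟩) (fun e => hy ⟨_, e.symm⟩),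
          swap_apply_of_ne_of_ne (fun e => hy ⟨_, e.symm⟩) (fun e => hy ⟨_, e.symm⟩)]
      rw [e, e]
  have hτinv : τ⁻¹ = τ := inv_eq_of_mul_eq_one_right hττ
  have hτ0 : ∀ x, A τ * ψ (P0 x) * (A τ)⁻¹ = ψ (P1 x) := pair_ext
    (φ := (MulAut.conj (A τ)).toMonoidHom.comp (ψ.comp P0)) (ψ := ψ.comp P1) hab r1 r2
  have hτ1 : ∀ x, A τ * ψ (P1 x) * (A τ)⁻¹ = ψ (P0 x) := fun x => by
    rw [← hτ0]
    calc A τ * (A τ * ψ (P0 x) * (A τ)⁻¹) * (A τ)⁻¹ = A (τ * τ) * ψ (P0 x) * (A (τ * τ))⁻¹ := by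
          rw [map_mul]; group
      _ = _ := by rw [hττ, map_one]; group
  have hτψ : ∀ x, A τ * ψ x * (A τ)⁻¹ = ψ (swp * x * swp) := by
    intro x
    rw [show swp * x * swp = (MulAut.conj (swp : Spn F 2)).toMonoidHom x by
      show _ = swp * x * swp⁻¹; rw [swp_inv]]
    refine hom_ext2' (φ := (MulAut.conj (A τ)).toMonoidHom.comp ψ)
      (ψ := ψ.comp (MulAut.conj (swp : Spn F 2)).toMonoidHom) (fun s => ?_) (fun s => ?_) ?_ x
    · show A τ * ψ (P0 s) * (A τ)⁻¹ = ψ (swp * P0 s * swp⁻¹)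
      rw [hτ0, swp_inv, swp_P0]
    · show A τ * ψ (P1 s) * (A τ)⁻¹ = ψ (swp * P1 s * swp⁻¹)
      rw [hτ1, swp_inv, Fit.swp_P1]
    · show A τ * ψ (qR 1) * (A τ)⁻¹ = ψ (swp * qR 1 * swp⁻¹)
      rw [r3, swp_inv, swp_qR]
  have hfix : ∀ σ : alternatingGroup (Fin n), (σ : Perm (Fin n)) (o h3 0) = o h3 0 →
      (σ : Perm (Fin n)) (o h3 1) = o h3 1 → ∀ x, Commute (A σ) (ψ x) := by
    intro σ s0 s1 x
    have key : A σ * ψ x * (A σ)⁻¹ = ψ x := hom_ext2'
      (φ := (MulAut.conj (A σ)).toMonoidHom.comp ψ) (ψ := ψ)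
      (fun s => mul_inv_eq_of_eq_mul (hS0' σ s0 s).eq)
      (fun s => by
        show A σ * ψ (P1 s) * (A σ)⁻¹ = _
        have hc := (hS0' (τ⁻¹ * σ * τ) (by
          show (τ : Perm (Fin n))⁻¹ ((σ : Perm (Fin n)) ((τ : Perm (Fin n)) (o h3 0))) = _
          rw [t0, s1, Perm.inv_def, Equiv.symm_apply_eq, t0]) s).eq
        rw [← hτ0]
        calc A σ * (A τ * ψ (P0 s) * (A τ)⁻¹) * (A σ)⁻¹
            = A τ * (A (τ⁻¹ * σ * τ) * ψ (P0 s)) * (A (τ⁻¹ * σ * τ))⁻¹ * (A τ)⁻¹ := by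
              simp only [map_mul, map_inv]; group
          _ = _ := by rw [hc]; group)
      (mul_inv_eq_of_eq_mul (hS1' σ s0 s1).eq) x
    exact mul_inv_eq_iff_eq_mul.1 key
  refine ⟨{
    ψ := ψ
    A := A
    fix := hfix
    flip := fun σ s0 s1 x => ?_
    rot0 := fun x => ?_
    ms := fit_common h3 ψ A hab r4 r5
    mm := r6
    mm' := fun _ => r7
    perp := r8
    cid := r9 }, rfl, rfl⟩
  · have hc := hfix (τ * σ) (by
      show (τ : Perm (Fin n)) ((σ : Perm (Fin n)) (o h3 0)) = _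
      rw [s0, t1]) (by
      show (τ : Perm (Fin n)) ((σ : Perm (Fin n)) (o h3 1)) = _
      rw [s1, t0]) x
    rw [← hτψ, show σ = τ * (τ * σ) by rw [← mul_assoc, hττ, one_mul], map_mul A τ, mul_inv_rev,
      mul_assoc (A τ), hc.eq]
    group
  · have hc := hS0' (τ * c) (by
      show (τ : Perm (Fin n)) ((c : Perm (Fin n)) (o h3 0)) = _
      rw [c3_o h3 0]
      exact t1) x
    rw [← hτ0, show c3 h3 = τ * (τ * c) by rw [← mul_assoc, hττ, one_mul], map_mul A τ, mul_inv_rev,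
      mul_assoc (A τ), hc.eq]
    group

theorem hasPresN_alt_three : HasPresN (alternatingGroup (Fin 3)) 1 1 := by
  let X : FreeGroup (Fin 1) := FreeGroup.of 0
  refine ⟨[X ^ 3], ![cyc 0 1 2], le_rfl, fun r hr => ?_, ?_, fun G _ f' hf' => ?_⟩
  · simp only [List.mem_cons, List.not_mem_nil, or_false] at hr
    subst hr
    simp only [map_pow, X, FreeGroup.lift_apply_of]
    exact cyc_cube (a := (0 : Fin 3)) (b := 1) (i := 2) (by decide) (by decide) (by decide)
  · rw [eq_top_iff, ← closure_cyc (show (0 : Fin 3) ≠ 1 by decide), Subgroup.closure_le]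
    rintro _ ⟨i, h1, h2, rfl⟩
    refine Subgroup.subset_closure ⟨0, ?_⟩
    fin_cases i
    · exact absurd rfl h1
    · exact absurd rfl h2
    · rfl
  · simp only [List.forall_mem_cons, List.not_mem_nil, false_imp_iff, implies_true, and_true, map_pow,
      X, FreeGroup.lift_apply_of] at hf'
    obtain ⟨φ, hφ⟩ := carmichael (show (0 : Fin 3) ≠ 1 by decide) ![1, 1, f' 0]
      (fun i h1 h2 => by fin_cases i <;> first | exact absurd rfl h1 | exact absurd rfl h2 | assumption)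
      (fun i j hi1 hi2 hj1 hj2 hij => by
        fin_cases i <;> fin_cases j <;>
          first | exact absurd rfl hi1 | exact absurd rfl hi2 | exact absurd rfl hj1 |
            exact absurd rfl hj2 | exact absurd rfl hij)
    exact ⟨φ, fun i => by fin_cases i; exact hφ 2 (by decide) (by decide)⟩

theorem alt_three_cases (σ : alternatingGroup (Fin 3)) : ∀ i : Fin 3, (σ : Perm (Fin 3)) i = i →
    σ = 1 := by
  revert σ
  decide

theorem hasPresN_Sp_three : HasPresN (Spn F 3) 6 29 := by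
  classical
  have h3 : 3 ≤ 3 := le_rfl
  obtain ⟨a, b, hab⟩ := SL2_gen_two (F := F)
  let X : Spn F 2 → FreeGroup (Spn F 2 ⊕ alternatingGroup (Fin 3)) := fun y => of (Sum.inl y)
  let Y : alternatingGroup (Fin 3) → FreeGroup (Spn F 2 ⊕ alternatingGroup (Fin 3)) := fun σ => of (Sum.inr σ)
  let C : FreeGroup (Spn F 2 ⊕ alternatingGroup (Fin 3)) → FreeGroup (Spn F 2 ⊕ alternatingGroup (Fin 3)) →
      FreeGroup (Spn F 2 ⊕ alternatingGroup (Fin 3)) := fun u v => u * v * (v * u)⁻¹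
  let cj : alternatingGroup (Fin 3) → Spn F 2 → FreeGroup (Spn F 2 ⊕ alternatingGroup (Fin 3)) :=
    fun σ y => Y σ * X y * (Y σ)⁻¹
  set c := c3 h3
  let R0 : List (FreeGroup (Spn F 2 ⊕ alternatingGroup (Fin 3))) :=
    [cj c (P0 a) * (X (P1 a))⁻¹, cj c (P0 b) * (X (P1 b))⁻¹, C (X (P0 a)) (cj c (qR 1)),
      C (X (P0 b)) (cj c (qR 1)), C (X (qR 1)) (cj c (qR 1)),
      X (qR 1) * (cj c swp * X (qR 1) * (cj c swp)⁻¹) * (cj c (qM (-1)) * X (qR 1) * (cj c (qM (-1)))⁻¹)⁻¹,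
      Y c * (X swp * cj c swp)⁻¹]
  refine glue_pres h3 hasPresN_alt_three R0 (s := 7) (le_of_eq rfl) (fun x hx => ?_) (fun G _ ψ A h0 => ?_)
  · have hc : ∀ y, PS F 3 (c : Perm (Fin 3)) * E (f01 h3) y * (PS F 3 (c : Perm (Fin 3)))⁻¹ =
        E (f12 h3) y := fun y => by rw [target_conj, f12_trans]
    simp only [R0, List.mem_cons, List.not_mem_nil, or_false] at hx
    rcases hx with rfl | rfl | rfl | rfl | rfl | rfl | rfl <;>
      simp only [X, Y, C, cj, map_mul, map_inv, FreeGroup.lift_apply_of, Sum.elim_inl, Sum.elim_inr,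
        mul_inv_eq_one, hc]
    · rw [E_P0, E_P1]; rfl
    · rw [E_P0, E_P1]; rfl
    · exact (target_ms h3 a).eq
    · exact (target_ms h3 b).eq
    · exact (target_first _ _).eq
    · exact target_perp h3
    · exact target_cid h3
  simp only [R0, List.forall_mem_cons, List.not_mem_nil, false_imp_iff, implies_true, and_true, X, Y, C, cj,
    map_mul, map_inv, FreeGroup.lift_apply_of, Sum.elim_inl, Sum.elim_inr, mul_inv_eq_one] at h0
  obtain ⟨r1, r2, r4, r5, r6, r8, r9⟩ := h0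
  refine ⟨{
    ψ := ψ
    A := A
    fix := fun σ s0 _ x => by rw [alt_three_cases σ _ s0, map_one]; exact Commute.one_left _
    flip := fun σ s0 s1 => by
      exfalso
      have h2 : (σ : Perm (Fin 3)) (o h3 2) = o h3 2 := by
        have key : ∀ σ : Perm (Fin 3), σ 0 = 1 → σ 1 = 0 → σ 2 = 2 := by decide
        exact key σ.1 s0 s1
      rw [alt_three_cases σ _ h2] at s0
      exact o_ne h3 (show (0 : Fin 3) ≠ 1 by decide) s0
    rot0 := pair_ext (φ := (MulAut.conj (A c)).toMonoidHom.comp (ψ.comp P0)) (ψ := ψ.comp P1) hab r1 r2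
    ms := fit_common h3 ψ A hab r4 r5
    mm := r6
    mm' := fun h4 => absurd h4 (by norm_num)
    perp := r8
    cid := r9 }, rfl, rfl⟩

end CfsgLib.BPres.Sp
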